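import Mathlib
import Cfsg.Agent.Lib.ThreeTrans.Tower.Types
import Cfsg.Prelude.Def_FischerSpaces

/-! The widths 22, 23, 24 of the types M(22), M(23), M(24). -/

set_option autoImplicit false
set_option linter.unusedSectionVars false

namespace CfsgLib.ThreeTrans.TypeTop

open CfsgLib.ThreeTrans CfsgLib.ThreeTrans.Tower

universe u v

/-- A commuting subset of `E` with `w` members exists and none is bigger. -/
def HasWidth {Y : Type u} [Group Y] (E : Set Y) (w : ℕ) : Prop :=
  (∀ T : Set Y, T ⊆ E → (∀ a ∈ T, ∀ b ∈ T, Commute a b) → T.ncard ≤ w) ∧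
    ∃ T : Set Y, T ⊆ E ∧ (∀ a ∈ T, ∀ b ∈ T, Commute a b) ∧ T.ncard = w

theorem commutingWidth_eq {G : Type u} [Group G] [Finite G] {D : Set G} {w : ℕ} (h : HasWidth D w) :
    Cfsg.commutingWidth D = w := by
  obtain ⟨hle, T, hT, hc, hcard⟩ := h
  refine IsGreatest.csSup_eq ⟨⟨T, hT, Set.toFinite _, hc, hcard⟩, ?_⟩
  rintro n ⟨T', hT', -, hc', rfl⟩
  exact hle T' hT' hc'

/-- One step up. -/
theorem width_step {G : Type u} [Group G] [Finite G] {D : Set G} {Y : Type v} [Group Y] [Finite Y] {E : Set Y}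
    {N k l m w : ℕ} (S : Stage D E N k l m) (h : HasWidth E w) : HasWidth D (w + 1) := by
  obtain ⟨hle, T, hT, hc, hcard⟩ := h
  refine ⟨fun T' hT' hc' => ?_, ?_⟩
  · by_cases hne : T'.Nonempty
    swap
    · rw [Set.not_nonempty_iff_eq_empty.1 hne]; simp
    obtain ⟨a, ha⟩ := hne
    obtain ⟨π, M⟩ := S.base a (hT' ha)
    have hsub : T' \ {a} ⊆ Dd D a := fun x hx => ⟨hT' hx.1, hx.2, hc' a ha x hx.1⟩
    have h1 : (phi π '' (T' \ {a})).ncard ≤ w := by
      refine hle _ ?_ ?_
      · rintro _ ⟨x, hx, rfl⟩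
        exact M.mem (hsub hx)
      · rintro _ ⟨x, hx, rfl⟩ _ ⟨y, hy, rfl⟩
        exact (M.comm (hsub hx) (hsub hy)).2 (hc' _ hx.1 _ hy.1)
    rw [Set.InjOn.ncard_image fun x hx y hy e => M.inj (hsub hx) (hsub hy) e] at h1
    rw [← Set.ncard_diff_singleton_add_one ha]
    omega
  · obtain ⟨a, ha, -⟩ := S.prim.2.1
    obtain ⟨π, M⟩ := S.base a ha
    choose σ hσ hσe using fun e : T => M.onto (hT e.2)
    have hinj : Function.Injective σ := fun e e' hh => Subtype.ext (by rw [← hσe e, ← hσe e', hh])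
    have hnot : a ∉ Set.range σ := by
      rintro ⟨e, he⟩
      exact (hσ e).2.1 he
    refine ⟨insert a (Set.range σ), ?_, ?_, ?_⟩
    · rintro x (rfl | ⟨e, rfl⟩)
      · exact ha
      · exact (hσ e).1
    · rintro x (rfl | ⟨e, rfl⟩) y (rfl | ⟨e', rfl⟩)
      · exact Commute.refl _
      · exact (hσ e').2.2
      · exact (hσ e).2.2.symm
      · exact (M.comm (hσ e) (hσ e')).1 (by rw [hσe, hσe]; exact hc _ e.2 _ e'.2)
    · rw [Set.ncard_insert_of_notMem hnot (Set.toFinite _), ← Set.image_univ,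
        Set.ncard_image_of_injective _ hinj, Set.ncard_univ, Nat.card_coe_set_eq, hcard]

end CfsgLib.ThreeTrans.TypeTop

namespace CfsgLib.ThreeTrans.USix

open Matrix CfsgLib.ClassicalGroups

variable {F : Type*} [Field F] [Fintype F] (hF : Fintype.card F = 2 ^ 2)
include hF

local notation "V" => Fin 6 → F
local notation "𝕙" => Cfsg.hermForm 6 F 2
local notation "PSU₆" => Cfsg.PSU 6 F 2

/-- The points of a totally isotropic subspace. -/
theorem ncard_pts_subspace (W : Submodule F (Fin 6 → F)) (hW : ∀ x ∈ W, ∀ y ∈ W, 𝕙 x y = 0) :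
    3 * (ptsOf {v : Fin 6 → F | v ∈ W ∧ v ≠ 0}).ncard + 1 = 4 ^ Module.finrank F W := by
  classical
  rw [ncard_ptsOf hF (S := {v : Fin 6 → F | v ∈ W ∧ v ≠ 0}) (fun v hv => ⟨hv.2, hW v hv.1 v hv.1⟩)
    (fun v hv c hc => ⟨W.smul_mem c hv.1, smul_ne_zero hc hv.2⟩)]
  have e : {v : Fin 6 → F | v ∈ W ∧ v ≠ 0} = (W : Set (Fin 6 → F)) \ {0} := by ext v; simp
  rw [e, Set.ncard_diff_singleton_add_one W.zero_mem, ← Nat.card_coe_set_eq]
  show Nat.card W = _
  rw [Module.natCard_eq_pow_finrank (K := F), Nat.card_eq_fintype_card, hF]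
  norm_num

theorem finrank_le_three (W : Submodule F (Fin 6 → F)) (hW : ∀ x ∈ W, ∀ y ∈ W, 𝕙 x y = 0) :
    Module.finrank F W ≤ 3 := by
  set d := Module.finrank F W with hd
  let b := Module.finBasis F W
  let ψ : V →ₗ[F] (Fin d → F) :=
    { toFun := fun x i => 𝕙 x (b i : V)
      map_add' := fun x y => funext fun i => hermForm_add_left 6 x y (b i : V)
      map_smul' := fun c x => funext fun i => hermForm_smul_left 6 c x (b i : V) }
  have hsurj : Function.Surjective ψ := by
    intro t
    let φ₀ : W →ₗ[F] F := b.constr F fun i => t i ^ 2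
    obtain ⟨φ, hφ⟩ := LinearMap.exists_extend φ₀
    obtain ⟨x, hx⟩ := exists_dual hF φ
    refine ⟨x, funext fun i => ?_⟩
    have h1 : φ (b i : V) = t i ^ 2 := by
      have := LinearMap.congr_fun hφ (b i)
      simpa [φ₀, Module.Basis.constr_basis] using this
    show 𝕙 x (b i : V) = t i
    rw [herm_symm' hF (b i : V) x, ← hx, h1, ← pow_mul, pow_four hF]
  have hker : W ≤ LinearMap.ker ψ := fun x hx => funext fun i => hW x hx _ (b i).2
  have h := LinearMap.finrank_range_add_finrank_ker ψ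
  rw [LinearMap.range_eq_top.2 hsurj, finrank_top, Module.finrank_fin_fun, Module.finrank_fin_fun] at h
  have := Submodule.finrank_mono hker
  omega

/-- The transvections of `PSU(6,2)` have width 21. -/
theorem hasWidth {E : Set PSU₆} (hE : TClass E) : TypeTop.HasWidth E 21 := by
  classical
  constructor
  · intro T hT hc
    choose v A hA hmk using fun a : T => hE.rep hF (hT a.2)
    have horth : ∀ a b : T, 𝕙 (v a) (v b) = 0 := fun a b => by
      have := hc _ a.2 _ b.2
      rw [← hmk a, ← hmk b] at this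
      exact (commute_mk_iff hF (hA a) (hA b)).1 this
    set W := Submodule.span F (Set.range v) with hWdef
    have hW : ∀ x ∈ W, ∀ y ∈ W, 𝕙 x y = 0 := by
      have h1 : ∀ a : T, ∀ x ∈ W, 𝕙 x (v a) = 0 := by
        intro a x hx
        induction hx using Submodule.span_induction with
        | mem y hy => obtain ⟨b, rfl⟩ := hy; exact horth b a
        | zero => simp [Cfsg.hermForm]
        | add y z _ _ ihy ihz => rw [hermForm_add_left, ihy, ihz, add_zero]
        | smul c y _ ih => rw [hermForm_smul_left, ih, mul_zero]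
      intro x hx y hy
      induction hy using Submodule.span_induction with
      | mem z hz => obtain ⟨b, rfl⟩ := hz; exact h1 b x hx
      | zero => exact hermForm_zero_right hF x
      | add z z' _ _ ihz ihz' => rw [hermForm_add_right hF, ihz, ihz', add_zero]
      | smul c z _ ih => rw [hermForm_smul_right, ih, mul_zero]
    have hsub : T ⊆ ptsOf {u : Fin 6 → F | u ∈ W ∧ u ≠ 0} := fun a ha =>
      ⟨v ⟨a, ha⟩, A ⟨a, ha⟩, hA _, ⟨Submodule.subset_span ⟨_, rfl⟩, (hA _).1⟩, hmk _⟩
    have h1 := ncard_pts_subspace hF W hW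
    have h2 : 4 ^ Module.finrank F W ≤ 4 ^ 3 := Nat.pow_le_pow_right (by norm_num) (finrank_le_three hF W hW)
    have h3 := Set.ncard_le_ncard hsub
    omega
  · set W := Submodule.span F (Set.range (stdP (F := F))) with hWdef
    have hW : ∀ x ∈ W, ∀ y ∈ W, 𝕙 x y = 0 := by
      intro x hx y hy
      induction hy using Submodule.span_induction with
      | mem z hz =>
        obtain ⟨j, rfl⟩ := hz
        induction hx using Submodule.span_induction with
        | mem z hz => obtain ⟨i, rfl⟩ := hz; exact stdP_gram hF i j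
        | zero => simp [Cfsg.hermForm]
        | add p q _ _ ihp ihq => rw [hermForm_add_left, ihp, ihq, add_zero]
        | smul c p _ ih => rw [hermForm_smul_left, ih, mul_zero]
      | zero => exact hermForm_zero_right hF x
      | add z z' _ _ ihz ihz' => rw [hermForm_add_right hF, ihz, ihz', add_zero]
      | smul c z _ ih => rw [hermForm_smul_right, ih, mul_zero]
    refine ⟨ptsOf {u : Fin 6 → F | u ∈ W ∧ u ≠ 0}, ?_, ?_, ?_⟩
    · rintro _ ⟨u, B, hB, -, rfl⟩
      exact hE.hall hF hB
    · rintro _ ⟨u, B, hB, hu, rfl⟩ _ ⟨u', B', hB', hu', rfl⟩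
      exact (commute_mk_iff hF hB hB').2 (hW _ hu.1 _ hu'.1)
    · have h1 := ncard_pts_subspace hF W hW
      have hfr : Module.finrank F W = 3 := by
        rw [hWdef, finrank_span_eq_card (li_stdP (F := F)), Fintype.card_fin]
      rw [hfr] at h1
      omega

end CfsgLib.ThreeTrans.USix

namespace CfsgLib.ThreeTrans.TypeTop

open CfsgLib.ThreeTrans CfsgLib.ThreeTrans.Tower

variable {G : Type*} [Group G] [Finite G] {D : Set G}

/-- Width 22. -/
theorem width22 (hD : Cfsg.IsThreeTranspositionGroup D) (hprim : Cfsg.IsPrimitiveUnderConj D)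
    (h : Cfsg.IsOfTypeM22 G D) : HasWidth D 22 := by
  obtain ⟨d, c, F, _, _, π, hc, hdc, hB, hF, hE, -⟩ := base22 hD h
  have hne := hB.exists_img_ne (psu_six_noncomm hF)
  have hloc := USix.local_of_class hF hB.img_isThreeTranspositionSet hB.img_conj hne
  exact width_step (stage_of_base hD hprim h.1 hloc hB rfl)
    (USix.hasWidth hF ⟨hB.img_isThreeTranspositionSet, hB.img_conj, hne⟩)

/-- Width 23. -/
theorem width23 (hD : Cfsg.IsThreeTranspositionGroup D) (hprim : Cfsg.IsPrimitiveUnderConj D)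
    (h : Cfsg.IsOfTypeM23 G D) : HasWidth D 23 := by
  obtain ⟨d, c, hc, hdc, hB, h22, -⟩ := bottom23 hD h
  have hp := prim22 hD hprim hB h22
  exact width_step (stage_of_base hD hprim h.1 (local22 hB.img_group hp h22) hB rfl) (width22 hB.img_group hp h22)

/-- Width 24. -/
theorem width24 (hD : Cfsg.IsThreeTranspositionGroup D) (hprim : Cfsg.IsPrimitiveUnderConj D)
    (h : Cfsg.IsOfTypeM24 G D) : HasWidth D 24 := by
  obtain ⟨d, c, hc, hdc, hB, h23⟩ := bottom24 hD hprim h
  have hp := prim23 hD hprim hB h23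
  exact width_step (stage_of_base hD hprim h.1 (local23 hB.img_group hp h23) hB rfl) (width23 hB.img_group hp h23)

end CfsgLib.ThreeTrans.TypeTop
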