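import Mathlib
import Cfsg.Agent.Lib.ThreeTrans.Tower.UnitaryCount

/-! There is no involutory automorphism of the 180 transvections orthogonal to a given one which moves
each of them to a different commuting one, stated on the four dimensional complement: such a map would be a
point map `β` with a displacement `c`, subject to the rules of `Disp`. -/

set_option autoImplicit false
set_option linter.unusedSectionVars false

namespace CfsgLib.ThreeTrans.USix

open Matrix CfsgLib.ClassicalGroups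

variable {F : Type*} [Field F] [Fintype F]

local notation "W" => Fin 4 → F
local notation "𝕙₄" => Cfsg.hermForm 4 F 2

/-- Non-zero isotropic vectors of the complement. -/
def IsPt (z : Fin 4 → F) : Prop := z ≠ 0 ∧ Cfsg.hermForm 4 F 2 z z = 0

/-- The rules of a displacement. -/
structure Disp (β : (Fin 4 → F) → (Fin 4 → F)) (c : (Fin 4 → F) → F) : Prop where
  pt : ∀ z, IsPt z → IsPt (β z)
  col : ∀ z, IsPt z → Cfsg.hermForm 4 F 2 z (β z) = 0
  perp : ∀ z u, IsPt z → IsPt u →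
    (Cfsg.hermForm 4 F 2 z u = 0 ↔ Cfsg.hermForm 4 F 2 (β z) (β u) = 0)
  invol : ∀ z, IsPt z → ∃ k : F, k ≠ 0 ∧ β (β z) = k • z
  scale : ∀ z, IsPt z → ∀ k : F, k ≠ 0 → ∃ m : F, m ≠ 0 ∧ β (k • z) = m • β z
  moved : ∀ z, IsPt z → ∀ k : F, β z = k • z → c z ≠ 0
  conj : ∀ u z, IsPt u → IsPt z → Cfsg.hermForm 4 F 2 u z ≠ 0 → ∃ m : F, m ≠ 0 ∧
    β (u + Cfsg.hermForm 4 F 2 u z • z) = m • (β u + Cfsg.hermForm 4 F 2 (β u) (β z) • β z) ∧
    c (u + Cfsg.hermForm 4 F 2 u z • z) = m * (c u + Cfsg.hermForm 4 F 2 (β u) (β z) * c z)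

/-- A hyperbolic basis. -/
structure Frame (e f e' f' : Fin 4 → F) : Prop where
  li : LinearIndependent F ![e, f, e', f']
  gram : ∀ a b c d a' b' c' d' : F,
    Cfsg.hermForm 4 F 2 (a • e + b • f + c • e' + d • f') (a' • e + b' • f + c' • e' + d' • f') =
      a * b' ^ 2 + b * a' ^ 2 + c * d' ^ 2 + d * c' ^ 2

variable (hF : Fintype.card F = 2 ^ 2)
include hF

theorem pow_two_mul_self {x : F} (hx : x ≠ 0) : x ^ 2 * x = 1 := by
  rw [← cube_eq_one hF hx]; ring

theorem four_cases {a b : F} (ha : a ≠ 0) (hb : b ≠ 0) (hab : a ≠ b) (x : F) :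
    x = 0 ∨ x = a ∨ x = b ∨ x = a + b := by
  classical
  by_contra h
  push Not at h
  obtain ⟨h0, h1, h2, h3⟩ := h
  have s1 : a + b ≠ 0 := fun e => hab (by linear_combination e - b * two_eq_zero hF)
  have s2 : a + b ≠ a := fun e => hb (by linear_combination e)
  have s3 : a + b ≠ b := fun e => ha (by linear_combination e)
  have hc : ({0, a, b, a + b, x} : Finset F).card = 5 := by
    simp [Finset.card_insert_of_notMem, ha.symm, hb.symm, hab, s1.symm, s2.symm, s3.symm, h0.symm, h1.symm,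
      h2.symm, h3.symm]
  have := Finset.card_le_univ ({0, a, b, a + b, x} : Finset F)
  rw [hF] at this
  omega

/-! ### Frames -/

/-- The standard hyperbolic basis and a transport of it. -/
theorem exists_frame {m : ℕ} (y : Fin m → W) (hy : LinearIndependent F y) (pick : Fin m → Fin 4)
    (hpick : Function.Injective pick)
    (hh : ∀ i j, 𝕙₄ (y i) (y j) = if (pick i : ℕ) / 2 = (pick j : ℕ) / 2 ∧ pick i ≠ pick j then 1 else 0) :
    ∃ B : Fin 4 → W, (∀ i, B (pick i) = y i) ∧ Frame (B 0) (B 1) (B 2) (B 3) := by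
  obtain ⟨w, hw0, hw1, hw⟩ := exists_omega hF
  have t := two_eq_zero hF
  have w3 := cube_eq_one hF hw0
  set S : Fin 4 → W := ![![1, 1, 0, 0], ![w, w ^ 2, 0, 0], ![0, 0, 1, 1], ![0, 0, w, w ^ 2]] with hS
  have hSli : LinearIndependent F S := by
    rw [Fintype.linearIndependent_iff]
    intro g hg
    rw [Fin.sum_univ_four] at hg
    have e0 := congrFun hg 0
    have e1 := congrFun hg 1
    have e2 := congrFun hg 2
    have e3 := congrFun hg 3
    simp [hS] at e0 e1 e2 e3
    have h1 : g 1 = 0 := by linear_combination -e0 - e1 + g 1 * hw + g 0 * t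
    have h3 : g 3 = 0 := by linear_combination -e2 - e3 + g 3 * hw + g 2 * t
    have h0 : g 0 = 0 := by linear_combination e0 - w * h1
    have h2 : g 2 = 0 := by linear_combination e2 - w * h3
    intro i
    fin_cases i
    exacts [h0, h1, h2, h3]
  have hSh : ∀ i j, 𝕙₄ (S i) (S j) = if (i : ℕ) / 2 = (j : ℕ) / 2 ∧ i ≠ j then 1 else 0 := by
    intro i j
    fin_cases i <;> fin_cases j <;> simp [hS, herm_four hF] <;>
      first
        | linear_combination t
        | linear_combination hw - t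
        | linear_combination hw + w * w3 - t
        | linear_combination (w ^ 3 + 2) * w3 + t
  have hxy : ∀ i j, 𝕙₄ (S (pick i)) (S (pick j)) = 𝕙₄ (y i) (y j) := fun i j => by rw [hSh, hh]
  obtain ⟨g, hg⟩ := exists_GU_family hF (fun i => S (pick i)) y (hSli.comp pick hpick) hy hxy
  have hG : ∀ x z, 𝕙₄ (g.1.val *ᵥ x) (g.1.val *ᵥ z) = 𝕙₄ x z := mem_GU_iff.1 g.2
  have hinj : Function.Injective (Matrix.mulVecLin g.1.val) := by
    intro x z hxz
    have h' : g⁻¹.1.val *ᵥ (g.1.val *ᵥ x) = g⁻¹.1.val *ᵥ (g.1.val *ᵥ z) := congrArg _ hxz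
    rwa [← GU_mul_mulVec, ← GU_mul_mulVec, inv_mul_cancel, GU_one_mulVec, GU_one_mulVec] at h'
  refine ⟨fun i => g.1.val *ᵥ S i, hg, ⟨?_, fun a b c d a' b' c' d' => ?_⟩⟩
  · have := hSli.map' (Matrix.mulVecLin g.1.val) (LinearMap.ker_eq_bot.2 hinj)
    have e : (Matrix.mulVecLin g.1.val) ∘ S =
        ![g.1.val *ᵥ S 0, g.1.val *ᵥ S 1, g.1.val *ᵥ S 2, g.1.val *ᵥ S 3] := by
      funext i
      fin_cases i <;> simp
    rwa [e] at this
  · simp only [← Matrix.mulVec_smul, ← Matrix.mulVec_add, hG]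
    simp only [hermForm_add_left, hermForm_add_right hF, hermForm_smul_left, hermForm_smul_right, hSh]
    simp
    ring

/-- A hyperbolic pair extends to a frame. -/
theorem frame_of_pair {p r : W} (hp : 𝕙₄ p p = 0) (hr : 𝕙₄ r r = 0) (hpr : 𝕙₄ p r = 1) :
    ∃ e' f' : W, Frame p r e' f' := by
  have hrp : 𝕙₄ r p = 1 := by rw [hermForm_symm hF 4 p r, hpr, one_pow]
  have hli : LinearIndependent F ![p, r] := by
    rw [LinearIndependent.pair_iff]
    intro s t h
    have e1 : 𝕙₄ (s • p + t • r) r = 0 := by rw [h]; simp [Cfsg.hermForm]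
    have e2 : 𝕙₄ (s • p + t • r) p = 0 := by rw [h]; simp [Cfsg.hermForm]
    rw [hermForm_add_left, hermForm_smul_left, hermForm_smul_left, hpr, hr] at e1
    rw [hermForm_add_left, hermForm_smul_left, hermForm_smul_left, hp, hrp] at e2
    exact ⟨by simpa using e1, by simpa using e2⟩
  obtain ⟨B, hB, hfr⟩ := exists_frame hF ![p, r] hli ![0, 1] (by intro i j h; fin_cases i <;> fin_cases j <;> simp_all)
    (by intro i j; fin_cases i <;> fin_cases j <;> simp [hp, hr, hpr, hrp])
  exact ⟨B 2, B 3, by rw [show p = B 0 from (hB 0).symm, show r = B 1 from (hB 1).symm]; exact hfr⟩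

/-- An orthogonal pair extends to a frame. -/
theorem frame_of_line {p u : W} (hli : LinearIndependent F ![p, u]) (hp : 𝕙₄ p p = 0) (hu : 𝕙₄ u u = 0)
    (hpu : 𝕙₄ p u = 0) : ∃ f f' : W, Frame p f u f' := by
  have hup : 𝕙₄ u p = 0 := by rw [hermForm_symm hF 4 p u, hpu, zero_pow two_ne_zero]
  obtain ⟨B, hB, hfr⟩ := exists_frame hF ![p, u] hli ![0, 2] (by intro i j h; fin_cases i <;> fin_cases j <;> simp_all)
    (by intro i j; fin_cases i <;> fin_cases j <;> simp [hp, hu, hpu, hup])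
  exact ⟨B 1, B 3, by rw [show p = B 0 from (hB 0).symm, show u = B 2 from (hB 1).symm]; exact hfr⟩

namespace Frame

variable {e f e' f' : Fin 4 → F} (hfr : Frame e f e' f')
include hfr

theorem coords (x : W) : ∃ a b c d : F, x = a • e + b • f + c • e' + d • f' := by
  have htop : Submodule.span F (Set.range ![e, f, e', f']) = ⊤ :=
    hfr.li.span_eq_top_of_card_eq_finrank (by simp)
  have hx : x ∈ Submodule.span F (Set.range ![e, f, e', f']) := htop ▸ Submodule.mem_top
  rw [Submodule.mem_span_range_iff_exists_fun] at hx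
  obtain ⟨g, hg⟩ := hx
  rw [Fin.sum_univ_four] at hg
  exact ⟨g 0, g 1, g 2, g 3, hg.symm⟩

theorem inj {a b c d a' b' c' d' : F}
    (h : a • e + b • f + c • e' + d • f' = a' • e + b' • f + c' • e' + d' • f') :
    a = a' ∧ b = b' ∧ c = c' ∧ d = d' := by
  have := Fintype.linearIndependent_iff.1 hfr.li ![a - a', b - b', c - c', d - d'] (by
    simp [Fin.sum_univ_four, sub_smul]
    linear_combination (norm := module) h)
  exact ⟨sub_eq_zero.1 (this 0), sub_eq_zero.1 (this 1), sub_eq_zero.1 (this 2), sub_eq_zero.1 (this 3)⟩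

theorem isPt {a b c d : F} (hne : ¬ (a = 0 ∧ b = 0 ∧ c = 0 ∧ d = 0))
    (h : a * b ^ 2 + b * a ^ 2 + c * d ^ 2 + d * c ^ 2 = 0) : IsPt (a • e + b • f + c • e' + d • f') := by
  refine ⟨fun e0 => hne ?_, by rw [hfr.gram]; exact h⟩
  exact hfr.inj hF (a' := 0) (b' := 0) (c' := 0) (d' := 0) (by simpa using e0)

end Frame

/-! ### Fixed points -/

namespace Disp

variable {β : (Fin 4 → F) → (Fin 4 → F)} {c : (Fin 4 → F) → F} (hD : Disp β c)
include hD

omit hF in
theorem scale_fixed {z : W} (hz : IsPt z) {a k : F} (ha : β z = a • z) (hk : k ≠ 0) :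
    ∃ b : F, β (k • z) = b • (k • z) := by
  obtain ⟨m, -, hm⟩ := hD.scale z hz k hk
  exact ⟨m * a / k, by rw [hm, ha, smul_smul, smul_smul, div_mul_cancel₀ _ hk]⟩

omit hF in
theorem fixed_ne {z : W} (hz : IsPt z) {a : F} (h : β z = a • z) : a ≠ 0 := fun e =>
  (hD.pt z hz).1 (by rw [h, e, zero_smul])

/-- The colour of the sum of two fixed points not orthogonal. -/
theorem colour_add {u z : W} (hu : IsPt u) (hz : IsPt z) {a b : F} (ha : β u = a • u) (hb : β z = b • z)
    (h1 : 𝕙₄ u z = 1) : IsPt (u + z) ∧ ∃ n : F, β (u + z) = n • (u + z) ∧ c (u + z) / n = c u / a + c z / b := by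
  have hzu : 𝕙₄ z u = 1 := by rw [hermForm_symm hF 4 u z, h1, one_pow]
  have hpt : IsPt (u + z) := by
    refine ⟨fun e => one_ne_zero (α := F) ?_, ?_⟩
    · have e2 : 𝕙₄ (u + z) z = 0 := by rw [e]; simp [Cfsg.hermForm]
      rwa [hermForm_add_left, h1, hz.2, add_zero] at e2
    · rw [hermForm_add_left, hermForm_add_right hF, hermForm_add_right hF, hu.2, hz.2, h1, hzu]
      linear_combination two_eq_zero hF
  obtain ⟨m, hm, e1, e2⟩ := hD.conj u z hu hz (by rw [h1]; exact one_ne_zero)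
  have ha0 := hD.fixed_ne hu ha
  have hb0 := hD.fixed_ne hz hb
  have hH : 𝕙₄ (β u) (β z) = a * b ^ 2 := by
    rw [ha, hb, hermForm_smul_left, hermForm_smul_right, h1, mul_one]
  rw [h1, one_smul, hH, ha, hb, smul_smul, mul_assoc a, pow_two_mul_self hF hb0, mul_one, ← smul_add,
    smul_smul] at e1
  rw [h1, one_smul, hH] at e2
  refine ⟨hpt, m * a, e1, ?_⟩
  rw [e2]
  field_simp
  linear_combination c z * a * cube_eq_one hF hb0

theorem colour_ne {u z : W} (hu : IsPt u) (hz : IsPt z) {a b : F} (ha : β u = a • u) (hb : β z = b • z)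
    (h1 : 𝕙₄ u z = 1) : c u / a ≠ c z / b := by
  intro e
  obtain ⟨hpt, n, hn, hc⟩ := hD.colour_add hF hu hz ha hb h1
  rw [e, add_self' hF] at hc
  have hn0 := hD.fixed_ne hpt hn
  exact hD.moved _ hpt n hn ((div_eq_zero_iff.1 hc).resolve_right hn0)

/-- Two independent orthogonal fixed points span an invariant line. -/
theorem line_invariant {p u x : W} (hp : IsPt p) (hu : IsPt u) (hli : LinearIndependent F ![p, u])
    (hpu : 𝕙₄ p u = 0) (hx : IsPt x) (hxp : 𝕙₄ x p = 0) (hxu : 𝕙₄ x u = 0)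
    {a b : F} (ha : β p = a • p) (hb : β u = b • u) : ∃ s t : F, β x = s • p + t • u := by
  obtain ⟨f, f', hfr⟩ := frame_of_line hF hli hp.2 hu.2 hpu
  obtain ⟨s, q, t, r, hst⟩ := hfr.coords hF (β x)
  have e1 := (hD.perp x p hx hp).1 hxp
  have e2 := (hD.perp x u hx hu).1 hxu
  rw [ha, hermForm_smul_right, mul_eq_zero] at e1
  rw [hb, hermForm_smul_right, mul_eq_zero] at e2
  have f1 := e1.resolve_left (pow_ne_zero 2 (hD.fixed_ne hp ha))
  have f2 := e2.resolve_left (pow_ne_zero 2 (hD.fixed_ne hu hb))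
  have g1 := hfr.gram s q t r 1 0 0 0
  have g2 := hfr.gram s q t r 0 0 1 0
  simp at g1 g2
  rw [hst, g1] at f1
  rw [hst, g2] at f2
  have hq : q = 0 := by simpa using f1
  have hr : r = 0 := by simpa using f2
  exact ⟨s, t, by rw [hst, hq, hr]; simp⟩

/-- A third fixed point on the line through two orthogonal fixed points. -/
theorem exists_third_fixed {p u : W} (hp : IsPt p) (hu : IsPt u) (hli : LinearIndependent F ![p, u])
    (hpu : 𝕙₄ p u = 0) {a b : F} (ha : β p = a • p) (hb : β u = b • u) :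
    ∃ l n : F, l ≠ 0 ∧ β (p + l • u) = n • (p + l • u) := by
  have hup : 𝕙₄ u p = 0 := by rw [hermForm_symm hF 4 p u, hpu, zero_pow two_ne_zero]
  have hind := LinearIndependent.pair_iff.1 hli
  have hpt : ∀ l : F, IsPt (p + l • u) := fun l => by
    refine ⟨fun e => one_ne_zero (α := F) (hind 1 l (by rw [one_smul]; exact e)).1, ?_⟩
    simp [hermForm_add_left, hermForm_add_right hF, hermForm_smul_left, hermForm_smul_right, hp.2, hu.2, hpu, hup]
  have himg : ∀ l : F, l ≠ 0 → ∃ m l' : F, m ≠ 0 ∧ l' ≠ 0 ∧ β (p + l • u) = m • (p + l' • u) := by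
    intro l hl
    obtain ⟨s, t, hst⟩ := hD.line_invariant hF hp hu hli hpu (hpt l)
      (by rw [hermForm_add_left, hermForm_smul_left, hp.2, hup, mul_zero, add_zero])
      (by rw [hermForm_add_left, hermForm_smul_left, hpu, hu.2, mul_zero, add_zero]) ha hb
    obtain ⟨k, hk, hkk⟩ := hD.invol _ (hpt l)
    rw [hst] at hkk
    by_cases hs : s = 0
    · exfalso
      rw [hs, zero_smul, zero_add] at hst hkk
      have ht : t ≠ 0 := fun e => (hD.pt _ (hpt l)).1 (by rw [hst, e, zero_smul])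
      obtain ⟨m, -, hm⟩ := hD.scale u hu t ht
      rw [hm, hb] at hkk
      exact hk (hind k (k * l - m * b) (by linear_combination (norm := module) -hkk)).1
    by_cases ht : t = 0
    · exfalso
      rw [ht, zero_smul, add_zero] at hst hkk
      obtain ⟨m, -, hm⟩ := hD.scale p hp s hs
      rw [hm, ha] at hkk
      exact mul_ne_zero hk hl (hind (k - m * a) (k * l) (by linear_combination (norm := module) -hkk)).2
    exact ⟨s, t / s, hs, div_ne_zero ht hs, by rw [hst, smul_add, smul_smul, mul_div_cancel₀ _ hs]⟩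
  choose g g' hg0 hg'0 hg using himg
  have hinv : ∀ l (hl : l ≠ 0), g' (g' l hl) (hg'0 l hl) = l := by
    intro l hl
    obtain ⟨k, -, hk⟩ := hD.invol _ (hpt l)
    rw [hg l hl] at hk
    obtain ⟨m, hm, hm'⟩ := hD.scale _ (hpt (g' l hl)) (g l hl) (hg0 l hl)
    rw [hm', hg _ (hg'0 l hl), smul_smul, smul_add, smul_add, smul_smul, smul_smul] at hk
    set M := m * g (g' l hl) (hg'0 l hl) with hM
    have h0 := hind (M - k) (M * g' (g' l hl) (hg'0 l hl) - k * l) (by
      rw [sub_smul, sub_smul]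
      linear_combination (norm := module) hk)
    have hMk := sub_eq_zero.1 h0.1
    have h2 := sub_eq_zero.1 h0.2
    rw [← hMk] at h2
    exact mul_left_cancel₀ (mul_ne_zero hm (hg0 _ _)) h2
  obtain ⟨w, hw0, hw1, -⟩ := exists_omega hF
  have h1w : (1 : F) + w ≠ 0 := fun e => hw1 (by linear_combination e - two_eq_zero hF)
  have fin : ∀ l (hl : l ≠ 0), g' l hl = l → ∃ l n : F, l ≠ 0 ∧ β (p + l • u) = n • (p + l • u) := fun l hl h =>
    ⟨l, g l hl, hl, by rw [hg l hl, h]⟩
  have congr' : ∀ l l' (hl : l ≠ 0) (hl' : l' ≠ 0), l = l' → g' l hl = g' l' hl' := by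
    rintro l l' hl hl' rfl; rfl
  by_cases h1 : g' 1 one_ne_zero = 1
  · exact fin 1 one_ne_zero h1
  set x := g' 1 one_ne_zero with hx
  have hx0 := hg'0 1 one_ne_zero
  have hxx : g' x hx0 = 1 := hinv 1 one_ne_zero
  -- the remaining value is fixed
  have hy0 : (1 : F) + x ≠ 0 := fun e => h1 (by linear_combination e - two_eq_zero hF)
  refine fin (1 + x) hy0 ?_
  rcases four_cases hF one_ne_zero hx0 (Ne.symm h1) (g' (1 + x) hy0) with h | h | h | h
  · exact absurd h (hg'0 _ _)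
  · have h2 := hinv (1 + x) hy0
    rw [congr' _ _ _ one_ne_zero h, ← hx] at h2
    exact absurd h2 (fun e => one_ne_zero (α := F) (by linear_combination -e))
  · have h2 := hinv (1 + x) hy0
    rw [congr' _ _ _ hx0 h, hxx] at h2
    exact absurd h2 (fun e => hx0 (by linear_combination -e))
  · exact h

/-- Two fixed points cannot be non-orthogonal. -/
theorem no_fixed_pair {p r : W} (hp : IsPt p) (hr : IsPt r) (h1 : 𝕙₄ p r = 1) {a b : F} (ha : β p = a • p)
    (hb : β r = b • r) : False := by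
  obtain ⟨e', f', hfr⟩ := frame_of_pair hF hp.2 hr.2 h1
  have t := two_eq_zero hF
  let v : F → F → F → F → W := fun s q x y => s • p + q • r + x • e' + y • f'
  have gram := hfr.gram
  have gv : ∀ a b c d a' b' c' d' : F, 𝕙₄ (v a b c d) (v a' b' c' d') =
      a * b' ^ 2 + b * a' ^ 2 + c * d' ^ 2 + d * c' ^ 2 := hfr.gram
  have vp : p = v 1 0 0 0 := by simp [v]
  have vr : r = v 0 1 0 0 := by simp [v]
  -- the common perpendicular points are fixed
  have hperp : ∀ x y : F, (x ≠ 0 ∨ y ≠ 0) → x * y ^ 2 + y * x ^ 2 = 0 →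
      IsPt (v 0 0 x y) ∧ ∃ n : F, β (v 0 0 x y) = n • v 0 0 x y := by
    intro x y hne hiso
    have hpt : IsPt (v 0 0 x y) := hfr.isPt hF (by tauto) (by linear_combination hiso)
    refine ⟨hpt, ?_⟩
    obtain ⟨s, q, x', y', hz⟩ := hfr.coords hF (β (v 0 0 x y))
    have e1 := (hD.perp _ p hpt hp).1 (by rw [vp]; simp [gv])
    have e2 := (hD.perp _ r hpt hr).1 (by rw [vr]; simp [gv])
    rw [ha, hermForm_smul_right, mul_eq_zero] at e1
    rw [hb, hermForm_smul_right, mul_eq_zero] at e2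
    have f1 := e1.resolve_left (pow_ne_zero 2 (hD.fixed_ne hp ha))
    have f2 := e2.resolve_left (pow_ne_zero 2 (hD.fixed_ne hr hb))
    have g1 := gram s q x' y' 1 0 0 0
    have g2 := gram s q x' y' 0 1 0 0
    simp at g1 g2
    rw [hz, g1] at f1
    rw [hz, g2] at f2
    have hq : q = 0 := by simpa using f1
    have hs : s = 0 := by simpa using f2
    have hiso' : x' * y' ^ 2 + y' * x' ^ 2 = 0 := by
      have h := (hD.pt _ hpt).2
      rw [hz, gram, hq, hs] at h
      linear_combination h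
    have hcol : x * y' ^ 2 + y * x' ^ 2 = 0 := by
      have h := hD.col _ hpt
      rw [show β (v 0 0 x y) = v s q x' y' from hz, gv, hq, hs] at h
      linear_combination h
    rw [hz, hq, hs]
    -- proportionality
    by_cases hx : x = 0
    · subst hx
      have hy : y ≠ 0 := hne.resolve_left (fun h => h rfl)
      have hx' : x' = 0 := by simpa [hy] using hcol
      exact ⟨y' / y, by simp [v, hx', smul_smul, div_mul_cancel₀ _ hy]⟩
    by_cases hy : y = 0
    · subst hy
      have hy' : y' = 0 := by simpa [hx] using hcol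
      exact ⟨x' / x, by simp [v, hy', smul_smul, div_mul_cancel₀ _ hx]⟩
    have hxy : x = y := by
      have : x * y * (y + x) = 0 := by linear_combination hiso
      have := (mul_eq_zero.1 this).resolve_left (mul_ne_zero hx hy)
      linear_combination this - y * t
    subst hxy
    have hxy' : x' = y' := by
      have h2 : (x' + y') ^ 2 = 0 := by
        have : x * (x' + y') ^ 2 = 0 := by linear_combination hcol + x * x' * y' * t
        exact (mul_eq_zero.1 this).resolve_left hx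
      linear_combination (pow_eq_zero_iff two_ne_zero).1 h2 - y' * t
    subst hxy'
    exact ⟨x' / x, by simp [v, smul_smul, div_mul_cancel₀ _ hx]⟩
  obtain ⟨hE, s, hs⟩ := hperp 1 0 (Or.inl one_ne_zero) (by ring)
  have hli : LinearIndependent F ![p, v 0 0 1 0] := by
    rw [LinearIndependent.pair_iff]
    intro k l h
    obtain ⟨k0, -, l0, -⟩ := hfr.inj hF (a := k) (b := 0) (c := l) (d := 0) (a' := 0) (b' := 0) (c' := 0) (d' := 0)
      (by simpa [v] using h)
    exact ⟨k0, l0⟩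
  obtain ⟨l, n, hl, hn⟩ := hD.exists_third_fixed hF hp hE hli (by rw [vp]; simp [gv]) ha hs
  have l3 := pow_two_mul_self hF hl
  -- the seven points
  obtain ⟨hS, sS, hsS⟩ := hperp l 0 (Or.inl hl) (by ring)
  obtain ⟨hX, sX, hsX⟩ := hperp 0 l (Or.inr hl) (by ring)
  obtain ⟨hY, sY, hsY⟩ := hperp l l (Or.inl hl) (by linear_combination l ^ 3 * t)
  have hU : IsPt (v 1 0 l 0) := hfr.isPt hF (by simp) (by ring)
  have hUe : p + l • v 0 0 1 0 = v 1 0 l 0 := by simp [v]
  rw [hUe] at hn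
  obtain ⟨hT, sT, hsT, cT⟩ := hD.colour_add hF hp hr ha hb h1
  have nPR := hD.colour_ne hF hp hr ha hb h1
  have nUR := hD.colour_ne hF hU hr hn hb (by rw [vr]; simp [gv])
  have nUT := hD.colour_ne hF hU hT hn hsT (by
    rw [show p + r = v 1 1 0 0 by simp [v]]; simp [gv])
  have nUX := hD.colour_ne hF hU hX hn hsX (by simp [gv]; linear_combination l3)
  have nUY := hD.colour_ne hF hU hY hn hsY (by simp [gv]; linear_combination l3)
  have nSX := hD.colour_ne hF hS hX hsS hsX (by simp [gv]; linear_combination l3)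
  obtain ⟨-, sY', hsY', cY⟩ := hD.colour_add hF hS hX hsS hsX (by simp [gv]; linear_combination l3)
  have hYe : v 0 0 l 0 + v 0 0 0 l = v 0 0 l l := by simp [v]
  rw [hYe] at hsY' cY
  have hsY'' : sY' = sY := by
    have : (sY' - sY) • v 0 0 l l = 0 := by rw [sub_smul, ← hsY', ← hsY, sub_self]
    exact sub_eq_zero.1 ((smul_eq_zero.1 this).resolve_right hY.1)
  rw [hsY''] at cY
  obtain ⟨hW, sW, hsW, cW⟩ := hD.colour_add hF hU hr hn hb (by rw [vr]; simp [gv])
  have hWe : v 1 0 l 0 + r = v 1 1 l 0 := by simp [v]; abel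
  rw [hWe] at hW hsW cW
  have nWX := hD.colour_ne hF hW hX hsW hsX (by simp [gv]; linear_combination l3)
  have nWY := hD.colour_ne hF hW hY hsW hsY (by simp [gv]; linear_combination l3)
  have n0 : ∀ {z : W} {k : F}, IsPt z → β z = k • z → c z / k ≠ 0 := fun hz hk =>
    div_ne_zero (hD.moved _ hz _ hk) (hD.fixed_ne hz hk)
  have eU : c (v 1 0 l 0) / n = c p / a := by
    rcases four_cases hF (n0 hp ha) (n0 hr hb) nPR (c (v 1 0 l 0) / n) with h | h | h | h
    · exact absurd h (n0 hU hn)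
    · exact h
    · exact absurd h nUR
    · exact absurd (h.trans cT.symm) nUT
  have eS : ∀ z : F, z ≠ 0 → z ≠ c (v 0 0 0 l) / sX → z ≠ c (v 0 0 l l) / sY → z = c (v 0 0 l 0) / sS := by
    intro z z0 z1 z2
    rcases four_cases hF (n0 hS hsS) (n0 hX hsX) nSX z with h | h | h | h
    · exact absurd h z0
    · exact h
    · exact absurd h z1
    · exact absurd (h.trans cY.symm) z2
  have e1 := eS _ (n0 hU hn) nUX nUY
  have e2 := eS _ (n0 hW hsW) nWX nWY
  rw [cW, eU, ← e1, eU] at e2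
  exact n0 hr hb (by linear_combination e2)

/-- A point orthogonal to no other fixed one: its image gives a fixed point on the way. -/
theorem exists_fixed_between {p q : W} (hp : IsPt p) (hq : IsPt q) {a : F} (ha : β p = a • p)
    (hpq : 𝕙₄ q p ≠ 0) : ∃ U : W, ∃ k l n : F, IsPt U ∧ β U = n • U ∧ 𝕙₄ U p = 0 ∧ 𝕙₄ q U = 0 ∧
      k ≠ 0 ∧ l ≠ 0 ∧ β q = k • q + l • U := by
  have hq' := hD.pt q hq
  have hqq' := hD.col q hq
  have hq'q : 𝕙₄ (β q) q = 0 := by rw [hermForm_symm hF 4 q (β q), hqq', zero_pow two_ne_zero]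
  have ha0 := hD.fixed_ne hp ha
  -- the image is not proportional
  have hnp : ∀ k : F, β q ≠ k • q := by
    intro k hk
    set h := 𝕙₄ p q with hh
    have hh0 : h ≠ 0 := fun e => hpq (by rw [hermForm_symm hF 4 p q, ← hh, e, zero_pow two_ne_zero])
    obtain ⟨b, hb⟩ := hD.scale_fixed hq hk hh0
    refine hD.no_fixed_pair hF hp ⟨smul_ne_zero hh0 hq.1, ?_⟩ ?_ ha hb
    · rw [hermForm_smul_left, hermForm_smul_right, hq.2, mul_zero, mul_zero]
    · rw [hermForm_smul_right, ← hh, pow_two_mul_self hF hh0]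
  set k := 𝕙₄ (β q) p / 𝕙₄ q p with hk
  set U := β q + (-k) • q with hU
  have hUp : 𝕙₄ U p = 0 := by
    rw [hU, hermForm_add_left, hermForm_smul_left, hk]
    field_simp
    ring
  have hqU : 𝕙₄ q U = 0 := by
    rw [hU, hermForm_add_right hF, hermForm_smul_right, hqq', hq.2, mul_zero, add_zero]
  have hUq : 𝕙₄ U q = 0 := by rw [hermForm_symm hF 4 q U, hqU, zero_pow two_ne_zero]
  have hUpt : IsPt U := by
    refine ⟨fun e => hnp k ?_, ?_⟩
    · rw [hU, neg_smul, ← sub_eq_add_neg, sub_eq_zero] at e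
      exact e
    · rw [hU, hermForm_add_left, hermForm_add_right hF, hermForm_add_right hF, hermForm_smul_left,
        hermForm_smul_right, hermForm_smul_left, hermForm_smul_right, hq'.2, hq'q, hqq', hq.2]
      ring
  have hk0 : k ≠ 0 := by
    intro e
    have h1 : 𝕙₄ (β q) p = 0 := by
      rcases div_eq_zero_iff.1 (hk ▸ e : 𝕙₄ (β q) p / 𝕙₄ q p = 0) with h | h
      · exact h
      · exact absurd h hpq
    have h2 : 𝕙₄ (β q) (β p) = 0 := by rw [ha, hermForm_smul_right, h1, mul_zero]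
    exact hpq ((hD.perp q p hq hp).2 h2)
  -- it is fixed
  obtain ⟨f, f', hfr⟩ := frame_of_line hF (p := q) (u := U) (by
    rw [LinearIndependent.pair_iff]
    intro s t h
    by_cases ht : t = 0
    · exact ⟨by simpa [ht, hq.1] using h, ht⟩
    · exfalso
      apply hnp (k - s / t)
      have e : t • β q = (t * k - s) • q := by
        rw [hU] at h
        linear_combination (norm := module) h
      have := congrArg (t⁻¹ • ·) e
      simp only [smul_smul, inv_mul_cancel₀ ht, one_smul] at this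
      rw [this]
      congr 1
      field_simp) hq.2 hUpt.2 hqU
  obtain ⟨s, x, u, y, hs⟩ := hfr.coords hF (β U)
  have e1 := (hD.perp U q hUpt hq).1 hUq
  obtain ⟨m, hm, hm2⟩ := hD.invol q hq
  have hUq' : 𝕙₄ U (β q) = 0 := by
    rw [hU, hermForm_add_left, hermForm_smul_left, hq'.2, hqq', mul_zero, add_zero]
  have e2 := (hD.perp U (β q) hUpt hq').1 hUq'
  rw [hm2, hermForm_smul_right, mul_eq_zero] at e2
  have e2' := e2.resolve_left (pow_ne_zero 2 hm)
  have hβq : β q = k • q + U := by rw [hU]; module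
  have g1 := hfr.gram s x u y 1 0 0 0
  have g2 := hfr.gram s x u y k 0 1 0
  simp at g1 g2
  rw [hs, g1] at e2'
  have hx : x = 0 := by simpa using e2'
  rw [hs, hβq, g2, hx] at e1
  have hy : y = 0 := by simpa using e1
  have e3 := (hD.perp U p hUpt hp).1 hUp
  rw [ha, hermForm_smul_right, mul_eq_zero] at e3
  have e3' := e3.resolve_left (pow_ne_zero 2 ha0)
  rw [hs, hx, hy, zero_smul, zero_smul, add_zero, add_zero, hermForm_add_left, hermForm_smul_left,
    hermForm_smul_left, hUp, mul_zero, add_zero] at e3'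
  have hs0 : s = 0 := (mul_eq_zero.1 e3').resolve_right hpq
  exact ⟨U, k, 1, u, hUpt, by rw [hs, hx, hy, hs0]; simp, hUp, hqU, hk0, one_ne_zero, by rw [one_smul]; exact hβq⟩

/-- There is no displacement with a fixed point. -/
theorem no_fixed {p : W} (hp : IsPt p) {a : F} (ha : β p = a • p) : False := by
  have t := two_eq_zero hF
  obtain ⟨q₀, hq₀, hpq₀⟩ := exists_partner (n := 4) hF hp.1 hp.2
  have hq₀p : 𝕙₄ q₀ p = 1 := by rw [hermForm_symm hF 4 p q₀, hpq₀, one_pow]
  have hq₀pt : IsPt q₀ := ⟨fun e => one_ne_zero (α := F) (by rw [← hq₀p, e]; simp [Cfsg.hermForm]), hq₀⟩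
  obtain ⟨U₀, -, -, n₀, hU₀, hfix₀, hU₀p, hqU₀, -⟩ :=
    hD.exists_fixed_between hF hp hq₀pt ha (by rw [hq₀p]; exact one_ne_zero)
  have hli : LinearIndependent F ![p, U₀] := by
    rw [LinearIndependent.pair_iff]
    intro s u h
    have e : 𝕙₄ q₀ (s • p + u • U₀) = 0 := by rw [h]; simp [Cfsg.hermForm]
    rw [hermForm_add_right hF, hermForm_smul_right, hermForm_smul_right, hq₀p, hqU₀] at e
    have hs : s = 0 := by simpa using e
    subst hs
    exact ⟨rfl, by simpa [hU₀.1] using h⟩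
  obtain ⟨f, f', hfr⟩ := frame_of_line hF hli hp.2 hU₀.2
    (by rw [hermForm_symm hF 4 U₀ p, hU₀p, zero_pow two_ne_zero])
  let v : F → F → F → F → W := fun s q x y => s • p + q • f + x • U₀ + y • f'
  have gram := hfr.gram
  have gv : ∀ a b c d a' b' c' d' : F, 𝕙₄ (v a b c d) (v a' b' c' d') =
      a * b' ^ 2 + b * a' ^ 2 + c * d' ^ 2 + d * c' ^ 2 := hfr.gram
  have vp : p = v 1 0 0 0 := by simp [v]
  have vU : U₀ = v 0 0 1 0 := by simp [v]
  have hfix_line : ∀ U : W, IsPt U → ∀ n : F, β U = n • U → ∃ x y : F, U = v x 0 y 0 := by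
    intro U hU n hn
    obtain ⟨s, q, x, y, hz⟩ := hfr.coords hF U
    have key : ∀ {r : W} {m : F}, IsPt r → β r = m • r → 𝕙₄ U r = 0 := by
      intro r m hr hm
      by_contra hne
      obtain ⟨b, hb⟩ := hD.scale_fixed hr hm hne
      refine hD.no_fixed_pair hF hU ⟨smul_ne_zero hne hr.1, ?_⟩ ?_ hn hb
      · rw [hermForm_smul_left, hermForm_smul_right, hr.2, mul_zero, mul_zero]
      · rw [hermForm_smul_right, pow_two_mul_self hF hne]
    have e1 := key hp ha
    have e2 := key hU₀ hfix₀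
    have g1 := gram s q x y 1 0 0 0
    have g2 := gram s q x y 0 0 1 0
    simp at g1 g2
    rw [hz, g1] at e1
    rw [hz, g2] at e2
    have hq : q = 0 := by simpa using e1
    have hy : y = 0 := by simpa using e2
    exact ⟨s, x, by rw [hz, hq, hy]⟩
  -- points of the opposite line move towards the fixed line
  have hmove : ∀ b d : F, (b ≠ 0 ∨ d ≠ 0) → ∃ k l x y : F, k ≠ 0 ∧ l ≠ 0 ∧ (x ≠ 0 ∨ y ≠ 0) ∧
      b * x ^ 2 + d * y ^ 2 = 0 ∧ β (v 0 b 0 d) = k • v 0 b 0 d + l • v x 0 y 0 := by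
    intro b d hne
    have hpt : IsPt (v 0 b 0 d) := hfr.isPt hF (by tauto) (by ring)
    by_cases hb : b = 0
    · have hd : d ≠ 0 := hne.resolve_left (fun h => h hb)
      obtain ⟨U, k, l, n, hU, hn, -, hqU, hk, hl, he⟩ := hD.exists_fixed_between hF hU₀ hpt hfix₀
        (by rw [vU]; simp [gv, hd])
      obtain ⟨x, y, rfl⟩ := hfix_line U hU n hn
      refine ⟨k, l, x, y, hk, hl, ?_, ?_, he⟩
      · by_contra hc
        push Not at hc
        exact hU.1 (by simp [v, hc.1, hc.2])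
      · simp only [gv] at hqU
        linear_combination hqU
    · obtain ⟨U, k, l, n, hU, hn, -, hqU, hk, hl, he⟩ := hD.exists_fixed_between hF hp hpt ha
        (by rw [vp]; simp [gv, hb])
      obtain ⟨x, y, rfl⟩ := hfix_line U hU n hn
      refine ⟨k, l, x, y, hk, hl, ?_, ?_, he⟩
      · by_contra hc
        push Not at hc
        exact hU.1 (by simp [v, hc.1, hc.2])
      · simp only [gv] at hqU
        linear_combination hqU
  have hpt : ∀ b d : F, (b ≠ 0 ∨ d ≠ 0) → IsPt (v 0 b 0 d) := fun b d h => hfr.isPt hF (by tauto) (by ring)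
  obtain ⟨w, hw0, hw1, hw⟩ := exists_omega hF
  obtain ⟨k1, l1, x1, y1, hk1, hl1, hn1, hc1, he1⟩ := hmove 1 0 (Or.inl one_ne_zero)
  obtain ⟨k2, l2, x2, y2, hk2, hl2, hn2, hc2, he2⟩ := hmove 0 1 (Or.inr one_ne_zero)
  obtain ⟨k3, l3, x3, y3, hk3, hl3, hn3, hc3, he3⟩ := hmove 1 1 (Or.inl one_ne_zero)
  obtain ⟨k4, l4, x4, y4, hk4, hl4, hn4, hc4, he4⟩ := hmove 1 w (Or.inl one_ne_zero)
  have hx1 : x1 = 0 := by simpa using hc1
  have hy2 : y2 = 0 := by simpa using hc2
  have hy1 : y1 ≠ 0 := hn1.resolve_left (fun h => h hx1)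
  have hx2 : x2 ≠ 0 := hn2.resolve_right (fun h => h hy2)
  have hxy3 : x3 = y3 := by
    have h2 : (x3 + y3) ^ 2 = 0 := by linear_combination hc3 + x3 * y3 * t
    linear_combination (pow_eq_zero_iff two_ne_zero).1 h2 - y3 * t
  have w3 := cube_eq_one hF hw0
  have hxy4 : x4 = w ^ 2 * y4 := by
    have h2 : (x4 + w ^ 2 * y4) ^ 2 = 0 := by linear_combination hc4 + w * y4 ^ 2 * w3 + w ^ 2 * x4 * y4 * t
    linear_combination (pow_eq_zero_iff two_ne_zero).1 h2 - w ^ 2 * y4 * t
  -- the four equations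
  have collinear : ∀ (b d b' d' k l x y k' l' x' y' : F), (b ≠ 0 ∨ d ≠ 0) → (b' ≠ 0 ∨ d' ≠ 0) →
      β (v 0 b 0 d) = k • v 0 b 0 d + l • v x 0 y 0 → β (v 0 b' 0 d') = k' • v 0 b' 0 d' + l' • v x' 0 y' 0 →
      k * (b * (l' * x') ^ 2 + d * (l' * y') ^ 2) + k' ^ 2 * (l * x * b' ^ 2 + l * y * d' ^ 2) = 0 := by
    intro b d b' d' k l x y k' l' x' y' hne hne' he he'
    have h := (hD.perp _ _ (hpt b d hne) (hpt b' d' hne')).1 (by simp [gv])
    have e : ∀ b d k l x y : F, k • v 0 b 0 d + l • v x 0 y 0 = v (l * x) (k * b) (l * y) (k * d) := by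
      intro b d k l x y; simp [v]; module
    rw [he, he', e, e] at h
    simp only [gv] at h
    linear_combination h
  have A12 := collinear _ _ _ _ _ _ _ _ _ _ _ _ (Or.inl one_ne_zero) (Or.inr one_ne_zero) he1 he2
  have A13 := collinear _ _ _ _ _ _ _ _ _ _ _ _ (Or.inl one_ne_zero) (Or.inl one_ne_zero) he1 he3
  have A14 := collinear _ _ _ _ _ _ _ _ _ _ _ _ (Or.inl one_ne_zero) (Or.inl one_ne_zero) he1 he4
  have A23 := collinear _ _ _ _ _ _ _ _ _ _ _ _ (Or.inr one_ne_zero) (Or.inl one_ne_zero) he2 he3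
  have A24 := collinear _ _ _ _ _ _ _ _ _ _ _ _ (Or.inr one_ne_zero) (Or.inl one_ne_zero) he2 he4
  rw [hx1] at A12 A13 A14
  rw [hy2] at A12 A23 A24
  rw [hxy3] at A13 A23
  rw [hxy4] at A14 A24
  have hy3 : y3 ≠ 0 := fun e => (hn3.elim (fun h => h (hxy3.trans e)) (fun h => h e))
  have hy4 : y4 ≠ 0 := fun e => (hn4.elim (fun h => h (by rw [hxy4, e, mul_zero])) (fun h => h e))
  -- ratios
  set A1 := l1 * y1 / k1 with hA1
  set A2 := l2 * x2 / k2 with hA2
  set A3 := l3 * y3 / k3 with hA3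
  set A4 := l4 * y4 / k4 with hA4
  have r1 : l1 * y1 = k1 * A1 := by rw [hA1, mul_div_cancel₀ _ hk1]
  have r2 : l2 * x2 = k2 * A2 := by rw [hA2, mul_div_cancel₀ _ hk2]
  have r3 : l3 * y3 = k3 * A3 := by rw [hA3, mul_div_cancel₀ _ hk3]
  have r4 : l4 * y4 = k4 * A4 := by rw [hA4, mul_div_cancel₀ _ hk4]
  have q12 : A2 ^ 2 + A1 = 0 := by
    have : k1 * k2 ^ 2 * (A2 ^ 2 + A1) = 0 := by
      rw [r2] at A12; linear_combination A12 - k2 ^ 2 * r1
    exact (mul_eq_zero.1 this).resolve_left (mul_ne_zero hk1 (pow_ne_zero 2 hk2))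
  have q13 : A3 ^ 2 + A1 = 0 := by
    have : k1 * k3 ^ 2 * (A3 ^ 2 + A1) = 0 := by
      rw [r3] at A13; linear_combination A13 - k3 ^ 2 * r1
    exact (mul_eq_zero.1 this).resolve_left (mul_ne_zero hk1 (pow_ne_zero 2 hk3))
  have q23 : A3 ^ 2 + A2 = 0 := by
    have : k2 * k3 ^ 2 * (A3 ^ 2 + A2) = 0 := by
      rw [r3] at A23; linear_combination A23 - k3 ^ 2 * r2
    exact (mul_eq_zero.1 this).resolve_left (mul_ne_zero hk2 (pow_ne_zero 2 hk3))
  have q14 : w * A4 ^ 2 + w ^ 2 * A1 = 0 := by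
    have : k1 * k4 ^ 2 * (w * A4 ^ 2 + w ^ 2 * A1) = 0 := by
      rw [mul_left_comm l4 (w ^ 2) y4, r4] at A14
      linear_combination A14 - k1 * k4 ^ 2 * A4 ^ 2 * w * w3 - k4 ^ 2 * w ^ 2 * r1
    exact (mul_eq_zero.1 this).resolve_left (mul_ne_zero hk1 (pow_ne_zero 2 hk4))
  have q24 : A4 ^ 2 + A2 = 0 := by
    have : k2 * k4 ^ 2 * (A4 ^ 2 + A2) = 0 := by
      rw [r4] at A24; linear_combination A24 - k4 ^ 2 * r2
    exact (mul_eq_zero.1 this).resolve_left (mul_ne_zero hk2 (pow_ne_zero 2 hk4))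
  have h12 : A1 = A2 := by linear_combination q13 - q23
  have hA0 : A2 ≠ 0 := div_ne_zero (mul_ne_zero hl2 hx2) hk2
  have : (w + w ^ 2) * A2 = 0 := by linear_combination q14 - w * q24 - w ^ 2 * h12 + w * A2 * t
  rcases mul_eq_zero.1 this with h | h
  · exact one_ne_zero (α := F) (by linear_combination hw - h)
  · exact hA0 h

end Disp

end CfsgLib.ThreeTrans.USix
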