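import Mathlib
import Cfsg.Agent.Lib.ThreeTrans.TypeTop.Displacement

/-! No involutory automorphism of the members of the transvection class of `PSU(6,2)` commuting with a given
one moves each of them to a different commuting one. -/

set_option autoImplicit false
set_option linter.unusedSectionVars false

namespace CfsgLib.ThreeTrans.USix

open Matrix CfsgLib.ClassicalGroups
open CfsgLib.ThreeTrans.Tower (Dd_symm)

variable {F : Type*} [Field F] [Fintype F]

local notation "V" => Fin 6 → F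
local notation "W" => Fin 4 → F
local notation "𝕙" => Cfsg.hermForm 6 F 2
local notation "𝕙₄" => Cfsg.hermForm 4 F 2
local notation "SU₆" => Cfsg.SU 6 F 2
local notation "PSU₆" => Cfsg.PSU 6 F 2

open Classical in
/-- The member with a given vector. -/
noncomputable def memberAt (v : Fin 6 → F) : Cfsg.PSU 6 F 2 :=
  if h : ∃ A, IsTvAt v A then QuotientGroup.mk h.choose else 1

theorem mk6_add (a b a' b' : F) (z z' : Fin 4 → F) :
    (mk6 a b z + mk6 a' b' z' : Fin 6 → F) = mk6 (a + a') (b + b') (z + z') := by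
  funext i; fin_cases i <;> rfl

variable (hF : Fintype.card F = 2 ^ 2)
include hF

theorem memberAt_eq {v : V} {A : SU₆} (hA : IsTvAt v A) : memberAt v = (QuotientGroup.mk A : PSU₆) := by
  have h : ∃ B, IsTvAt v B := ⟨A, hA⟩
  rw [memberAt, dif_pos h, h.choose_spec.unique hF hA]

theorem memberAt_conj {v u : V} (hv0 : v ≠ 0) (hv : 𝕙 v v = 0) (hu0 : u ≠ 0) (hu : 𝕙 u u = 0) :
    memberAt v * memberAt u * (memberAt v)⁻¹ = memberAt (u + 𝕙 u v • v) := by
  obtain ⟨A, hA⟩ := exists_tvAt hF hv0 hv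
  obtain ⟨B, hB⟩ := exists_tvAt hF hu0 hu
  have h := hB.conj hF A
  rw [hA.apply] at h
  rw [memberAt_eq hF hA, memberAt_eq hF hB, memberAt_eq hF h, QuotientGroup.mk_mul, QuotientGroup.mk_mul,
    QuotientGroup.mk_inv]

namespace TClass

variable {E : Set (Cfsg.PSU 6 F 2)} (hE : TClass E)
include hE

/-- The members commuting with the standard one, by their vectors. -/
theorem mem_Dd_member {l : F} {z : W} (hz : IsPt z) :
    memberAt (mk6 l l z) ∈ Dd E (memberAt (v₀ : V)) := by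
  obtain ⟨A, hA⟩ := exists_tvAt hF (v₀_ne hF) (v₀_iso hF)
  have hne : mk6 l l z ≠ (0 : V) := fun h => hz.1 ((tl_mk6 l l z).symm.trans (congrArg tl h))
  obtain ⟨B, hB⟩ := exists_tvAt hF hne (v := mk6 l l z) (by
    rw [herm_mk6, hz.2]; linear_combination l * l ^ 2 * two_eq_zero hF)
  rw [memberAt_eq hF hA, memberAt_eq hF hB]
  refine (hE.mem_Dd_iff hF hA hB).2 ⟨by rw [herm_v₀ hF, mk6_zero, mk6_one]; exact add_self' hF l, fun c h => ?_⟩
  exact smul_ne_of_tl (tl_mk6 1 1 0) (by rw [tl_mk6]; exact hz.1) c h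

theorem exists_vec {y : PSU₆} (hy : y ∈ Dd E (memberAt (v₀ : V))) :
    ∃ (l : F) (z : W), IsPt z ∧ y = memberAt (mk6 l l z) := by
  obtain ⟨A, hA⟩ := exists_tvAt hF (v₀_ne hF) (v₀_iso hF)
  obtain ⟨v, B, hB, rfl⟩ := hE.rep hF hy.1
  rw [memberAt_eq hF hA] at hy
  obtain ⟨h0, hns⟩ := (hE.mem_Dd_iff hF hA hB).1 hy
  rw [herm_v₀ hF] at h0
  have e1 : v 1 = v 0 := by linear_combination h0 - v 0 * two_eq_zero hF
  have hv := mk6_tl v
  rw [e1] at hv
  refine ⟨v 0, tl v, ⟨fun h => hns (v 0) ?_, ?_⟩, by rw [hv, memberAt_eq hF hB]⟩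
  · rw [v₀, smul_mk6, mul_one, smul_zero]
    conv_lhs => rw [← hv, h]
  · have h := hB.2.1
    rw [← hv, herm_mk6] at h
    linear_combination h - v 0 * v 0 ^ 2 * two_eq_zero hF

omit hE in
theorem comm_member {l l' : F} {z u : W} (hz : IsPt z) (hu : IsPt u) :
    Commute (memberAt (mk6 l l z)) (memberAt (mk6 l' l' u)) ↔ 𝕙₄ z u = 0 := by
  have hiso : ∀ (l : F) (z : W), IsPt z → mk6 l l z ≠ (0 : V) ∧ 𝕙 (mk6 l l z) (mk6 l l z) = 0 :=
    fun l z hz => ⟨fun h => hz.1 ((tl_mk6 l l z).symm.trans (congrArg tl h)),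
      by rw [herm_mk6, hz.2]; linear_combination l * l ^ 2 * two_eq_zero hF⟩
  obtain ⟨A, hA⟩ := exists_tvAt hF (hiso l z hz).1 (hiso l z hz).2
  obtain ⟨B, hB⟩ := exists_tvAt hF (hiso l' u hu).1 (hiso l' u hu).2
  rw [memberAt_eq hF hA, memberAt_eq hF hB, commute_mk_iff hF hA hB, herm_mk6]
  constructor <;> intro h
  · linear_combination h - l * l' ^ 2 * two_eq_zero hF
  · linear_combination h + l * l' ^ 2 * two_eq_zero hF

omit hE in
theorem member_eq {l l' : F} {z u : W} (hz : IsPt z) (hu : IsPt u) :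
    memberAt (mk6 l l z) = memberAt (mk6 l' l' u) ↔ ∃ c : F, c ≠ 0 ∧ u = c • z ∧ l' = c * l := by
  have hiso : ∀ (l : F) (z : W), IsPt z → mk6 l l z ≠ (0 : V) ∧ 𝕙 (mk6 l l z) (mk6 l l z) = 0 :=
    fun l z hz => ⟨fun h => hz.1 ((tl_mk6 l l z).symm.trans (congrArg tl h)),
      by rw [herm_mk6, hz.2]; linear_combination l * l ^ 2 * two_eq_zero hF⟩
  obtain ⟨A, hA⟩ := exists_tvAt hF (hiso l z hz).1 (hiso l z hz).2
  obtain ⟨B, hB⟩ := exists_tvAt hF (hiso l' u hu).1 (hiso l' u hu).2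
  rw [memberAt_eq hF hA, memberAt_eq hF hB]
  constructor
  · intro h
    rw [← eq_of_mk_eq hF hA hB h] at hB
    obtain ⟨c, hc, e⟩ := hA.line hF hB
    rw [smul_mk6, mk6_inj] at e
    exact ⟨c, hc, e.2.2, e.1⟩
  · rintro ⟨c, hc, rfl, rfl⟩
    have h := hA.scale hF hc
    rw [smul_mk6] at h
    rw [h.unique hF hB]

end TClass

/-- The only points orthogonal to the same points are proportional. -/
theorem eq_smul_of_perp_iff {z z' : W} (hz : IsPt z) (hz' : IsPt z')
    (h : ∀ u, IsPt u → (𝕙₄ z u = 0 ↔ 𝕙₄ z' u = 0)) : ∃ k : F, k ≠ 0 ∧ z' = k • z := by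
  by_contra hne
  push Not at hne
  have hzz : 𝕙₄ z' z = 0 := (h z hz).1 hz.2
  have hzz' : 𝕙₄ z z' = 0 := by rw [hermForm_symm hF 4 z' z, hzz, zero_pow two_ne_zero]
  have hli : LinearIndependent F ![z, z'] := by
    rw [LinearIndependent.pair_iff]
    intro s t e
    by_cases ht : t = 0
    · exact ⟨by simpa [ht, hz.1] using e, ht⟩
    · exfalso
      have e' : z' = (-s / t) • z := by
        have : t • z' = (-s) • z := by linear_combination (norm := module) e
        have := congrArg (t⁻¹ • ·) this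
        simp only [smul_smul, inv_mul_cancel₀ ht, one_smul] at this
        rw [this]; congr 1; field_simp
      by_cases hs : -s / t = 0
      · exact hz'.1 (by rw [e', hs, zero_smul])
      · exact hne _ hs e'
  obtain ⟨f, f', hfr⟩ := frame_of_line hF hli hz.2 hz'.2 hzz'
  have hu : IsPt ((0 : F) • z + (0 : F) • f + (0 : F) • z' + (1 : F) • f') := hfr.isPt hF (by simp) (by ring)
  have g1 := hfr.gram 1 0 0 0 0 0 0 1
  have g2 := hfr.gram 0 0 1 0 0 0 0 1
  simp at g1 g2
  have := (h _ hu).1 (by simpa using g1)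
  exact one_ne_zero (α := F) (by simpa [g2] using this)

/-- An involution on the isotropic points of the complement fixes one. -/
theorem exists_fixed_point (β : W → W) (hpt : ∀ z, IsPt z → IsPt (β z))
    (hinv : ∀ z, IsPt z → ∃ k : F, k ≠ 0 ∧ β (β z) = k • z)
    (hscale : ∀ z, IsPt z → ∀ k : F, k ≠ 0 → ∃ m : F, m ≠ 0 ∧ β (k • z) = m • β z) :
    ∃ z : W, IsPt z ∧ ∃ a : F, β z = a • z := by
  classical
  let X := {L : Submodule F W | ∃ z, IsPt z ∧ L = Submodule.span F {z}}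
  have hsel : ∀ L : X, ∃ z : W, IsPt z ∧ (L : Submodule F W) = Submodule.span F {z} := fun L => L.2
  choose r hr hrL using hsel
  have hscal : ∀ {z : W}, IsPt z → ∀ c : F, c ≠ 0 → IsPt (c • z) := fun hz c hc =>
    ⟨smul_ne_zero hc hz.1, by rw [hermForm_smul_left, hermForm_smul_right, hz.2, mul_zero, mul_zero]⟩
  let g : X × Fˣ → {z : W | IsPt z} := fun p => ⟨(p.2 : F) • r p.1, hscal (hr p.1) _ p.2.ne_zero⟩
  have hg : Function.Bijective g := by
    constructor
    · rintro ⟨L, c⟩ ⟨L', c'⟩ h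
      have h' : (c : F) • r L = (c' : F) • r L' := congrArg Subtype.val h
      obtain rfl : L = L' := Subtype.ext (by
        rw [hrL L, hrL L', ← Submodule.span_singleton_smul_eq c.ne_zero.isUnit (r L), h',
          Submodule.span_singleton_smul_eq c'.ne_zero.isUnit])
      obtain rfl : c = c' := Units.ext (smul_left_injective F (hr L).1 h')
      rfl
    · rintro ⟨z, hz⟩
      let L : X := ⟨_, z, hz, rfl⟩
      have h : Submodule.span F {z} = Submodule.span F {r L} := hrL L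
      have hm : z ∈ Submodule.span F {r L} := h ▸ Submodule.mem_span_singleton_self z
      obtain ⟨c, hc⟩ := Submodule.mem_span_singleton.1 hm
      have hc0 : c ≠ 0 := fun e => hz.1 (by rw [← hc, e, zero_smul])
      exact ⟨(L, Units.mk0 c hc0), Subtype.ext hc⟩
  have hodd : ¬ 2 ∣ Fintype.card X := by
    have h := Nat.card_eq_of_bijective g hg
    rw [Nat.card_prod, Nat.card_units, Nat.card_eq_fintype_card (α := F), hF, Nat.card_coe_set_eq {z : W | IsPt z},
      show {z : W | IsPt z} = {z : W | 𝕙₄ z z = 0} \ {0} from Set.ext fun z => and_comm,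
      Set.ncard_diff_singleton_of_mem (show (0 : W) ∈ {z : W | 𝕙₄ z z = 0} from hermForm_zero_left _),
      ncard_iso_four hF, Nat.card_eq_fintype_card (α := X)] at h
    omega
  let f : X → X := fun L => ⟨Submodule.span F {β (r L)}, _, hpt _ (hr L), rfl⟩
  have hff : Function.Involutive f := by
    intro L
    apply Subtype.ext
    show Submodule.span F {β (r (f L))} = (L : Submodule F W)
    have h1 : Submodule.span F {r (f L)} = Submodule.span F {β (r L)} := (hrL (f L)).symm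
    have hm : r (f L) ∈ Submodule.span F {β (r L)} := h1 ▸ Submodule.mem_span_singleton_self _
    obtain ⟨c, hc⟩ := Submodule.mem_span_singleton.1 hm
    have hc0 : c ≠ 0 := fun e => (hr (f L)).1 (by rw [← hc, e, zero_smul])
    obtain ⟨m, hm0, hm'⟩ := hscale _ (hpt _ (hr L)) c hc0
    obtain ⟨k, hk, hk'⟩ := hinv _ (hr L)
    rw [← hc, hm', hk', smul_smul, Submodule.span_singleton_smul_eq (mul_ne_zero hm0 hk).isUnit, ← hrL L]
  obtain ⟨L, hL⟩ := Equiv.Perm.exists_fixed_point_of_prime (p := 2) (n := 1) hodd (σ := hff.toPerm f) (by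
    ext L; simp [pow_two, hff L])
  have h1 : Submodule.span F {β (r L)} = Submodule.span F {r L} := (congrArg Subtype.val hL).trans (hrL L)
  obtain ⟨a, ha⟩ := Submodule.mem_span_singleton.1 (h1 ▸ Submodule.mem_span_singleton_self (β (r L)))
  exact ⟨r L, hr L, a, ha.symm⟩

namespace TClass

variable {E : Set (Cfsg.PSU 6 F 2)} (hE : TClass E)
include hE

theorem no_displacement_std (σ : PSU₆ → PSU₆) (hmem : ∀ y ∈ Dd E (memberAt v₀), σ y ∈ Dd E (memberAt v₀))
    (hmove : ∀ y ∈ Dd E (memberAt v₀), σ y ∈ Dd E y) (hinv : ∀ y ∈ Dd E (memberAt v₀), σ (σ y) = y)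
    (hcomm : ∀ y ∈ Dd E (memberAt v₀), ∀ z ∈ Dd E (memberAt v₀), (Commute (σ y) (σ z) ↔ Commute y z))
    (hconj : ∀ y ∈ Dd E (memberAt v₀), ∀ z ∈ Dd E (memberAt v₀), ¬ Commute y z →
      σ (y * z * y⁻¹) = σ y * σ z * (σ y)⁻¹) : False := by
  classical
  have hsel : ∀ z : W, ∃ p : F × W, IsPt z → IsPt p.2 ∧ σ (memberAt (mk6 0 0 z)) = memberAt (mk6 p.1 p.1 p.2) := by
    intro z
    by_cases hz : IsPt z
    · obtain ⟨l, z', hz', e⟩ := hE.exists_vec hF (hmem _ (hE.mem_Dd_member hF hz))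
      exact ⟨(l, z'), fun _ => ⟨hz', e⟩⟩
    · exact ⟨(0, 0), fun h => absurd h hz⟩
  choose p hp using hsel
  set β : W → W := fun z => (p z).2 with hβ
  set c : W → F := fun z => (p z).1 with hc
  have hpt : ∀ z, IsPt z → IsPt (β z) := fun z hz => (hp z hz).1
  have hσ : ∀ z, IsPt z → σ (memberAt (mk6 0 0 z)) = memberAt (mk6 (c z) (c z) (β z)) := fun z hz => (hp z hz).2
  have mem : ∀ {l : F} {z : W}, IsPt z → memberAt (mk6 l l z) ∈ Dd E (memberAt (v₀ : V)) := fun hz =>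
    hE.mem_Dd_member hF hz
  have hperp : ∀ z u, IsPt z → IsPt u → (𝕙₄ z u = 0 ↔ 𝕙₄ (β z) (β u) = 0) := by
    intro z u hz hu
    rw [← comm_member hF hz hu (l := 0) (l' := 0), ← hcomm _ (mem hz) _ (mem hu), hσ z hz, hσ u hu,
      comm_member hF (hpt z hz) (hpt u hu)]
  have hscale : ∀ z, IsPt z → ∀ k : F, k ≠ 0 → ∃ m : F, m ≠ 0 ∧ β (k • z) = m • β z ∧ c (k • z) = m * c z := by
    intro z hz k hk
    have hkz : IsPt (k • z) := ⟨smul_ne_zero hk hz.1, by
      rw [hermForm_smul_left, hermForm_smul_right, hz.2, mul_zero, mul_zero]⟩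
    have e : memberAt (mk6 0 0 z) = memberAt (mk6 0 0 (k • z)) :=
      (member_eq hF hz hkz).2 ⟨k, hk, rfl, (mul_zero k).symm⟩
    have h := congrArg σ e
    rw [hσ z hz, hσ _ hkz] at h
    exact (member_eq hF (hpt z hz) (hpt _ hkz)).1 h
  have hclass : ∀ z, IsPt z → ∃ k : F, k ≠ 0 ∧ β (β z) = k • z := by
    intro z hz
    refine eq_smul_of_perp_iff hF hz (hpt _ (hpt z hz)) fun u hu => ?_
    have h1 : Commute (memberAt (mk6 0 0 z)) (memberAt (mk6 0 0 u)) ↔
        Commute (memberAt (mk6 (c z) (c z) (β z))) (σ (memberAt (mk6 0 0 u))) := by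
      rw [← hσ z hz]; exact (hcomm _ (mem hz) _ (mem hu)).symm
    have h2 : Commute (memberAt (mk6 (c (β z)) (c (β z)) (β (β z)))) (memberAt (mk6 0 0 u)) ↔
        Commute (memberAt (mk6 0 0 (β z))) (σ (memberAt (mk6 0 0 u))) := by
      rw [← hσ _ (hpt z hz)]
      conv_lhs => rw [← hinv _ (mem hu)]
      exact hcomm _ (mem (hpt z hz)) _ (hmem _ (mem hu))
    rw [hσ u hu, comm_member hF (hpt z hz) (hpt u hu), comm_member hF hz hu] at h1
    rw [hσ u hu, comm_member hF (hpt z hz) (hpt u hu), comm_member hF (hpt _ (hpt z hz)) hu] at h2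
    exact h1.trans h2.symm
  have hD : Disp β c := by
    refine ⟨hpt, fun z hz => ?_, hperp, hclass, fun z hz k hk => ?_, fun z hz k hk hcz => ?_, fun u z hu hz hne => ?_⟩
    · have h := (hmove _ (mem (l := 0) hz)).2.2
      rw [hσ z hz] at h
      exact (comm_member hF hz (hpt z hz)).1 h
    · obtain ⟨m, hm, h, -⟩ := hscale z hz k hk
      exact ⟨m, hm, h⟩
    · have hk0 : k ≠ 0 := fun e => (hpt z hz).1 (by rw [hk, e, zero_smul])
      have h := (hmove _ (mem (l := 0) hz)).2.1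
      rw [hσ z hz] at h
      exact h ((member_eq hF hz (hpt z hz)).2 ⟨k, hk0, hk, by rw [hcz, mul_zero]⟩).symm
    · have hiso : ∀ (l : F) (z : W), IsPt z → mk6 l l z ≠ (0 : V) ∧ 𝕙 (mk6 l l z) (mk6 l l z) = 0 :=
        fun l z hz => ⟨fun h => hz.1 ((tl_mk6 l l z).symm.trans (congrArg tl h)),
          by rw [herm_mk6, hz.2]; linear_combination l * l ^ 2 * two_eq_zero hF⟩
      have hzu : 𝕙₄ z u ≠ 0 := fun e => hne (by rw [hermForm_symm hF 4 z u, e, zero_pow two_ne_zero])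
      set h := 𝕙₄ u z with hh
      have hw : IsPt (u + h • z) := by
        refine ⟨fun e => hne ?_, ?_⟩
        · have e2 : 𝕙₄ (u + h • z) z = 0 := by rw [e]; simp [Cfsg.hermForm]
          rwa [hermForm_add_left, hermForm_smul_left, hz.2, mul_zero, add_zero] at e2
        · rw [hermForm_add_left, hermForm_add_right hF, hermForm_add_right hF, hermForm_smul_left,
            hermForm_smul_right, hermForm_smul_left, hermForm_smul_right, hu.2, hz.2,
            hermForm_symm hF 4 u z, ← hh]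
          linear_combination h * h ^ 2 * two_eq_zero hF
      have e := hconj _ (mem (l := 0) hz) _ (mem (l := 0) hu) fun e => hzu ((comm_member hF hz hu).1 e)
      rw [memberAt_conj hF (hiso 0 z hz).1 (hiso 0 z hz).2 (hiso 0 u hu).1 (hiso 0 u hu).2, herm_mk6] at e
      simp only [zero_mul, zero_add, smul_mk6, mul_zero] at e
      rw [show mk6 0 0 u + mk6 0 0 (h • z) = (mk6 0 0 (u + h • z) : V) by rw [mk6_add]; simp] at e
      rw [hσ _ hw, hσ z hz, hσ u hu,
        memberAt_conj hF (hiso _ _ (hpt z hz)).1 (hiso _ _ (hpt z hz)).2 (hiso _ _ (hpt u hu)).1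
          (hiso _ _ (hpt u hu)).2] at e
      set h' := 𝕙₄ (β u) (β z) with hh'
      rw [herm_mk6, ← hh', show c u * c z ^ 2 + c u * c z ^ 2 + h' = h' by
        linear_combination c u * c z ^ 2 * two_eq_zero hF, smul_mk6, mk6_add] at e
      have hw' : IsPt (β u + h' • β z) := by
        refine ⟨fun e0 => (hperp u z hu hz).not.1 hne ?_, ?_⟩
        · have e2 : 𝕙₄ (β u + h' • β z) (β z) = 0 := by rw [e0]; simp [Cfsg.hermForm]
          rwa [hermForm_add_left, hermForm_smul_left, (hpt z hz).2, mul_zero, add_zero] at e2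
        · rw [hermForm_add_left, hermForm_add_right hF, hermForm_add_right hF, hermForm_smul_left,
            hermForm_smul_right, hermForm_smul_left, hermForm_smul_right, (hpt u hu).2, (hpt z hz).2,
            hermForm_symm hF 4 (β u) (β z), ← hh']
          linear_combination h' * h' ^ 2 * two_eq_zero hF
      obtain ⟨m, hm, h1, h2⟩ := (member_eq hF hw' (hpt _ hw)).1 e.symm
      exact ⟨m, hm, h1, h2⟩
  obtain ⟨z, hz, a, ha⟩ := exists_fixed_point hF β hpt hclass fun z hz k hk => hD.scale z hz k hk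
  exact hD.no_fixed hF hz ha

/-- The statement at any member. -/
theorem no_displacement {a : PSU₆} (ha : a ∈ E) (σ : PSU₆ → PSU₆) (hmem : ∀ y ∈ Dd E a, σ y ∈ Dd E a)
    (hmove : ∀ y ∈ Dd E a, σ y ∈ Dd E y) (hinv : ∀ y ∈ Dd E a, σ (σ y) = y)
    (hcomm : ∀ y ∈ Dd E a, ∀ z ∈ Dd E a, (Commute (σ y) (σ z) ↔ Commute y z))
    (hconj : ∀ y ∈ Dd E a, ∀ z ∈ Dd E a, ¬ Commute y z → σ (y * z * y⁻¹) = σ y * σ z * (σ y)⁻¹) : False := by
  obtain ⟨v, A, hA, rfl⟩ := hE.rep hF ha
  obtain ⟨A₀, hA₀⟩ := exists_tvAt hF (v₀_ne hF) (v₀_iso hF)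
  obtain ⟨s, hs⟩ := tv_conjugate hF hA₀ hA
  set t : PSU₆ := QuotientGroup.mk s
  have hs' : t * memberAt (v₀ : V) * t⁻¹ = QuotientGroup.mk A := by
    rw [memberAt_eq hF hA₀, ← QuotientGroup.mk_inv, ← QuotientGroup.mk_mul, ← QuotientGroup.mk_mul, hs]
  set a₀ : PSU₆ := memberAt (v₀ : V)
  set a : PSU₆ := QuotientGroup.mk A
  have hcl := hE.closed hF
  have back : ∀ {x y : PSU₆}, y ∈ Dd E x → ∀ g : PSU₆, g * y * g⁻¹ ∈ Dd E (g * x * g⁻¹) := fun hy g =>
    ⟨hcl.2 g _ hy.1, fun e => hy.2.1 (conj_injective e), (commute_conj_iff g _ _).2 hy.2.2⟩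
  have up : ∀ y ∈ Dd E a₀, t * y * t⁻¹ ∈ Dd E a := fun y hy => hs' ▸ back hy t
  have down : ∀ {x y : PSU₆}, y ∈ Dd E (t * x * t⁻¹) → t⁻¹ * y * t ∈ Dd E x := fun {x y} hy => by
    have := back hy t⁻¹
    rwa [inv_inv, show t⁻¹ * (t * x * t⁻¹) * t = x by group] at this
  refine hE.no_displacement_std hF (fun y => t⁻¹ * σ (t * y * t⁻¹) * t) (fun y hy => ?_) (fun y hy => ?_)
    (fun y hy => ?_) (fun y hy z hz => ?_) fun y hy z hz hn => ?_
  · exact down (by rw [hs']; exact hmem _ (up y hy))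
  · exact down (hmove _ (up y hy))
  · rw [show t * (t⁻¹ * σ (t * y * t⁻¹) * t) * t⁻¹ = σ (t * y * t⁻¹) by group, hinv _ (up y hy)]; group
  · rw [← commute_conj_iff t, show t * (t⁻¹ * σ (t * y * t⁻¹) * t) * t⁻¹ = σ (t * y * t⁻¹) by group,
      show t * (t⁻¹ * σ (t * z * t⁻¹) * t) * t⁻¹ = σ (t * z * t⁻¹) by group, hcomm _ (up y hy) _ (up z hz),
      commute_conj_iff]
  · have := hconj _ (up y hy) _ (up z hz) fun e => hn ((commute_conj_iff t _ _).1 e)
    rw [show t * (y * z * y⁻¹) * t⁻¹ = t * y * t⁻¹ * (t * z * t⁻¹) * (t * y * t⁻¹)⁻¹ by group, this]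
    group

end TClass

end CfsgLib.ThreeTrans.USix
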