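import Mathlib
import Cfsg.Agent.Lib.ThreeTrans.Tower.UnitaryCount

/-! Two different sets of six commuting transvections of `PSU(6,2)` with product one having three
members in common. -/

set_option autoImplicit false
set_option linter.unusedSectionVars false

namespace CfsgLib.ThreeTrans.USix

open Matrix CfsgLib.ClassicalGroups

variable {F : Type*} [Field F] [Fintype F]

local notation "V" => Fin 6 → F
local notation "𝕙" => Cfsg.hermForm 6 F 2
local notation "SU₆" => Cfsg.SU 6 F 2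
local notation "PSU₆" => Cfsg.PSU 6 F 2

/-- A vector of the standard totally isotropic plane. -/
def planeVec (r : Fin 3 → F) : V := ![r 0, r 0, r 1, r 1, r 2, r 2]

/-- The six points of a hyperoval of the plane. -/
def ovalPts (a b c d e f : F) : Fin 6 → Fin 3 → F :=
  ![![1, 0, 0], ![0, 1, 0], ![0, 0, 1], ![1, a, b], ![1, c, d], ![1, e, f]]

variable (hF : Fintype.card F = 2 ^ 2)
include hF

theorem herm_planeVec_right (x : V) (r : Fin 3 → F) :
    𝕙 x (planeVec r) = ∑ j : Fin 3, ![x 0 + x 1, x 2 + x 3, x 4 + x 5] j * r j ^ 2 := by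
  simp [planeVec, herm_six, Fin.sum_univ_three]
  ring

theorem herm_planeVec (r s : Fin 3 → F) : 𝕙 (planeVec r) (planeVec s) = 0 := by
  rw [herm_planeVec_right hF]
  simp [planeVec, add_self' hF, Fin.sum_univ_three]

theorem herm_sum_left {ι : Type*} (s : Finset ι) (u : ι → V) (v : V) :
    𝕙 (∑ i ∈ s, u i) v = ∑ i ∈ s, 𝕙 (u i) v := by
  classical
  induction s using Finset.induction_on with
  | empty => simp [Cfsg.hermForm]
  | insert i s hi ih => rw [Finset.sum_insert hi, Finset.sum_insert hi, hermForm_add_left, ih]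

/-- A product of commuting transvections. -/
theorem prod_apply {n : ℕ} (v : Fin n → V) (A : Fin n → SU₆) (hA : ∀ i, IsTvAt (v i) (A i))
    (h0 : ∀ i j, 𝕙 (v i) (v j) = 0) (x : V) :
    (List.ofFn A).prod.1.1 *ᵥ x = x + ∑ i, 𝕙 x (v i) • v i := by
  induction n with
  | zero => simp [List.ofFn_zero, SU_one_mulVec]
  | succ n ih =>
    rw [List.ofFn_succ, List.prod_cons, SU_mul_mulVec,
      ih (fun i => v i.succ) (fun i => A i.succ) (fun i => hA _) (fun i j => h0 _ _), (hA 0).apply,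
      Fin.sum_univ_succ, hermForm_add_left, herm_sum_left hF]
    have hz : ∑ i : Fin n, 𝕙 (𝕙 x (v i.succ) • v i.succ) (v 0) = 0 :=
      Finset.sum_eq_zero fun i _ => by rw [hermForm_smul_left, h0, mul_zero]
    rw [hz, add_zero]
    abel

/-- Six points with vanishing Gram sums give six commuting members with product one. -/
theorem six_of_points (r : Fin 6 → Fin 3 → F) (hne : ∀ i, r i ≠ 0)
    (hline : ∀ i j, i ≠ j → ∀ c : F, r j ≠ c • r i)
    (hgram : ∀ j k, ∑ i, r i j ^ 2 * r i k = 0) {E : Set PSU₆} (hE : TClass E) :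
    ∃ A : Fin 6 → SU₆, (∀ i, IsTvAt (planeVec (r i)) (A i)) ∧
      Function.Injective (fun i => (QuotientGroup.mk (A i) : PSU₆)) ∧
      (∀ i, (QuotientGroup.mk (A i) : PSU₆) ∈ E) ∧
      (∀ i j, Commute (QuotientGroup.mk (A i) : PSU₆) (QuotientGroup.mk (A j))) ∧
      (List.ofFn fun i => (QuotientGroup.mk (A i) : PSU₆)).prod = 1 := by
  have hne' : ∀ i, planeVec (r i) ≠ (0 : V) := fun i h => hne i (funext fun j => by
    fin_cases j
    · exact congrFun h 0
    · exact congrFun h 2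
    · exact congrFun h 4)
  choose A hA using fun i => exists_tvAt hF (hne' i) (herm_planeVec hF (r i) (r i))
  have hinj : Function.Injective (fun i => (QuotientGroup.mk (A i) : PSU₆)) := by
    intro i j h
    by_contra hij
    obtain ⟨c, -, hc⟩ := (hE.mk_eq_iff hF (hA i) (hA j)).1 h
    refine hline i j hij c (funext fun k => ?_)
    fin_cases k
    · exact congrFun hc 0
    · exact congrFun hc 2
    · exact congrFun hc 4
  refine ⟨A, hA, hinj, fun i => hE.hall hF (hA i),
    fun i j => (commute_mk_iff hF (hA i) (hA j)).2 (herm_planeVec hF _ _), ?_⟩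
  have hprod : (List.ofFn A).prod = 1 := SU_ext fun x => by
    rw [prod_apply hF _ A hA (fun i j => herm_planeVec hF _ _), SU_one_mulVec, add_eq_left]
    simp only [herm_planeVec_right hF]
    have key : ∀ k, ∑ i, (∑ j, ![x 0 + x 1, x 2 + x 3, x 4 + x 5] j * r i j ^ 2) * r i k = 0 := fun k => by
      rw [Finset.sum_congr rfl fun i _ => Finset.sum_mul _ _ (r i k), Finset.sum_comm]
      refine Finset.sum_eq_zero fun j _ => ?_
      simp_rw [mul_assoc, ← Finset.mul_sum, hgram j k, mul_zero]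
    funext c
    rw [Finset.sum_apply]
    fin_cases c <;> first | exact key 0 | exact key 1 | exact key 2
  have h := map_list_prod (QuotientGroup.mk' (Subgroup.center SU₆)) (List.ofFn A)
  rw [hprod, map_one, List.map_ofFn] at h
  exact h.symm

/-- The Gram sums of a hyperoval. -/
theorem oval_gram {a b c d e f : F} (ha : a ≠ 0) (hb : b ≠ 0) (hc : c ≠ 0) (hd : d ≠ 0) (he : e ≠ 0) (hf : f ≠ 0)
    (h1 : a + c + e = 0) (h2 : b + d + f = 0) (h12 : a ^ 2 * b + c ^ 2 * d + e ^ 2 * f = 0)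
    (h21 : b ^ 2 * a + d ^ 2 * c + f ^ 2 * e = 0) :
    ∀ j k, ∑ i, ovalPts a b c d e f i j ^ 2 * ovalPts a b c d e f i k = 0 := by
  have c3 : ∀ x : F, x ≠ 0 → x ^ 2 * x = 1 := fun x hx => by rw [← cube_eq_one hF hx]; ring
  have t := two_eq_zero hF
  have s1 : a ^ 2 + c ^ 2 + e ^ 2 = 0 := by linear_combination (a + c + e) * h1 - (a * c + a * e + c * e) * t
  have s2 : b ^ 2 + d ^ 2 + f ^ 2 = 0 := by linear_combination (b + d + f) * h2 - (b * d + b * f + d * f) * t
  intro j k
  fin_cases j <;> fin_cases k <;>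
    simp [ovalPts, Fin.sum_univ_six, c3, ha, hb, hc, hd, he, hf]
  all_goals first
    | exact h1
    | exact h2
    | exact h12
    | exact h21
    | exact s1
    | exact s2
    | linear_combination (2 : F) * t
    | linear_combination h1
    | linear_combination h2
    | linear_combination h12
    | linear_combination h21

/-- The six points of a hyperoval are different. -/
theorem oval_lines {a b c d e f : F} (ha : a ≠ 0) (hc : c ≠ 0) (he : e ≠ 0) (hac : a ≠ c) (hae : a ≠ e)
    (hce : c ≠ e) :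
    (∀ i, ovalPts a b c d e f i ≠ 0) ∧
      ∀ i j, i ≠ j → ∀ s : F, ovalPts a b c d e f j ≠ s • ovalPts a b c d e f i := by
  constructor
  · intro i h
    have e0 := congrFun h 0
    have e1 := congrFun h 1
    have e2 := congrFun h 2
    fin_cases i <;> simp [ovalPts] at e0 e1 e2
  · intro i j hij s h
    have e0 := congrFun h 0
    have e1 := congrFun h 1
    have e2 := congrFun h 2
    fin_cases i <;> fin_cases j <;> simp [ovalPts] at hij e0 e1 e2 <;>
      first | (subst e0; simp_all) | simp_all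

theorem oval_head (a b c d e f a' b' c' d' e' f' : F) :
    ovalPts a b c d e f 0 = ovalPts a' b' c' d' e' f' 0 ∧ ovalPts a b c d e f 1 = ovalPts a' b' c' d' e' f' 1 ∧
      ovalPts a b c d e f 2 = ovalPts a' b' c' d' e' f' 2 := by
  simp [ovalPts]

/-- Two sets of six with three members in common. -/
theorem exists_two_six_std {E : Set PSU₆} (hE : TClass E) :
    ∃ p q r x y z x' y' z' : PSU₆,
      ([p, q, r, x, y, z].Nodup ∧ (∀ u ∈ [p, q, r, x, y, z], u ∈ E) ∧
        (∀ u ∈ [p, q, r, x, y, z], ∀ v ∈ [p, q, r, x, y, z], Commute u v) ∧ [p, q, r, x, y, z].prod = 1) ∧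
      ([p, q, r, x', y', z'].Nodup ∧ (∀ u ∈ [p, q, r, x', y', z'], u ∈ E) ∧
        (∀ u ∈ [p, q, r, x', y', z'], ∀ v ∈ [p, q, r, x', y', z'], Commute u v) ∧
        [p, q, r, x', y', z'].prod = 1) ∧
      x ∉ [x', y', z'] ∧
      ∀ i : Fin 3, ∃ T, IsTvAt (stdP i) T ∧ (QuotientGroup.mk T : PSU₆) = ![p, q, r] i := by
  obtain ⟨w, hw0, hw1, hw⟩ := exists_omega hF
  have t := two_eq_zero hF
  have w3 : w ^ 3 = 1 := cube_eq_one hF hw0
  have hw20 : w ^ 2 ≠ 0 := pow_ne_zero 2 hw0
  have hw21 : w ^ 2 ≠ 1 := fun h => hw0 (by linear_combination hw - h - t)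
  have hw2w : w ^ 2 ≠ w := fun h => one_ne_zero (α := F) (by linear_combination hw - h - w * t)
  obtain ⟨l1, l1'⟩ := oval_lines hF (a := (1 : F)) (b := (1 : F)) (c := w) (d := w ^ 2) (e := w ^ 2) (f := w)
    one_ne_zero hw0 hw20 (Ne.symm hw1) (Ne.symm hw21) (Ne.symm hw2w)
  obtain ⟨l2, l2'⟩ := oval_lines hF (a := (1 : F)) (b := w) (c := w) (d := (1 : F)) (e := w ^ 2) (f := w ^ 2)
    one_ne_zero hw0 hw20 (Ne.symm hw1) (Ne.symm hw21) (Ne.symm hw2w)
  obtain ⟨A, hA, hAi, hAm, hAc, hAp⟩ := six_of_points hF _ l1 l1' (oval_gram hF one_ne_zero one_ne_zero hw0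
    hw20 hw20 hw0 (by linear_combination hw) (by linear_combination hw)
    (by linear_combination hw + (w + w ^ 2) * w3) (by linear_combination hw + (w + w ^ 2) * w3)) hE
  obtain ⟨B, hB, hBi, hBm, hBc, hBp⟩ := six_of_points hF _ l2 l2' (oval_gram hF one_ne_zero hw0 hw0
    one_ne_zero hw20 hw20 (by linear_combination hw) (by linear_combination hw)
    (by linear_combination hw + (w ^ 3 + 1) * w3) (by linear_combination hw + (w ^ 3 + 1) * w3)) hE
  obtain ⟨q0, q1, q2⟩ := oval_head hF (1 : F) 1 w (w ^ 2) (w ^ 2) w 1 w w 1 (w ^ 2) (w ^ 2)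
  have a0 := hA 0
  have a1 := hA 1
  have a2 := hA 2
  rw [q0] at a0
  rw [q1] at a1
  rw [q2] at a2
  have e0 : A 0 = B 0 := a0.unique hF (hB 0)
  have e1 : A 1 = B 1 := a1.unique hF (hB 1)
  have e2 : A 2 = B 2 := a2.unique hF (hB 2)
  refine ⟨QuotientGroup.mk (A 0), QuotientGroup.mk (A 1), QuotientGroup.mk (A 2), QuotientGroup.mk (A 3),
    QuotientGroup.mk (A 4), QuotientGroup.mk (A 5), QuotientGroup.mk (B 3), QuotientGroup.mk (B 4),
    QuotientGroup.mk (B 5), ?_, ?_, ?_, ?_⟩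
  · have e : [(QuotientGroup.mk (A 0) : PSU₆), QuotientGroup.mk (A 1), QuotientGroup.mk (A 2),
        QuotientGroup.mk (A 3), QuotientGroup.mk (A 4), QuotientGroup.mk (A 5)] =
        List.ofFn fun i => (QuotientGroup.mk (A i) : PSU₆) := rfl
    rw [e]
    exact ⟨List.nodup_ofFn.2 hAi, List.forall_mem_ofFn_iff.2 hAm,
      List.forall_mem_ofFn_iff.2 fun i => List.forall_mem_ofFn_iff.2 fun j => hAc i j, hAp⟩
  · rw [e0, e1, e2]
    have e : [(QuotientGroup.mk (B 0) : PSU₆), QuotientGroup.mk (B 1), QuotientGroup.mk (B 2),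
        QuotientGroup.mk (B 3), QuotientGroup.mk (B 4), QuotientGroup.mk (B 5)] =
        List.ofFn fun i => (QuotientGroup.mk (B i) : PSU₆) := rfl
    rw [e]
    exact ⟨List.nodup_ofFn.2 hBi, List.forall_mem_ofFn_iff.2 hBm,
      List.forall_mem_ofFn_iff.2 fun i => List.forall_mem_ofFn_iff.2 fun j => hBc i j, hBp⟩
  · simp only [List.mem_cons, List.not_mem_nil, or_false, not_or]
    refine ⟨?_, ?_, ?_⟩ <;> intro h <;> obtain ⟨s, -, hs⟩ := (hE.mk_eq_iff hF (hA 3) (hB _)).1 h
    all_goals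
      have h0 := congrFun hs 0
      have h1 := congrFun hs 2
      have h2 := congrFun hs 4
      simp [planeVec, ovalPts] at h0 h1 h2
      subst h0
      simp_all
  · have hs : ∀ i : Fin 3, planeVec ((![![1, 0, 0], ![0, 1, 0], ![0, 0, 1]] : Fin 3 → Fin 3 → F) i) = stdP i := by
      intro i
      funext j
      fin_cases i <;> fin_cases j <;> simp [planeVec, stdP]
    have f0 : planeVec (ovalPts (1 : F) w w 1 (w ^ 2) (w ^ 2) 0) = stdP 0 := by rw [← hs 0]; simp [ovalPts]
    have f1 : planeVec (ovalPts (1 : F) w w 1 (w ^ 2) (w ^ 2) 1) = stdP 1 := by rw [← hs 1]; simp [ovalPts]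
    have f2 : planeVec (ovalPts (1 : F) w w 1 (w ^ 2) (w ^ 2) 2) = stdP 2 := by rw [← hs 2]; simp [ovalPts]
    intro i
    fin_cases i
    · exact ⟨A 0, f0 ▸ a0, rfl⟩
    · exact ⟨A 1, f1 ▸ a1, rfl⟩
    · exact ⟨A 2, f2 ▸ a2, rfl⟩

/-- Two sets of six with three members in common. -/
theorem exists_two_six {E : Set PSU₆} (hE : TClass E) :
    ∃ p q r x y z x' y' z' : PSU₆,
      ([p, q, r, x, y, z].Nodup ∧ (∀ u ∈ [p, q, r, x, y, z], u ∈ E) ∧
        (∀ u ∈ [p, q, r, x, y, z], ∀ v ∈ [p, q, r, x, y, z], Commute u v) ∧ [p, q, r, x, y, z].prod = 1) ∧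
      ([p, q, r, x', y', z'].Nodup ∧ (∀ u ∈ [p, q, r, x', y', z'], u ∈ E) ∧
        (∀ u ∈ [p, q, r, x', y', z'], ∀ v ∈ [p, q, r, x', y', z'], Commute u v) ∧
        [p, q, r, x', y', z'].prod = 1) ∧
      x ∉ [x', y', z'] := by
  obtain ⟨p, q, r, x, y, z, x', y', z', h1, h2, h3, -⟩ := exists_two_six_std hF hE
  exact ⟨p, q, r, x, y, z, x', y', z', h1, h2, h3⟩

end CfsgLib.ThreeTrans.USix
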