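import Mathlib
import Cfsg.Agent.Lib.ThreeTrans.Tower.Types
import Cfsg.Agent.Lib.ThreeTrans.TypeTop.Hyperoval

/-! In the groups of type M(22) and M(23) the subgroup generated by the members commuting with one member
is quasisimple and the whole group is simple. No existence hypothesis is needed: six commuting members
generate the parity obstruction. -/

set_option autoImplicit false

namespace CfsgLib.ThreeTrans.TypeTop

open CfsgLib.ThreeTrans CfsgLib.ThreeTrans.Tower

universe u v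

variable {G : Type u} [Group G] {D : Set G} {Y : Type v} [Group Y] {E : Set Y} {N k l m : ℕ}

section
variable [Finite G] (S : Stage D E N k l m)
include S

theorem center_cases {a : G} (ha : a ∈ D) {z : Hd D a} (hz : z ∈ Subgroup.center (Hd D a)) :
    (z : G) = 1 ∨ (z : G) = a :=
  S.kernel ha (commute_of_mem_Hd z.2) fun y hy =>
    congrArg Subtype.val (Subgroup.mem_center_iff.1 hz ⟨y, Subgroup.subset_closure hy⟩).symm

theorem center_eq {a : G} (ha : a ∈ D) :
    Subgroup.center (Hd D a) = (Subgroup.zpowers a).subgroupOf (Hd D a) := by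
  refine le_antisymm (fun z hz => ?_) fun z hz => ?_
  · rw [Subgroup.mem_subgroupOf]
    rcases center_cases S ha hz with h | h <;> rw [h]
    · exact one_mem _
    · exact Subgroup.mem_zpowers a
  · rw [Subgroup.mem_subgroupOf] at hz
    obtain ⟨n, hn⟩ := hz
    refine Subgroup.mem_center_iff.2 fun g => Subtype.ext ?_
    show (g : G) * z = z * g
    rw [← hn]
    exact ((commute_of_mem_Hd g.2).zpow_right n).eq

/-- Two members are conjugate inside the subgroup generated by the members commuting with `a`. -/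
theorem conj_in_Hd {a : G} (ha : a ∈ D) {x y : G} (hx : x ∈ Dd D a) (hy : y ∈ Dd D a) :
    ∃ h : Hd D a, (h : G) * x * (h : G)⁻¹ = y := by
  obtain ⟨π, M⟩ := S.base a ha
  obtain ⟨g, hg⟩ := S.loc.rigid.class_eq _ (M.mem hx) _ (M.mem hy)
  obtain ⟨h, rfl⟩ := M.base.surj g
  exact ⟨h, M.inj (M.conj_mem h hx) hy ((M.phi_conj h hx).trans hg)⟩

theorem pair_mem_derived {a : G} (ha : a ∈ D) {x y : Hd D a} (hx : (x : G) ∈ Dd D a) (hy : (y : G) ∈ Dd D a) :
    x * y ∈ commutator (Hd D a) := by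
  obtain ⟨h, hh⟩ := conj_in_Hd S ha hx hy
  have hxx : x * x = 1 := Subtype.ext (mul_self S.threeSet hx.1)
  have e : y = h * x * h⁻¹ := Subtype.ext hh.symm
  have hc : (Abelianization.of (x * y)) = 1 := by
    rw [e, map_mul, map_mul, map_mul, map_inv, mul_comm (Abelianization.of h), mul_inv_cancel_right,
      ← map_mul, hxx, map_one]
  exact (QuotientGroup.eq_one_iff _).1 hc

theorem even_mem_derived {a : G} (ha : a ∈ D) : ∀ (L : List (Hd D a)), (∀ x ∈ L, (x : G) ∈ Dd D a) →
    Even L.length → L.prod ∈ commutator (Hd D a)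
  | [], _, _ => one_mem _
  | [x], _, h => absurd h (by simp)
  | x :: y :: t, hm, h => by
    rw [List.prod_cons, List.prod_cons, ← mul_assoc]
    refine mul_mem (pair_mem_derived S ha (hm x (by simp)) (hm y (by simp)))
      (even_mem_derived ha t (fun z hz => hm z (by simp [hz])) ?_)
    simpa [Nat.even_add_one] using h

/-- The main criterion: an even number of members with product `a`. -/
theorem perfect_of_even {a : G} (ha : a ∈ D) (hY : commutator Y = ⊤) {L : List (Hd D a)}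
    (hL : ∀ x ∈ L, (x : G) ∈ Dd D a) (hev : Even L.length) (hprod : (L.prod : G) = a) :
    a ∈ Hd D a ∧ commutator (Hd D a) = ⊤ := by
  refine ⟨by have h1 := L.prod.2; rwa [hprod] at h1, eq_top_iff.2 fun h _ => ?_⟩
  obtain ⟨π, M⟩ := S.base a ha
  have hmap : (commutator (Hd D a)).map π = ⊤ := by
    rw [commutator_def, Subgroup.map_commutator, Subgroup.map_top_of_surjective π M.base.surj, ← commutator_def, hY]
  obtain ⟨c, hc, hce⟩ : π h ∈ (commutator (Hd D a)).map π := by rw [hmap]; trivial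
  have hz : c⁻¹ * h ∈ Subgroup.center (Hd D a) := (M.base.ker _).1 (by rw [map_mul, map_inv, hce, inv_mul_cancel])
  rw [← mul_inv_cancel_left c h]
  refine mul_mem hc ?_
  rcases center_cases S ha hz with h1 | h1
  · rw [show c⁻¹ * h = 1 from Subtype.ext h1]; exact one_mem _
  · rw [show c⁻¹ * h = L.prod from Subtype.ext (h1.trans hprod.symm)]
    exact even_mem_derived S ha L hL hev

/-- A quasisimple group from the quotient. -/
theorem quasisimple_of_perfect {a : G} (ha : a ∈ D) [IsSimpleGroup Y]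
    (hH : commutator (Hd D a) = ⊤) : Cfsg.IsQuasisimple (Hd D a) := by
  obtain ⟨π, M⟩ := S.base a ha
  have hk : π.ker = Subgroup.center (Hd D a) := Subgroup.ext fun x => M.base.ker x
  let φ := (QuotientGroup.quotientMulEquivOfEq hk.symm).trans
    (QuotientGroup.quotientKerEquivOfSurjective π M.base.surj)
  haveI : Nontrivial (Hd D a ⧸ Subgroup.center (Hd D a)) := φ.toEquiv.nontrivial
  exact ⟨⟨hH⟩, IsSimpleGroup.isSimpleGroup_of_surjective φ.symm.toMonoidHom (MulEquiv.surjective _)⟩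

/-- Simplicity of the whole group. -/
theorem simple_of_perfect (hH : ∀ a ∈ D, a ∈ Hd D a ∧ commutator (Hd D a) = ⊤) : IsSimpleGroup G := by
  have hC := S.classTwo
  have hperf : commutator G = ⊤ := by
    rw [eq_top_iff, ← hC.gen, Subgroup.closure_le]
    intro a ha
    obtain ⟨hmem, hp⟩ := hH a ha
    have h : (Hd D a).subtype ⟨a, hmem⟩ ∈ (commutator (Hd D a)).map (Hd D a).subtype :=
      Subgroup.mem_map_of_mem _ (by rw [hp]; trivial)
    rw [commutator_def, Subgroup.map_commutator] at h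
    exact Subgroup.commutator_mono le_top le_top h
  obtain ⟨h2, h3⟩ := hC.cores_of_primitive S.prim S.width
  obtain ⟨L, hL⟩ := hC.exists_component h2 h3
  haveI := hC.component_normal hL
  have hidx := hC.index_le_two_of_connected hL (hC.connected_of_primitive S.prim S.width)
  have htop : L = ⊤ := by
    by_contra hne
    have hne0 : L.index ≠ 0 := Subgroup.index_ne_zero_of_finite
    have h1 : L.index ≠ 1 := fun h => hne (Subgroup.index_eq_one.1 h)
    have h2' : Nat.card (G ⧸ L) = 2 := by rw [← Subgroup.index_eq_card]; omega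
    haveI : Fact (Nat.Prime 2) := ⟨Nat.prime_two⟩
    haveI : IsCyclic (G ⧸ L) := isCyclic_of_prime_card h2'
    have hle : commutator G ≤ L := by
      rw [commutator_def, Subgroup.commutator_le]
      intro g _ h _
      rw [← QuotientGroup.eq_one_iff]
      simp only [commutatorElement_def, QuotientGroup.mk_mul, QuotientGroup.mk_inv]
      rw [IsCyclic.commutative.is_comm.comm (QuotientGroup.mk g : G ⧸ L) (QuotientGroup.mk h)]
      group
    exact hne (top_unique (hperf ▸ hle))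
  subst htop
  haveI : IsSimpleGroup (↥(⊤ : Subgroup G) ⧸ Subgroup.center ↥(⊤ : Subgroup G)) := hL.2.2
  have hc : Subgroup.center ↥(⊤ : Subgroup G) = ⊥ := by
    rw [eq_bot_iff]
    intro z hz
    have : (z : G) ∈ Subgroup.center G := Subgroup.mem_center_iff.2 fun g =>
      congrArg Subtype.val (Subgroup.mem_center_iff.1 hz ⟨g, trivial⟩)
    rw [S.center, Subgroup.mem_bot] at this
    exact Subtype.ext this
  haveI : Nontrivial G := by
    obtain ⟨a, -, b, -, hab⟩ := S.prim.2.1
    exact ⟨a, b, hab⟩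
  exact IsSimpleGroup.isSimpleGroup_of_surjective
    (((QuotientGroup.quotientMulEquivOfEq hc).trans QuotientGroup.quotientBot).trans
      Subgroup.topEquiv).toMonoidHom (MulEquiv.surjective _)

end

variable [Finite G]

/-- Type M(22), at a base member. -/
theorem perfect22_base (hD : Cfsg.IsThreeTranspositionGroup D) (hprim : Cfsg.IsPrimitiveUnderConj D)
    (h : Cfsg.IsOfTypeM22 G D) :
    ∃ (F : Type) (_ : Field F) (_ : Fintype F) (E : Set (Cfsg.PSU 6 F 2)),
      Stage D E 693 180 51 45 ∧ IsSimpleGroup (Cfsg.PSU 6 F 2) ∧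
      ∃ d ∈ D, d ∈ Hd D d ∧ commutator (Hd D d) = ⊤ := by
  obtain ⟨d, c, F, _, _, π, hc, hdc, hB, hF, hE, -⟩ := base22 hD h
  have hG := good22 hD h
  have hcls := hG.rigid.class_eq
  have hNT := hG.rigid.twins
  have hloc := USix.local_of_class hF hB.img_isThreeTranspositionSet hB.img_conj
    (hB.exists_img_ne (psu_six_noncomm hF))
  have S := stage_of_base hD hprim h.1 hloc hB rfl
  haveI := CfsgLib.ClassicalGroups.psu_isSimpleGroup (n := 6) hF (by norm_num) (by norm_num)
  have hY : commutator (Cfsg.PSU 6 F 2) = ⊤ := by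
    refine (Subgroup.Normal.eq_bot_or_eq_top inferInstance).resolve_left fun hb => ?_
    obtain ⟨p, q, hpq⟩ := psu_six_noncomm hF
    have hm := Subgroup.commutator_mem_commutator (Subgroup.mem_top p) (Subgroup.mem_top q)
    rw [← commutator_def, hb, Subgroup.mem_bot] at hm
    exact hpq (commutatorElement_eq_one_iff_mul_comm.1 hm)
  have hT : USix.TClass (imgSet D d π) :=
    ⟨hB.img_isThreeTranspositionSet, hB.img_conj, hB.exists_img_ne (psu_six_noncomm hF)⟩
  obtain ⟨p, q, r, x, y, z, x', y', z', ⟨n1, m1, c1, p1⟩, ⟨n2, m2, c2, p2⟩, hx⟩ := USix.exists_two_six hF hT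
  refine ⟨F, inferInstance, inferInstance, imgSet D d π, S, inferInstance, d, hB.mem, ?_⟩
  by_contra hno
  -- otherwise every lift has product one
  have lift : ∀ L : List (Hd D d), L.length = 6 → (∀ u ∈ L, (u : G) ∈ Dd D d) → (L.map π).prod = 1 →
      (L.prod : G) = 1 := by
    intro L hlen hmem hone
    rcases center_cases S hB.mem ((hB.ker _).1 ((map_list_prod π L).trans hone)) with h1 | h1
    · exact h1
    · exact absurd (perfect_of_even S hB.mem hY hmem (by rw [hlen]; decide) h1) hno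
  have pick : ∀ e ∈ imgSet D d π, ∃ u : Hd D d, (u : G) ∈ Dd D d ∧ π u = e := fun e he => by
    obtain ⟨-, u, hu, rfl⟩ := he
    exact ⟨u, hu, rfl⟩
  obtain ⟨P, hP, rfl⟩ := pick p (m1 p (by simp))
  obtain ⟨Q, hQ, rfl⟩ := pick q (m1 q (by simp))
  obtain ⟨R, hR, rfl⟩ := pick r (m1 r (by simp))
  obtain ⟨X₁, hX₁, rfl⟩ := pick x (m1 x (by simp))
  obtain ⟨Y₁, hY₁, rfl⟩ := pick y (m1 y (by simp))
  obtain ⟨Z₁, hZ₁, rfl⟩ := pick z (m1 z (by simp))
  obtain ⟨X₂, hX₂, rfl⟩ := pick x' (m2 x' (by simp))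
  obtain ⟨Y₂, hY₂, rfl⟩ := pick y' (m2 y' (by simp))
  obtain ⟨Z₂, hZ₂, rfl⟩ := pick z' (m2 z' (by simp))
  have six : ∀ a b c e f g : Hd D d, (∀ u ∈ [a, b, c, e, f, g], (u : G) ∈ Dd D d) →
      [π a, π b, π c, π e, π f, π g].Nodup →
      (∀ u ∈ [π a, π b, π c, π e, π f, π g], ∀ v ∈ [π a, π b, π c, π e, π f, π g], Commute u v) →
      [π a, π b, π c, π e, π f, π g].prod = 1 →
      [(a : G), (b : G), (c : G), (e : G), (f : G), (g : G)].Nodup ∧
        (∀ u ∈ [(a : G), (b : G), (c : G), (e : G), (f : G), (g : G)], u ∈ D) ∧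
        (∀ u ∈ [(a : G), (b : G), (c : G), (e : G), (f : G), (g : G)],
          ∀ v ∈ [(a : G), (b : G), (c : G), (e : G), (f : G), (g : G)], Commute u v) ∧
        [(a : G), (b : G), (c : G), (e : G), (f : G), (g : G)].prod = 1 := by
    intro a b c e f g hm hn hcm hp
    have e1 : [(a : G), (b : G), (c : G), (e : G), (f : G), (g : G)] =
        [a, b, c, e, f, g].map (Hd D d).subtype := rfl
    have e2 : [π a, π b, π c, π e, π f, π g] = [a, b, c, e, f, g].map π := rfl
    rw [e2] at hn hcm hp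
    rw [e1]
    refine ⟨(List.Nodup.of_map _ hn).map (Subgroup.subtype_injective _), ?_, ?_, ?_⟩
    · intro u hu
      obtain ⟨w, hw, rfl⟩ := List.mem_map.1 hu
      exact (hm w hw).1
    · intro u hu v hv
      obtain ⟨w, hw, rfl⟩ := List.mem_map.1 hu
      obtain ⟨w', hw', rfl⟩ := List.mem_map.1 hv
      exact (hB.commute_img (hm w hw) (hm w' hw')).1 (hcm _ (List.mem_map_of_mem hw) _ (List.mem_map_of_mem hw'))
    · rw [← map_list_prod]
      exact lift _ rfl hm hp
  obtain ⟨N1, M1, C1, P1⟩ := six P Q R X₁ Y₁ Z₁ (by simp [hP, hQ, hR, hX₁, hY₁, hZ₁]) n1 c1 p1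
  obtain ⟨N2, M2, C2, P2⟩ := six P Q R X₂ Y₂ Z₂ (by simp [hP, hQ, hR, hX₂, hY₂, hZ₂]) n2 c2 p2
  have hconn := S.classTwo.connected_of_primitive hprim S.width
  have nPQ : (P : G) ≠ Q := fun e => (List.nodup_cons.1 N1).1 (e ▸ List.mem_cons_self ..)
  have nPR : (P : G) ≠ R := fun e => (List.nodup_cons.1 N1).1 (e ▸ List.mem_cons_of_mem _ (List.mem_cons_self ..))
  have nQR : (Q : G) ≠ R := fun e =>
    (List.nodup_cons.1 (List.nodup_cons.1 N1).2).1 (e ▸ List.mem_cons_self ..)
  obtain ⟨e, f, g, hL, -⟩ := hB.six_exists hcls hNT hE h.1 hconn hP.1 hQ.1 hR.1 nPQ nPR nQR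
    (C1 _ (by simp) _ (by simp)) (C1 _ (by simp) _ (by simp)) (C1 _ (by simp) _ (by simp))
  have hperm := (hB.six_unique hcls hNT hE hL hP.1 N1 M1 C1 P1).trans
    (hB.six_unique hcls hNT hE hL hP.1 N2 M2 C2 P2).symm
  have hm : (X₁ : G) ∈ [(X₂ : G), (Y₂ : G), (Z₂ : G)] := hperm.subset (by simp)
  simp only [List.mem_cons, List.not_mem_nil, or_false] at hm hx
  rcases hm with h' | h' | h'
  · exact hx (Or.inl (congrArg π (Subtype.ext h')))
  · exact hx (Or.inr (Or.inl (congrArg π (Subtype.ext h'))))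
  · exact hx (Or.inr (Or.inr (congrArg π (Subtype.ext h'))))

omit [Finite G] in
/-- Transport of the statement along conjugation. -/
theorem perfect_conj (hC : ConjClosed D) {d : G} (g : G) (h : d ∈ Hd D d ∧ commutator (Hd D d) = ⊤) :
    g * d * g⁻¹ ∈ Hd D (g * d * g⁻¹) ∧ commutator (Hd D (g * d * g⁻¹)) = ⊤ := by
  have hmap : (Hd D d).map (MulAut.conj g).toMonoidHom = Hd D (g * d * g⁻¹) := by
    rw [MonoidHom.map_closure]
    exact congrArg _ (image_Dd hC g d)
  constructor
  · rw [← hmap]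
    exact ⟨d, h.1, rfl⟩
  · apply Subgroup.map_injective (Hd D (g * d * g⁻¹)).subtype_injective
    have hs : (commutator (Hd D d)).map (Hd D d).subtype = Hd D d := by
      rw [h.2, ← MonoidHom.range_eq_map, Subgroup.range_subtype]
    rw [Subgroup.map_subtype_commutator] at hs ⊢
    rw [← MonoidHom.range_eq_map, Subgroup.range_subtype, ← hmap, ← Subgroup.map_commutator, hs]

/-- Type M(22): simplicity and quasisimple centralisers. -/
theorem main22 (hD : Cfsg.IsThreeTranspositionGroup D) (hprim : Cfsg.IsPrimitiveUnderConj D)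
    (h : Cfsg.IsOfTypeM22 G D) :
    IsSimpleGroup G ∧ ∀ a ∈ D, a ∈ Hd D a ∧ Cfsg.IsQuasisimple (Hd D a) ∧
      Subgroup.center (Hd D a) = (Subgroup.zpowers a).subgroupOf (Hd D a) := by
  obtain ⟨F, _, _, E, S, _, d, hd, hdd⟩ := perfect22_base hD hprim h
  have hall : ∀ a ∈ D, a ∈ Hd D a ∧ commutator (Hd D a) = ⊤ := fun a ha => by
    obtain ⟨g, rfl⟩ := hprim.1 d hd a ha
    exact perfect_conj S.closed g hdd
  exact ⟨simple_of_perfect S hall, fun a ha =>
    ⟨(hall a ha).1, quasisimple_of_perfect S ha (hall a ha).2, center_eq S ha⟩⟩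

/-- Type M(23): simplicity and quasisimple centralisers. -/
theorem main23 (hD : Cfsg.IsThreeTranspositionGroup D) (hprim : Cfsg.IsPrimitiveUnderConj D)
    (h : Cfsg.IsOfTypeM23 G D) :
    IsSimpleGroup G ∧ ∀ a ∈ D, a ∈ Hd D a ∧ Cfsg.IsQuasisimple (Hd D a) ∧
      Subgroup.center (Hd D a) = (Subgroup.zpowers a).subgroupOf (Hd D a) := by
  obtain ⟨d, c, hc, hdc, hB, h22, -⟩ := bottom23 hD h
  have hp22 := prim22 hD hprim hB h22
  have S := stage_of_base hD hprim h.1 (local22 hB.img_group hp22 h22) hB rfl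
  obtain ⟨hYs, hYq⟩ := main22 hB.img_group hp22 h22
  haveI := hYs
  have hG := good23 hD h
  -- a six in the quotient
  obtain ⟨d', -, F, _, _, π', -, -, hB', hF, hE', -⟩ := base22 hB.img_group h22
  have hG22 := good22 hB.img_group h22
  have hw := (stage_of_base hB.img_group hp22 h22.1 (USix.local_of_class hF hB'.img_isThreeTranspositionSet
    hB'.img_conj (hB'.exists_img_ne (psu_six_noncomm hF))) hB' rfl)
  have hYnc : ∃ p q : Hd D d ⧸ Subgroup.center (Hd D d), p * q ≠ q * p := by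
    obtain ⟨p, -, q, -, hpq⟩ := hG22.rigid.nonabelian
    exact ⟨p, q, hpq⟩
  have hY : commutator (Hd D d ⧸ Subgroup.center (Hd D d)) = ⊤ := by
    refine (Subgroup.Normal.eq_bot_or_eq_top inferInstance).resolve_left fun hb => ?_
    obtain ⟨p, q, hpq⟩ := hYnc
    have hm := Subgroup.commutator_mem_commutator (Subgroup.mem_top p) (Subgroup.mem_top q)
    rw [← commutator_def, hb, Subgroup.mem_bot] at hm
    exact hpq (commutatorElement_eq_one_iff_mul_comm.1 hm)
  obtain ⟨p₀, hp₀⟩ : ∃ p₀, p₀ ∈ imgSet D d (QuotientGroup.mk' (Subgroup.center (Hd D d))) := ⟨d', hB'.mem⟩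
  obtain ⟨πp, Mp⟩ := hw.base p₀ hp₀
  obtain ⟨q₁, hq₁, q₂, hq₂, hne, hq⟩ : ∃ q₁ ∈ Dd _ p₀, ∃ q₂ ∈ Dd _ p₀, q₁ ≠ q₂ ∧ Commute q₁ q₂ := by
    obtain ⟨u, hu, -, -, -⟩ := hw.loc.rigid.nonabelian
    obtain ⟨q₁, hq₁, rfl⟩ := Mp.onto hu
    have hcard := hw.loc.deg _ (Mp.mem hq₁)
    obtain ⟨w, hw'⟩ := Set.nonempty_of_ncard_ne_zero (s := Dd _ (phi πp q₁)) (by rw [hcard]; norm_num)
    obtain ⟨q₂, hq₂, rfl⟩ := Mp.onto hw'.1
    have h12 := (Mp.mem_Dd hq₁ hq₂).1 hw'
    exact ⟨q₁, hq₁, q₂, hq₂, Ne.symm h12.2.1, h12.2.2⟩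
  obtain ⟨e, f, g, hL, hsix⟩ := hB'.six_exists hG22.rigid.class_eq hG22.rigid.twins hE' h22.1
    (hw.classTwo.connected_of_primitive hp22 hw.width) hp₀ hq₁.1 hq₂.1 (Ne.symm hq₁.2.1) (Ne.symm hq₂.2.1) hne
    hq₁.2.2 hq₂.2.2 hq
  set π := QuotientGroup.mk' (Subgroup.center (Hd D d)) with hπ
  have hnd : [p₀, q₁, q₂, e, f, g].Nodup :=
    List.nodup_cons.2 ⟨fun hm => (hL.mem _ hm).2.1 rfl, hL.nodup⟩
  have hmem : ∀ u ∈ [p₀, q₁, q₂, e, f, g], u ∈ imgSet D d π := fun u hu => by
    rcases List.mem_cons.1 hu with rfl | hu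
    · exact hp₀
    · exact (hL.mem _ hu).1
  have hcomm : ∀ u ∈ [p₀, q₁, q₂, e, f, g], ∀ v ∈ [p₀, q₁, q₂, e, f, g], Commute u v := by
    intro u hu v hv
    rcases List.mem_cons.1 hu with rfl | hu' <;> rcases List.mem_cons.1 hv with rfl | hv'
    · exact Commute.refl _
    · exact (hL.mem _ hv').2.2
    · exact (hL.mem _ hu').2.2.symm
    · exact hL.comm _ hu' _ hv'
  have hsix' : [p₀, q₁, q₂, e, f, g].prod = 1 := by simpa [mul_assoc] using hsix
  obtain ⟨L, hLmap⟩ : ∃ L : List (Hd D d), L.map π = [p₀, q₁, q₂, e, f, g] ∧ ∀ u ∈ L, (u : G) ∈ Dd D d := by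
    have pick : ∀ l : List (Hd D d ⧸ Subgroup.center (Hd D d)), (∀ u ∈ l, u ∈ imgSet D d π) →
        ∃ L : List (Hd D d), L.map π = l ∧ ∀ u ∈ L, (u : G) ∈ Dd D d := by
      intro l hl
      induction l with
      | nil => exact ⟨[], rfl, by simp⟩
      | cons u t ih =>
        obtain ⟨T, hT, hTm⟩ := ih fun x hx => hl x (List.mem_cons_of_mem _ hx)
        obtain ⟨-, w, hw, rfl⟩ := hl u (by simp)
        exact ⟨w :: T, by rw [List.map_cons, hT], by simpa [hw] using hTm⟩
    exact pick _ hmem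
  obtain ⟨hLmap, hLm⟩ := hLmap
  have hlen : L.length = 6 := by simpa using congrArg List.length hLmap
  have hz : L.prod ∈ Subgroup.center (Hd D d) :=
    (hB.ker _).1 (by rw [map_list_prod, hLmap, hsix'])
  have hne1 : (L.prod : G) ≠ 1 := by
    have hrel := hG.rel 6 le_rfl (by norm_num) (L.map (Hd D d).subtype)
    rw [← map_list_prod] at hrel
    refine hrel ?_ (by simp [hlen]) ?_ ?_
    · exact ((hLmap.symm ▸ hnd : (L.map π).Nodup).of_map _).map (Subgroup.subtype_injective _)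
    · intro u hu
      obtain ⟨w, hw, rfl⟩ := List.mem_map.1 hu
      exact (hLm w hw).1
    · intro u hu v hv
      obtain ⟨w, hw, rfl⟩ := List.mem_map.1 hu
      obtain ⟨w', hw', rfl⟩ := List.mem_map.1 hv
      refine (hB.commute_img (hLm w hw) (hLm w' hw')).1 (hcomm _ ?_ _ ?_)
      · exact hLmap ▸ List.mem_map_of_mem hw
      · exact hLmap ▸ List.mem_map_of_mem hw'
  have hdd := perfect_of_even S hB.mem hY hLm (by rw [hlen]; decide)
    ((center_cases S hB.mem hz).resolve_left hne1)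
  have hall : ∀ a ∈ D, a ∈ Hd D a ∧ commutator (Hd D a) = ⊤ := fun a ha => by
    obtain ⟨g, rfl⟩ := hprim.1 d hB.mem a ha
    exact perfect_conj S.closed g hdd
  exact ⟨simple_of_perfect S hall, fun a ha =>
    ⟨(hall a ha).1, quasisimple_of_perfect S ha (hall a ha).2, center_eq S ha⟩⟩

end CfsgLib.ThreeTrans.TypeTop
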