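import Mathlib
import Cfsg.Agent.Lib.ThreeTrans.Tower.Orders
import Cfsg.Agent.Lib.ThreeTrans.TypeTop.Perfect
import Cfsg.Agent.Lib.ThreeTrans.TypeTop.Width

/-! Centralisers of members and orders for the types M(22) and M(23). -/

set_option autoImplicit false

namespace CfsgLib.ThreeTrans.TypeTop

open CfsgLib.ThreeTrans CfsgLib.ThreeTrans.Tower

variable {G : Type*} [Group G] [Finite G] {D : Set G}

omit [Finite G] in
theorem centralizer_eq_Hd {N k l m : ℕ} (L : Local D N k l m) {a : G} (haD : a ∈ D) (ha : a ∈ Hd D a) :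
    Hd D a = Subgroup.centralizer ({a} : Set G) := by
  refine le_antisymm (fun g hg => Subgroup.mem_centralizer_singleton_iff.2 (commute_of_mem_Hd hg).eq) ?_
  intro g hg
  refine (Subgroup.closure_le _).2 (fun y hy => ?_) (L.stab a haD g (Subgroup.mem_centralizer_singleton_iff.1 hg))
  by_cases e : y = a
  · rw [e]; exact ha
  · exact Subgroup.subset_closure ⟨hy.1, e, hy.2⟩

/-- The order of a group of type M(23). -/
theorem order23 (hD : Cfsg.IsThreeTranspositionGroup D) (hprim : Cfsg.IsPrimitiveUnderConj D)
    (h : Cfsg.IsOfTypeM23 G D) : Nat.card G = 31671 * (2 * 64561751654400) := by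
  obtain ⟨d, c, hc, hdc, hB, h22, -⟩ := bottom23 hD h
  have hp := prim22 hD hprim hB h22
  have S := stage_of_base hD hprim h.1 (local22 hB.img_group hp h22) hB rfl
  have L := local23 hD hprim h
  rw [card_group hD hprim.1 hB.mem, L.card, card_centralizer S L hB.mem, (orders22 hB.img_group hp h22).2]

end CfsgLib.ThreeTrans.TypeTop
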