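import Mathlib
import Cfsg.Agent.Lib.ThreeTrans.Tower.Orders
import Cfsg.Agent.Lib.ThreeTrans.TypeTop.Perfect

/-! The classes of involutions in the types M(22), M(23), M(24): products of commuting members. -/

set_option autoImplicit false

namespace CfsgLib.ThreeTrans.TypeTop

open CfsgLib.ThreeTrans CfsgLib.ThreeTrans.Tower

universe u v

variable {G : Type u} [Group G] {D : Set G}

/-- `x` is a product of `n` distinct commuting members. -/
def IsProd (D : Set G) (n : ℕ) (x : G) : Prop :=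
  ∃ l : List G, l.Nodup ∧ l.length = n ∧ (∀ a ∈ l, a ∈ D) ∧ (∀ a ∈ l, ∀ b ∈ l, Commute a b) ∧ l.prod = x

theorem isProd_one {x : G} : IsProd D 1 x ↔ x ∈ D := by
  constructor
  · rintro ⟨l, -, hl, hm, -, rfl⟩
    obtain ⟨a, rfl⟩ := List.length_eq_one_iff.1 hl
    simpa using hm
  · intro hx
    exact ⟨[x], List.nodup_singleton x, rfl, by simpa using hx, by simp, by simp⟩

theorem isProd_two {x : G} :
    IsProd D 2 x ↔ ∃ a ∈ D, ∃ b ∈ Dd D a, x = a * b := by
  constructor
  · rintro ⟨l, hn, hl, hm, hc, rfl⟩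
    obtain ⟨a, b, rfl⟩ := List.length_eq_two.1 hl
    simp only [List.nodup_cons, List.mem_cons, List.not_mem_nil, or_false] at hn
    exact ⟨a, hm a (by simp), b, ⟨hm b (by simp), Ne.symm hn.1, hc a (by simp) b (by simp)⟩, by simp⟩
  · rintro ⟨a, ha, b, hb, rfl⟩
    refine ⟨[a, b], by simp [Ne.symm hb.2.1], rfl, by simp [ha, hb.1], ?_, by simp⟩
    simp only [List.mem_cons, List.not_mem_nil, or_false]
    rintro p (rfl | rfl) q (rfl | rfl)
    exacts [Commute.refl _, hb.2.2, hb.2.2.symm, Commute.refl _]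

theorem isProd_three {x : G} :
    IsProd D 3 x ↔ ∃ a ∈ D, ∃ b ∈ Dd D a, ∃ c ∈ Dd D a ∩ Dd D b, x = a * b * c := by
  constructor
  · rintro ⟨l, hn, hl, hm, hc, rfl⟩
    obtain ⟨a, b, c, rfl⟩ := List.length_eq_three.1 hl
    simp only [List.nodup_cons, List.mem_cons, List.not_mem_nil, or_false, not_or] at hn
    exact ⟨a, hm a (by simp), b, ⟨hm b (by simp), Ne.symm hn.1.1, hc a (by simp) b (by simp)⟩, c,
      ⟨⟨hm c (by simp), Ne.symm hn.1.2, hc a (by simp) c (by simp)⟩,
        ⟨hm c (by simp), Ne.symm hn.2.1, hc b (by simp) c (by simp)⟩⟩, by simp [mul_assoc]⟩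
  · rintro ⟨a, ha, b, hb, c, ⟨hca, hcb⟩, rfl⟩
    refine ⟨[a, b, c], by simp [Ne.symm hb.2.1, Ne.symm hca.2.1, Ne.symm hcb.2.1], rfl,
      by simp [ha, hb.1, hca.1], ?_, by simp [mul_assoc]⟩
    simp only [List.mem_cons, List.not_mem_nil, or_false]
    rintro p (rfl | rfl | rfl) q (rfl | rfl | rfl)
    exacts [Commute.refl _, hb.2.2, hca.2.2, hb.2.2.symm, Commute.refl _, hcb.2.2,
      hca.2.2.symm, hcb.2.2.symm, Commute.refl _]

theorem IsProd.sq {n : ℕ} {x : G} (hD : Cfsg.IsThreeTranspositionSet D) (h : IsProd D n x) : x * x = 1 := by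
  obtain ⟨l, -, -, hm, hc, rfl⟩ := h
  induction l with
  | nil => simp
  | cons a t ih =>
    have ht := ih (fun y hy => hm y (List.mem_cons_of_mem _ hy))
      (fun y hy z hz => hc y (List.mem_cons_of_mem _ hy) z (List.mem_cons_of_mem _ hz))
    have hca : Commute t.prod a :=
      Commute.list_prod_left t a fun y hy => hc y (List.mem_cons_of_mem _ hy) a (by simp)
    rw [List.prod_cons, mul_assoc, ← mul_assoc t.prod, hca.eq, mul_assoc, ht, mul_one, mul_self hD (hm a (by simp))]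

section Distinct

variable (hD : Cfsg.IsThreeTranspositionSet D)
  (h3 : NoRel D 3) (h4 : NoRel D 4) (h5 : NoRel D 5)
include hD

theorem ne_two {a b : G} (ha : a ∈ D) (hb : b ∈ Dd D a) : a * b ≠ 1 := fun e => hb.2.1
  ((mul_eq_one_iff_eq' hD hb.1).1 e).symm

include h3 in
theorem mem_ne_two {x a b : G} (hx : x ∈ D) (ha : a ∈ D) (hb : b ∈ Dd D a) : x ≠ a * b := by
  intro e
  have hxa : x ≠ a := fun h => ne_one hD hb.1 (by rw [h] at e; exact left_eq_mul.1 e)
  have hxb : x ≠ b := fun h => ne_one hD ha (by rw [h] at e; exact right_eq_mul.1 e)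
  have hc := commute_of_commute_two hD ha hb.1 hx (Ne.symm hb.2.1) hb.2.2 (e ▸ Commute.refl x)
  refine h3 [x, a, b] (by simp [hxa, hxb, Ne.symm hb.2.1]) rfl (by simp [hx, ha, hb.1]) ?_ ?_
  · simp only [List.mem_cons, List.not_mem_nil, or_false]
    rintro p (rfl | rfl | rfl) q (rfl | rfl | rfl)
    exacts [Commute.refl _, hc.1, hc.2, hc.1.symm, Commute.refl _, hb.2.2, hc.2.symm, hb.2.2.symm, Commute.refl _]
  · simp only [List.prod_cons, List.prod_nil, mul_one]
    rw [← e, mul_self hD hx]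

include h4 in
theorem mem_ne_three {x a b c : G} (hx : x ∈ D) (ha : a ∈ D) (hb : b ∈ Dd D a) (hc : c ∈ Dd D a ∩ Dd D b) :
    x ≠ a * b * c := by
  intro e
  have hxc : x ≠ c := fun h => ne_two hD ha hb (by rw [h] at e; exact right_eq_mul.1 e)
  obtain ⟨ca, cb, cc⟩ := commute_of_commute_three hD ha hb.1 hc.1.1 hx (Ne.symm hb.2.1) (Ne.symm hc.1.2.1)
    (Ne.symm hc.2.2.1) hb.2.2 hc.1.2.2 hc.2.2.2 hxc (e ▸ Commute.refl x)
  have hxa : x ≠ a := fun h => ne_two hD hb.1 hc.2 (by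
    rw [h, mul_assoc] at e; exact left_eq_mul.1 e)
  have hxb : x ≠ b := fun h => ne_two hD ha hc.1 (by
    rw [h, hb.2.2.eq, mul_assoc] at e; exact left_eq_mul.1 e)
  refine h4 [x, a, b, c] (by simp [hxa, hxb, hxc, Ne.symm hb.2.1, Ne.symm hc.1.2.1, Ne.symm hc.2.2.1]) rfl
    (by simp [hx, ha, hb.1, hc.1.1]) ?_ ?_
  · simp only [List.mem_cons, List.not_mem_nil, or_false]
    rintro p (rfl | rfl | rfl | rfl) q (rfl | rfl | rfl | rfl)
    exacts [Commute.refl _, ca, cb, cc, ca.symm, Commute.refl _, hb.2.2, hc.1.2.2, cb.symm, hb.2.2.symm,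
      Commute.refl _, hc.2.2.2, cc.symm, hc.1.2.2.symm, hc.2.2.2.symm, Commute.refl _]
  · simp only [List.prod_cons, List.prod_nil, mul_one]
    rw [← mul_assoc a, ← e, mul_self hD hx]

include h3 h5 in
theorem two_ne_three {u w a b c : G} (hu : u ∈ D) (hw : w ∈ Dd D u) (ha : a ∈ D) (hb : b ∈ Dd D a)
    (hc : c ∈ Dd D a ∩ Dd D b) : u * w ≠ a * b * c := by
  intro e
  -- no member in common
  have key : ∀ {p q r : G}, p ∈ D → q ∈ Dd D p → r ∈ Dd D p ∩ Dd D q → u * w = p * q * r →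
      p ≠ u ∧ p ≠ w := by
    intro p q r hp hq hr e
    rw [mul_assoc] at e
    constructor
    · intro h
      rw [h] at e
      exact mem_ne_two hD h3 hw.1 hq.1 hr.2 (mul_left_cancel e)
    · intro h
      rw [h, hw.2.2.eq] at e
      exact mem_ne_two hD h3 hu hq.1 hr.2 (mul_left_cancel e)
  obtain ⟨au, aw⟩ := key ha hb hc e
  obtain ⟨bu, bw⟩ := key hb.1 (Dd_symm ha hb) ⟨hc.2, hc.1⟩ (by rw [e, hb.2.2.eq])
  obtain ⟨cu, cw⟩ := key hc.1.1 (Dd_symm ha hc.1) ⟨Dd_symm hb.1 hc.2, hb⟩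
    (by rw [e, (hc.1.2.2.mul_left hc.2.2.2).eq, mul_assoc])
  have hcom : ∀ p, p = a ∨ p = b ∨ p = c → Commute p u ∧ Commute p w := by
    intro p hp
    refine commute_of_commute_two hD hu hw.1 ?_ (Ne.symm hw.2.1) hw.2.2 ?_
    · rcases hp with rfl | rfl | rfl
      exacts [ha, hb.1, hc.1.1]
    · rw [e]
      rcases hp with rfl | rfl | rfl
      exacts [((Commute.refl _).mul_right hb.2.2).mul_right hc.1.2.2,
        (hb.2.2.symm.mul_right (Commute.refl _)).mul_right hc.2.2.2,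
        (hc.1.2.2.symm.mul_right hc.2.2.2.symm).mul_right (Commute.refl _)]
  obtain ⟨cau, caw⟩ := hcom a (Or.inl rfl)
  obtain ⟨cbu, cbw⟩ := hcom b (Or.inr (Or.inl rfl))
  obtain ⟨ccu, ccw⟩ := hcom c (Or.inr (Or.inr rfl))
  refine h5 [u, w, a, b, c] (by simp [Ne.symm hw.2.1, Ne.symm au, Ne.symm bu, Ne.symm cu, Ne.symm aw, Ne.symm bw,
    Ne.symm cw, Ne.symm hb.2.1, Ne.symm hc.1.2.1, Ne.symm hc.2.2.1]) rfl
    (by simp [hu, hw.1, ha, hb.1, hc.1.1]) ?_ ?_
  · simp only [List.mem_cons, List.not_mem_nil, or_false]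
    rintro p (rfl | rfl | rfl | rfl | rfl) q (rfl | rfl | rfl | rfl | rfl)
    exacts [Commute.refl _, hw.2.2, cau.symm, cbu.symm, ccu.symm, hw.2.2.symm, Commute.refl _, caw.symm, cbw.symm,
      ccw.symm, cau, caw, Commute.refl _, hb.2.2, hc.1.2.2, cbu, cbw, hb.2.2.symm, Commute.refl _, hc.2.2.2,
      ccu, ccw, hc.1.2.2.symm, hc.2.2.2.symm, Commute.refl _]
  · simp only [List.prod_cons, List.prod_nil, mul_one]
    rw [← mul_assoc u, ← mul_assoc a, ← e]
    exact (IsProd.sq hD (isProd_two.2 ⟨u, hu, w, hw, rfl⟩))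

include h3 h4 h5 in
/-- The number of factors is determined, up to three. -/
theorem length_unique {n n' : ℕ} {x : G} (hn : 1 ≤ n) (hn3 : n ≤ 3) (hn' : 1 ≤ n') (hn3' : n' ≤ 3)
    (h : IsProd D n x) (h' : IsProd D n' x) : n = n' := by
  interval_cases n <;> interval_cases n'
  · rfl
  · obtain ⟨a, ha, b, hb, rfl⟩ := isProd_two.1 h'
    exact absurd rfl (mem_ne_two hD h3 (isProd_one.1 h) ha hb)
  · obtain ⟨a, ha, b, hb, c, hc, rfl⟩ := isProd_three.1 h'
    exact absurd rfl (mem_ne_three hD h4 (isProd_one.1 h) ha hb hc)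
  · obtain ⟨a, ha, b, hb, rfl⟩ := isProd_two.1 h
    exact absurd rfl (mem_ne_two hD h3 (isProd_one.1 h') ha hb)
  · rfl
  · obtain ⟨u, hu, w, hw, rfl⟩ := isProd_two.1 h
    obtain ⟨a, ha, b, hb, c, hc, e⟩ := isProd_three.1 h'
    exact absurd e (two_ne_three hD h3 h5 hu hw ha hb hc)
  · obtain ⟨a, ha, b, hb, c, hc, rfl⟩ := isProd_three.1 h
    exact absurd rfl (mem_ne_three hD h4 (isProd_one.1 h') ha hb hc)
  · obtain ⟨u, hu, w, hw, rfl⟩ := isProd_two.1 h'
    obtain ⟨a, ha, b, hb, c, hc, e⟩ := isProd_three.1 h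
    exact absurd e (two_ne_three hD h3 h5 hu hw ha hb hc)
  · rfl

include h3 in
/-- Products of up to three members are involutions. -/
theorem orderOf_isProd {n : ℕ} {x : G} (hn : 1 ≤ n) (hn3 : n ≤ 3) (h : IsProd D n x) : orderOf x = 2 := by
  refine orderOf_eq_prime (by rw [pow_two]; exact h.sq hD) ?_
  interval_cases n
  · exact ne_one hD (isProd_one.1 h)
  · obtain ⟨a, ha, b, hb, rfl⟩ := isProd_two.1 h
    exact ne_two hD ha hb
  · obtain ⟨a, ha, b, hb, c, hc, rfl⟩ := isProd_three.1 h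
    intro e
    refine h3 [a, b, c] (by simp [Ne.symm hb.2.1, Ne.symm hc.1.2.1, Ne.symm hc.2.2.1]) rfl
      (by simp [ha, hb.1, hc.1.1]) ?_ (by simpa [mul_assoc] using e)
    simp only [List.mem_cons, List.not_mem_nil, or_false]
    rintro p (rfl | rfl | rfl) q (rfl | rfl | rfl)
    exacts [Commute.refl _, hb.2.2, hc.1.2.2, hb.2.2.symm, Commute.refl _, hc.2.2.2,
      hc.1.2.2.symm, hc.2.2.2.symm, Commute.refl _]

end Distinct

variable [Finite G]

/-- Products of the same length are conjugate, and exist. -/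
theorem conj_isProd {Y : Type v} [Group Y] {E : Set Y} {N k l m v' n' k' μ : ℕ} (S : Stage D E N k l m)
    (L : Local D v' n' k' μ) {n : ℕ} (hn : 1 ≤ n) (hn3 : n ≤ 3) {x y : G} (hx : IsProd D n x)
    (hy : IsProd D n y) : IsConj x y := by
  rw [isConj_iff]
  interval_cases n
  · exact S.prim.1 x (isProd_one.1 hx) y (isProd_one.1 hy)
  · obtain ⟨a, ha, b, hb, rfl⟩ := isProd_two.1 hx
    obtain ⟨a', ha', b', hb', rfl⟩ := isProd_two.1 hy
    obtain ⟨g, hg⟩ := S.prim.1 a ha a' ha'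
    have hgb := conj_mem_Dd_conj S.closed g hb
    rw [hg] at hgb
    obtain ⟨h, hh, hhb⟩ := L.perp _ ha' _ hgb b' hb'
    refine ⟨h * g, ?_⟩
    calc h * g * (a * b) * (h * g)⁻¹ = (h * (g * a * g⁻¹) * h⁻¹) * (h * (g * b * g⁻¹) * h⁻¹) := by group
      _ = a' * b' := by rw [hg, hh.eq, mul_inv_cancel_right, hhb]
  · obtain ⟨a, ha, b, hb, c, hc, rfl⟩ := isProd_three.1 hx
    obtain ⟨a', ha', b', hb', c', hc', rfl⟩ := isProd_three.1 hy
    obtain ⟨g, e1, e2, e3⟩ := triple_transitive S L ha hb hc ha' hb' hc'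
    refine ⟨g, ?_⟩
    rw [← e1, ← e2, ← e3]
    group

theorem exists_isProd {v' n' k' μ : ℕ} (L : Local D v' n' k' μ) (hv : 0 < v') (hn' : 0 < n') (hk : 0 < k')
    {n : ℕ} (hn : 1 ≤ n) (hn3 : n ≤ 3) : ∃ x, IsProd D n x := by
  obtain ⟨a, ha⟩ := Set.nonempty_of_ncard_ne_zero (s := D) (by rw [L.card]; omega)
  obtain ⟨b, hb⟩ := Set.nonempty_of_ncard_ne_zero (s := Dd D a) (by rw [L.deg a ha]; omega)
  obtain ⟨c, hc⟩ := Set.nonempty_of_ncard_ne_zero (s := Dd D a ∩ Dd D b) (by rw [L.lam a ha b hb]; omega)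
  interval_cases n
  · exact ⟨a, isProd_one.2 ha⟩
  · exact ⟨_, isProd_two.2 ⟨a, ha, b, hb, rfl⟩⟩
  · exact ⟨_, isProd_three.2 ⟨a, ha, b, hb, c, hc, rfl⟩⟩

/-- An involution fixing no member would be an odd permutation of `D`. -/
theorem exists_fixed_of_simple (hD : ConjClosed D) [IsSimpleGroup G] (hnc : ∃ p q : G, p * q ≠ q * p) {n : ℕ}
    (hcard : D.ncard = 2 * (2 * n + 1)) {x : G} (hx : x * x = 1) : ∃ d ∈ D, Commute x d := by
  classical
  haveI := Fintype.ofFinite D
  by_contra! hno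
  let act : G →* Equiv.Perm D :=
    { toFun := fun g =>
        { toFun := fun d => ⟨g * d * g⁻¹, hD.conj g d d.2⟩
          invFun := fun d => ⟨g⁻¹ * d * g, hD.conj' g d.2⟩
          left_inv := fun d => Subtype.ext (by group)
          right_inv := fun d => Subtype.ext (by group) }
      map_one' := by ext d; simp
      map_mul' := fun g h => by ext d; simp [mul_assoc] }
  let χ : G →* ℤˣ := Equiv.Perm.sign.comp act
  have hχ : χ x = 1 := by
    have hle : commutator G ≤ χ.ker := Abelianization.commutator_subset_ker χ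
    rcases Subgroup.Normal.eq_bot_or_eq_top (H := χ.ker) inferInstance with h | h
    · exfalso
      obtain ⟨p, q, hpq⟩ := hnc
      refine hpq (commutatorElement_eq_one_iff_mul_comm.1 ?_)
      have := hle (Subgroup.commutator_mem_commutator (Subgroup.mem_top p) (Subgroup.mem_top q))
      rwa [h, Subgroup.mem_bot] at this
    · exact MonoidHom.mem_ker.1 (h ▸ Subgroup.mem_top x)
  set σ := act x with hσ
  have hσ2 : σ ^ 2 = 1 := by rw [pow_two, hσ, ← map_mul, hx, map_one]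
  have hsupp : σ.support = Finset.univ := by
    ext d
    simp only [Equiv.Perm.mem_support, Finset.mem_univ, iff_true]
    intro h
    exact hno d d.2 (mul_inv_eq_iff_eq_mul.1 (congrArg Subtype.val h))
  obtain ⟨hne, hs⟩ : σ.cycleType.sum = D.ncard ∧ ∀ i ∈ σ.cycleType, i = 2 := by
    refine ⟨?_, fun i hi => ?_⟩
    · rw [Equiv.Perm.sum_cycleType, hsupp, Finset.card_univ, ← Nat.card_eq_fintype_card, Nat.card_coe_set_eq]
    · have h1 := Equiv.Perm.dvd_of_mem_cycleType hi
      have h2 := Equiv.Perm.two_le_of_mem_cycleType hi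
      have h3 := h1.trans (orderOf_dvd_of_pow_eq_one hσ2)
      have := Nat.le_of_dvd (by norm_num) h3
      omega
  have hrep := Multiset.eq_replicate_card.2 hs
  rw [hrep, Multiset.sum_replicate, smul_eq_mul, hcard] at hne
  have hsign : Equiv.Perm.sign σ = -1 := by
    rw [Equiv.Perm.sign_of_cycleType, hrep, Multiset.sum_replicate, Multiset.card_replicate, smul_eq_mul,
      show Multiset.card σ.cycleType = 2 * n + 1 by omega]
    simp [pow_add, pow_mul]
  exact absurd (hsign.symm.trans hχ) (by decide)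

/-- An involution of a group whose class has odd size fixes a member. -/
theorem exists_fixed_of_odd (hD : ConjClosed D) (hcard : Odd D.ncard) {x : G} (hx : x * x = 1) :
    ∃ d ∈ D, Commute x d := by
  classical
  haveI := Fintype.ofFinite D
  by_contra! hno
  let σ : Equiv.Perm D := Function.Involutive.toPerm
    (fun d => (⟨x * d * x⁻¹, hD.conj x d d.2⟩ : D))
    (fun d => Subtype.ext (by
      show x * (x * d * x⁻¹) * x⁻¹ = d
      rw [inv_eq_of_mul_eq_one_right hx, show x * (x * d * x) * x = (x * x) * d * (x * x) by simp [mul_assoc], hx]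
      simp))
  have hsupp : σ.support = Finset.univ := by
    ext d
    simp only [Equiv.Perm.mem_support, Finset.mem_univ, iff_true]
    intro h
    exact hno d d.2 (mul_inv_eq_iff_eq_mul.1 (congrArg Subtype.val h))
  have h2 : 2 ∣ σ.support.card := by
    rw [← Equiv.Perm.sum_cycleType]
    refine Multiset.dvd_sum fun i hi => ?_
    have h1 := Equiv.Perm.dvd_of_mem_cycleType hi
    have h2 := Equiv.Perm.two_le_of_mem_cycleType hi
    have h3 : orderOf σ ∣ 2 := orderOf_dvd_of_pow_eq_one (by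
      ext d
      exact congrArg Subtype.val (Function.Involutive.toPerm_involutive _ d))
    have := Nat.le_of_dvd (by norm_num) (h1.trans h3)
    exact ⟨1, by omega⟩
  rw [hsupp, Finset.card_univ, ← Nat.card_eq_fintype_card, Nat.card_coe_set_eq] at h2
  exact (Nat.not_even_iff_odd.2 hcard) (even_iff_two_dvd.2 h2)

end CfsgLib.ThreeTrans.TypeTop
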