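import Mathlib
import Cfsg.Agent.Lib.ThreeTrans.TypeTop.InvolutionClasses
import Cfsg.Agent.Lib.ThreeTrans.TypeTop.Facts

/-! Every involution in types M(22) and M(23) is a product of at most three commuting members. -/

set_option autoImplicit false

namespace CfsgLib.ThreeTrans.USix

open Matrix CfsgLib.ClassicalGroups

variable {F : Type*} [Field F] [Fintype F] (hF : Fintype.card F = 2 ^ 2)
include hF

local notation "V" => Fin 6 → F
local notation "𝕙" => Cfsg.hermForm 6 F 2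
local notation "SU₆" => Cfsg.SU 6 F 2
local notation "PSU₆" => Cfsg.PSU 6 F 2

/-- Two sixes with product one through any frame. -/
theorem exists_two_six_at {E : Set PSU₆} (hE : TClass E) {v : Fin 3 → V} {T : Fin 3 → SU₆}
    (hv : LinearIndependent F v) (hvv : ∀ i j, 𝕙 (v i) (v j) = 0) (hT : ∀ i, IsTvAt (v i) (T i)) :
    ∃ x y z x' y' z' : PSU₆,
      ([QuotientGroup.mk (T 0), QuotientGroup.mk (T 1), QuotientGroup.mk (T 2), x, y, z].Nodup ∧
        (∀ u ∈ [QuotientGroup.mk (T 0), QuotientGroup.mk (T 1), QuotientGroup.mk (T 2), x, y, z], u ∈ E) ∧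
        (∀ u ∈ [QuotientGroup.mk (T 0), QuotientGroup.mk (T 1), QuotientGroup.mk (T 2), x, y, z],
          ∀ w ∈ [QuotientGroup.mk (T 0), QuotientGroup.mk (T 1), QuotientGroup.mk (T 2), x, y, z], Commute u w) ∧
        [QuotientGroup.mk (T 0), QuotientGroup.mk (T 1), QuotientGroup.mk (T 2), x, y, z].prod = 1) ∧
      ([QuotientGroup.mk (T 0), QuotientGroup.mk (T 1), QuotientGroup.mk (T 2), x', y', z'].Nodup ∧
        (∀ u ∈ [QuotientGroup.mk (T 0), QuotientGroup.mk (T 1), QuotientGroup.mk (T 2), x', y', z'], u ∈ E) ∧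
        (∀ u ∈ [QuotientGroup.mk (T 0), QuotientGroup.mk (T 1), QuotientGroup.mk (T 2), x', y', z'],
          ∀ w ∈ [QuotientGroup.mk (T 0), QuotientGroup.mk (T 1), QuotientGroup.mk (T 2), x', y', z'], Commute u w) ∧
        [QuotientGroup.mk (T 0), QuotientGroup.mk (T 1), QuotientGroup.mk (T 2), x', y', z'].prod = 1) ∧
      x ∉ [x', y', z'] := by
  obtain ⟨p, q, r, x, y, z, x', y', z', h1, h2, hx, hpts⟩ := exists_two_six_std hF hE
  obtain ⟨s, hs⟩ := exists_move hF (li_stdP (F := F)) hv (stdP_gram hF) hvv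
  let c : PSU₆ ≃* PSU₆ := MulAut.conj (QuotientGroup.mk s)
  have hc : ∀ i, c (![p, q, r] i) = QuotientGroup.mk (T i) := by
    intro i
    obtain ⟨T₀, hT₀, e⟩ := hpts i
    rw [← e]
    obtain ⟨a, ha, hsa⟩ := hs i
    have h := (hT₀.conj hF s)
    rw [hsa] at h
    rw [← h.unique hF ((hT i).scale hF ha)]
    rfl
  have key : ∀ x y z, [p, q, r, x, y, z].Nodup → (∀ u ∈ [p, q, r, x, y, z], u ∈ E) →
      (∀ u ∈ [p, q, r, x, y, z], ∀ w ∈ [p, q, r, x, y, z], Commute u w) → [p, q, r, x, y, z].prod = 1 →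
      [QuotientGroup.mk (T 0), QuotientGroup.mk (T 1), QuotientGroup.mk (T 2), c x, c y, c z].Nodup ∧
        (∀ u ∈ [QuotientGroup.mk (T 0), QuotientGroup.mk (T 1), QuotientGroup.mk (T 2), c x, c y, c z], u ∈ E) ∧
        (∀ u ∈ [QuotientGroup.mk (T 0), QuotientGroup.mk (T 1), QuotientGroup.mk (T 2), c x, c y, c z],
          ∀ w ∈ [QuotientGroup.mk (T 0), QuotientGroup.mk (T 1), QuotientGroup.mk (T 2), c x, c y, c z],
            Commute u w) ∧
        [QuotientGroup.mk (T 0), QuotientGroup.mk (T 1), QuotientGroup.mk (T 2), c x, c y, c z].prod = 1 := by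
    intro x y z hn hm hcm hp
    have e : [QuotientGroup.mk (T 0), QuotientGroup.mk (T 1), QuotientGroup.mk (T 2), c x, c y, c z] =
        [p, q, r, x, y, z].map c := by
      rw [← hc 0, ← hc 1, ← hc 2]; rfl
    rw [e]
    refine ⟨hn.map c.injective, ?_, ?_, ?_⟩
    · intro u hu
      obtain ⟨w, hw, rfl⟩ := List.mem_map.1 hu
      exact hE.conj _ _ (hm w hw)
    · intro u hu w hw
      obtain ⟨u', hu', rfl⟩ := List.mem_map.1 hu
      obtain ⟨w', hw', rfl⟩ := List.mem_map.1 hw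
      exact (hcm u' hu' w' hw').map c.toMonoidHom
    · rw [← map_list_prod, hp, map_one]
  refine ⟨c x, c y, c z, c x', c y', c z', key x y z h1.1 h1.2.1 h1.2.2.1 h1.2.2.2,
    key x' y' z' h2.1 h2.2.1 h2.2.2.1 h2.2.2.2, ?_⟩
  simpa [c.injective.eq_iff] using hx

end CfsgLib.ThreeTrans.USix

namespace CfsgLib.ThreeTrans.TypeTop

open CfsgLib.ThreeTrans CfsgLib.ThreeTrans.Tower

variable {G : Type*} [Group G] [Finite G] {D : Set G}
variable {Y : Type*} [Group Y] {E : Set Y} {N k l m : ℕ}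

/-- Lifts of three members with a six of lift product `d`. -/
theorem three_times_base (hD : Cfsg.IsThreeTranspositionSet D) {d : G} {u₀ u₁ u₂ X Y' Z : G}
    (hnd : [u₀, u₁, u₂, X, Y', Z].Nodup) (hm : ∀ u ∈ [u₀, u₁, u₂, X, Y', Z], u ∈ D)
    (hc : ∀ u ∈ [u₀, u₁, u₂, X, Y', Z], ∀ w ∈ [u₀, u₁, u₂, X, Y', Z], Commute u w)
    (hp : [u₀, u₁, u₂, X, Y', Z].prod = d) : IsProd D 3 (u₀ * u₁ * u₂ * d) := by
  refine ⟨[X, Y', Z], (List.nodup_cons.1 (List.nodup_cons.1 (List.nodup_cons.1 hnd).2).2).2, rfl,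
    fun a ha => hm a (by simp at ha ⊢; tauto), fun a ha b hb => hc a (by simp at ha ⊢; tauto) b (by simp at hb ⊢; tauto),
    ?_⟩
  have hsq : u₀ * u₁ * u₂ * (u₀ * u₁ * u₂) = 1 := by
    refine IsProd.sq hD (n := 3) ⟨[u₀, u₁, u₂], ?_, rfl, fun a ha => hm a (by simp at ha ⊢; tauto),
      fun a ha b hb => hc a (by simp at ha ⊢; tauto) b (by simp at hb ⊢; tauto), by simp [mul_assoc]⟩
    simp only [List.nodup_cons, List.mem_cons, List.not_mem_nil, or_false, not_or, List.nodup_nil, and_true,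
      not_false_eq_true] at hnd ⊢
    tauto
  rw [← hp]
  have e : [u₀, u₁, u₂, X, Y', Z].prod = u₀ * u₁ * u₂ * [X, Y', Z].prod := by simp [mul_assoc]
  rw [e, ← mul_assoc, hsq, one_mul]

/-- Lift of an involution of the quotient: up to a factor `d` it is the product of lifts. -/
theorem lift_prod (S : Stage D E N k l m) {d : G} (hd : d ∈ D) {π : Hd D d →* Y} (M : Model D d E π)
    {x : Hd D d} {us : List (Hd D d)} (h : π x = π us.prod) :
    (x : G) = (us.prod : G) ∨ (x : G) = (us.prod : G) * d := by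
  have hz : us.prod⁻¹ * x ∈ Subgroup.center (Hd D d) :=
    (M.base.ker _).1 (by rw [map_mul, map_inv, h, inv_mul_cancel])
  rcases center_cases S hd hz with e | e <;> rw [Subgroup.coe_mul, Subgroup.coe_inv, inv_mul_eq_iff_eq_mul] at e
  · exact Or.inl (by rw [e, mul_one])
  · exact Or.inr e

/-- Assemble the products: lifts of at most three commuting members, times possibly `d`. -/
theorem small_cases (S : Stage D E N k l m) {d : G} (hd : d ∈ D) {π : Hd D d →* Y} (M : Model D d E π)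
    {x : Hd D d} (hx1 : (x : G) ≠ 1) {us : List (Hd D d)} (hlen : us.length ≤ 3) (hnd : (us.map π).Nodup)
    (hmem : ∀ u ∈ us, (u : G) ∈ Dd D d) (hcomm : ∀ u ∈ us, ∀ w ∈ us, Commute (π u) (π w))
    (hthree : us.length = 3 → IsProd D 3 ((us.prod : G) * d))
    (h : π x = π us.prod) : ∃ n, 1 ≤ n ∧ n ≤ 3 ∧ IsProd D n (x : G) := by
  have hnd' : (us.map (Hd D d).subtype).Nodup := (List.Nodup.of_map _ hnd).map (Subgroup.subtype_injective _)
  have hcG : ∀ u ∈ us.map (Hd D d).subtype, ∀ w ∈ us.map (Hd D d).subtype, Commute u w := by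
    intro u hu w hw
    obtain ⟨u', hu', rfl⟩ := List.mem_map.1 hu
    obtain ⟨w', hw', rfl⟩ := List.mem_map.1 hw
    exact (M.base.commute_img (hmem u' hu') (hmem w' hw')).1 (hcomm u' hu' w' hw')
  have hmD : ∀ u ∈ us.map (Hd D d).subtype, u ∈ Dd D d := by
    intro u hu
    obtain ⟨u', hu', rfl⟩ := List.mem_map.1 hu
    exact hmem u' hu'
  have hpG : (us.map (Hd D d).subtype).prod = (us.prod : G) := (map_list_prod (Hd D d).subtype us).symm
  rcases lift_prod S hd M h with e | e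
  · by_cases h0 : us.length = 0
    · rw [List.length_eq_zero_iff.1 h0] at e
      exact absurd (by simpa using e) hx1
    · exact ⟨us.length, by omega, hlen, us.map (Hd D d).subtype, hnd', by simp, fun u hu => (hmD u hu).1, hcG,
        by rw [hpG, e]⟩
  · by_cases h3 : us.length = 3
    · exact ⟨3, by norm_num, le_rfl, e ▸ hthree h3⟩
    · refine ⟨us.length + 1, by omega, by omega, us.map (Hd D d).subtype ++ [d], ?_, by simp, ?_, ?_, ?_⟩
      · rw [List.nodup_append]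
        refine ⟨hnd', List.nodup_singleton d, fun a ha b hb hab => ?_⟩
        rw [List.mem_singleton] at hb
        exact (hmD a ha).2.1 (hab.trans hb)
      · intro u hu
        rcases List.mem_append.1 hu with hu | hu
        · exact (hmD u hu).1
        · rw [List.mem_singleton] at hu; rw [hu]; exact hd
      · intro u hu w hw
        rcases List.mem_append.1 hu with hu | hu <;> rcases List.mem_append.1 hw with hw | hw
        · exact hcG u hu w hw
        · rw [List.mem_singleton] at hw; rw [hw]; exact (hmD u hu).2.2.symm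
        · rw [List.mem_singleton] at hu; rw [hu]; exact (hmD w hw).2.2
        · rw [List.mem_singleton] at hu hw; rw [hu, hw]
      · rw [List.prod_append, hpG, List.prod_singleton, e]

/-- In type M(22) an involution centralising a member is a product of at most three commuting members. -/
theorem classify22 (hD : Cfsg.IsThreeTranspositionGroup D) (hprim : Cfsg.IsPrimitiveUnderConj D)
    (h : Cfsg.IsOfTypeM22 G D) {x : G} (hx : x * x = 1) (hx1 : x ≠ 1) :
    ∃ n, 1 ≤ n ∧ n ≤ 3 ∧ IsProd D n x := by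
  obtain ⟨hs, hq⟩ := main22 hD hprim h
  haveI := hs
  have L := local22 hD hprim h
  obtain ⟨d₀, c, F, _, _, π₀, hc, hdc, hB, hF, hE, -⟩ := base22 hD h
  have hne := hB.exists_img_ne (psu_six_noncomm hF)
  have hT : USix.TClass (imgSet D d₀ π₀) := ⟨hB.img_isThreeTranspositionSet, hB.img_conj, hne⟩
  have S := stage_of_base hD hprim h.1 (USix.local_of_class hF hB.img_isThreeTranspositionSet hB.img_conj hne) hB rfl
  obtain ⟨d, hd, hxd⟩ := exists_fixed_of_simple (n := 877) (conjClosed_of_group hD)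
    ⟨d₀, c, fun e => hdc e⟩ L.card hx
  obtain ⟨π, M⟩ := S.base d hd
  have hxH : x ∈ Hd D d := by
    rw [centralizer_eq_Hd L hd (hq d hd).1]
    exact Subgroup.mem_centralizer_singleton_iff.2 hxd.eq
  -- a preimage of order two
  obtain ⟨A₀, hA₀⟩ := QuotientGroup.mk_surjective (π ⟨x, hxH⟩)
  set z := A₀ * A₀ with hzdef
  have hmk2 : (QuotientGroup.mk z : Cfsg.PSU 6 F 2) = 1 := by
    rw [hzdef, QuotientGroup.mk_mul, hA₀, ← map_mul, show (⟨x, hxH⟩ : Hd D d) * ⟨x, hxH⟩ = 1 from Subtype.ext hx,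
      map_one]
  have hzc : z ∈ Subgroup.center (Cfsg.SU 6 F 2) := (QuotientGroup.eq_one_iff z).1 hmk2
  have hmk : (QuotientGroup.mk (A₀ * z) : Cfsg.PSU 6 F 2) = π ⟨x, hxH⟩ := by
    rw [QuotientGroup.mk_mul, hA₀, hmk2, mul_one]
  have hAA : A₀ * z * (A₀ * z) = 1 := by
    calc A₀ * z * (A₀ * z) = A₀ * (z * A₀) * z := by group
      _ = A₀ * (A₀ * z) * z := by rw [(Subgroup.mem_center_iff.1 hzc A₀).symm]
      _ = z * z * z := by rw [hzdef]; group
      _ = 1 := USix.center_cube hF hzc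
  by_cases hA1 : A₀ * z = 1
  · exact small_cases S hd M (x := ⟨x, hxH⟩) hx1 (us := []) (by simp) (by simp) (by simp) (by simp) (by simp)
      (by rw [← hmk, hA1]; simp)
  have pick : ∀ {v : Fin 6 → F} {T : Cfsg.SU 6 F 2}, USix.IsTvAt v T →
      ∃ u : Hd D d, (u : G) ∈ Dd D d ∧ π u = QuotientGroup.mk T := by
    intro v T hvT
    obtain ⟨u, hu, e⟩ := M.onto (hT.hall hF hvT)
    exact ⟨⟨u, Subgroup.subset_closure hu⟩, hu, by rw [← e, phi_of_mem π (x := ⟨u, _⟩) hu]⟩
  rcases USix.involution_cases hF hAA hA1 with ⟨v, hv⟩ | ⟨p, T, hp, hpp, hTp, hA⟩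
  · obtain ⟨u, hu, hue⟩ := pick hv
    exact small_cases S hd M (x := ⟨x, hxH⟩) hx1 (us := [u]) (by simp) (by simp) (by simpa using hu) (by simp)
      (by simp) (by rw [List.prod_singleton, hue, hmk])
  obtain ⟨u₀, hu₀, e₀⟩ := pick (hTp 0)
  obtain ⟨u₁, hu₁, e₁⟩ := pick (hTp 1)
  obtain ⟨u₂, hu₂, e₂⟩ := pick (hTp 2)
  have hcm : ∀ i j, Commute (QuotientGroup.mk (T i) : Cfsg.PSU 6 F 2) (QuotientGroup.mk (T j)) :=
    fun i j => (USix.commute_mk_iff hF (hTp i) (hTp j)).2 (hpp i j)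
  have hdist : ∀ i j, i ≠ j → (QuotientGroup.mk (T i) : Cfsg.PSU 6 F 2) ≠ QuotientGroup.mk (T j) := by
    intro i j hij e
    obtain ⟨a, -, ha⟩ := (hT.mk_eq_iff hF (hTp i) (hTp j)).1 e
    have h' := Fintype.linearIndependent_iff.1 hp (Pi.single i a - Pi.single j 1) (by
      simp [sub_smul, Finset.sum_sub_distrib, Pi.single_apply, ite_smul, ha])
    have := h' j
    simp [Pi.single_apply, Ne.symm hij] at this
  rcases hA with hA | hA
  · refine small_cases S hd M (x := ⟨x, hxH⟩) hx1 (us := [u₀, u₁]) (by simp) ?_ (by simp [hu₀, hu₁]) ?_ (by simp) ?_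
    · simp [e₀, e₁, hdist 0 1 (by decide)]
    · simp only [List.mem_cons, List.not_mem_nil, or_false]
      rintro a (rfl | rfl) b (rfl | rfl) <;> simp only [e₀, e₁] <;> exact hcm _ _
    · rw [← hmk, hA, QuotientGroup.mk_mul, List.prod_cons, List.prod_singleton, map_mul, e₀, e₁]
  refine small_cases S hd M (x := ⟨x, hxH⟩) hx1 (us := [u₀, u₁, u₂]) (by simp) ?_ (by simp [hu₀, hu₁, hu₂]) ?_
    (fun _ => ?_) ?_
  · simp [e₀, e₁, e₂, hdist 0 1 (by decide), hdist 0 2 (by decide), hdist 1 2 (by decide)]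
  · simp only [List.mem_cons, List.not_mem_nil, or_false]
    rintro a (rfl | rfl | rfl) b (rfl | rfl | rfl) <;> simp only [e₀, e₁, e₂] <;> exact hcm _ _
  swap
  · rw [← hmk, hA, QuotientGroup.mk_mul, QuotientGroup.mk_mul, List.prod_cons, List.prod_cons, List.prod_singleton,
      map_mul, map_mul, e₀, e₁, e₂, mul_assoc]
  -- the exceptional six through the frame
  have hT' : USix.TClass (imgSet D d π) := by rw [M.img]; exact hT
  obtain ⟨x₁, y₁, z₁, x₂, y₂, z₂, ⟨n1, m1, c1, p1⟩, ⟨n2, m2, c2, p2⟩, hne12⟩ :=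
    USix.exists_two_six_at hF hT' hp hpp hTp
  have pick' : ∀ e ∈ imgSet D d π, ∃ u : Hd D d, (u : G) ∈ Dd D d ∧ π u = e := fun e he => by
    obtain ⟨-, u, hu, rfl⟩ := he
    exact ⟨u, hu, rfl⟩
  obtain ⟨X₁, hX₁, eX₁⟩ := pick' x₁ (m1 x₁ (by simp))
  obtain ⟨Y₁, hY₁, eY₁⟩ := pick' y₁ (m1 y₁ (by simp))
  obtain ⟨Z₁, hZ₁, eZ₁⟩ := pick' z₁ (m1 z₁ (by simp))
  obtain ⟨X₂, hX₂, eX₂⟩ := pick' x₂ (m2 x₂ (by simp))
  obtain ⟨Y₂, hY₂, eY₂⟩ := pick' y₂ (m2 y₂ (by simp))
  obtain ⟨Z₂, hZ₂, eZ₂⟩ := pick' z₂ (m2 z₂ (by simp))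
  rw [← e₀, ← e₁, ← e₂, ← eX₁, ← eY₁, ← eZ₁] at n1 m1 c1 p1
  rw [← e₀, ← e₁, ← e₂, ← eX₂, ← eY₂, ← eZ₂] at n2 m2 c2 p2
  have six : ∀ a b c : Hd D d, (∀ u ∈ [u₀, u₁, u₂, a, b, c], (u : G) ∈ Dd D d) →
      [π u₀, π u₁, π u₂, π a, π b, π c].Nodup →
      (∀ u ∈ [π u₀, π u₁, π u₂, π a, π b, π c], ∀ w ∈ [π u₀, π u₁, π u₂, π a, π b, π c], Commute u w) →
      [π u₀, π u₁, π u₂, π a, π b, π c].prod = 1 →
      [(u₀ : G), (u₁ : G), (u₂ : G), (a : G), (b : G), (c : G)].Nodup ∧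
        (∀ u ∈ [(u₀ : G), (u₁ : G), (u₂ : G), (a : G), (b : G), (c : G)], u ∈ D) ∧
        (∀ u ∈ [(u₀ : G), (u₁ : G), (u₂ : G), (a : G), (b : G), (c : G)],
          ∀ w ∈ [(u₀ : G), (u₁ : G), (u₂ : G), (a : G), (b : G), (c : G)], Commute u w) ∧
        ([(u₀ : G), (u₁ : G), (u₂ : G), (a : G), (b : G), (c : G)].prod = 1 ∨
          [(u₀ : G), (u₁ : G), (u₂ : G), (a : G), (b : G), (c : G)].prod = d) := by
    intro a b c hm hn hcomm hp'
    have e1 : [(u₀ : G), (u₁ : G), (u₂ : G), (a : G), (b : G), (c : G)] =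
        [u₀, u₁, u₂, a, b, c].map (Hd D d).subtype := rfl
    have e2 : [π u₀, π u₁, π u₂, π a, π b, π c] = [u₀, u₁, u₂, a, b, c].map π := rfl
    rw [e2] at hn hcomm hp'
    rw [e1]
    refine ⟨(List.Nodup.of_map _ hn).map (Subgroup.subtype_injective _), ?_, ?_, ?_⟩
    · intro u hu
      obtain ⟨w, hw, rfl⟩ := List.mem_map.1 hu
      exact (hm w hw).1
    · intro u hu w hw
      obtain ⟨u', hu', rfl⟩ := List.mem_map.1 hu
      obtain ⟨w', hw', rfl⟩ := List.mem_map.1 hw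
      exact (M.base.commute_img (hm u' hu') (hm w' hw')).1
        (hcomm _ (List.mem_map_of_mem hu') _ (List.mem_map_of_mem hw'))
    · rw [← map_list_prod]
      exact center_cases S hd ((M.base.ker _).1 ((map_list_prod π _).trans hp'))
  obtain ⟨N1, M1, C1, P1⟩ := six X₁ Y₁ Z₁ (by simp [hu₀, hu₁, hu₂, hX₁, hY₁, hZ₁]) n1 c1 p1
  obtain ⟨N2, M2, C2, P2⟩ := six X₂ Y₂ Z₂ (by simp [hu₀, hu₁, hu₂, hX₂, hY₂, hZ₂]) n2 c2 p2
  have hmul : ([u₀, u₁, u₂].prod : G) * d = (u₀ : G) * u₁ * u₂ * d := by simp [mul_assoc]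
  rw [hmul]
  rcases P1 with P1 | P1
  swap
  · exact three_times_base hD.1 N1 M1 C1 P1
  rcases P2 with P2 | P2
  swap
  · exact three_times_base hD.1 N2 M2 C2 P2
  exfalso
  have hconn := S.classTwo.connected_of_primitive hprim S.width
  have n01 : (u₀ : G) ≠ u₁ := fun e => (List.nodup_cons.1 N1).1 (e ▸ List.mem_cons_self ..)
  have n02 : (u₀ : G) ≠ u₂ := fun e => (List.nodup_cons.1 N1).1 (e ▸ List.mem_cons_of_mem _ (List.mem_cons_self ..))
  have n12 : (u₁ : G) ≠ u₂ := fun e =>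
    (List.nodup_cons.1 (List.nodup_cons.1 N1).2).1 (e ▸ List.mem_cons_self ..)
  obtain ⟨e, f, g, hL, -⟩ := hB.six_exists hprim.1 S.twins hE h.1 hconn hu₀.1 hu₁.1 hu₂.1 n01 n02 n12
    (C1 _ (by simp) _ (by simp)) (C1 _ (by simp) _ (by simp)) (C1 _ (by simp) _ (by simp))
  have hperm := (hB.six_unique hprim.1 S.twins hE hL hu₀.1 N1 M1 C1 P1).trans
    (hB.six_unique hprim.1 S.twins hE hL hu₀.1 N2 M2 C2 P2).symm
  have hm : (X₁ : G) ∈ [(X₂ : G), (Y₂ : G), (Z₂ : G)] := hperm.subset (by simp)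
  simp only [List.mem_cons, List.not_mem_nil, or_false] at hm hne12
  rcases hm with h' | h' | h'
  · exact hne12 (Or.inl (by rw [← eX₁, ← eX₂, Subtype.ext h']))
  · exact hne12 (Or.inr (Or.inl (by rw [← eX₁, ← eY₂, Subtype.ext h'])))
  · exact hne12 (Or.inr (Or.inr (by rw [← eX₁, ← eZ₂, Subtype.ext h'])))

/-- In type M(23) every involution is a product of at most three commuting members. -/
theorem classify23 (hD : Cfsg.IsThreeTranspositionGroup D) (hprim : Cfsg.IsPrimitiveUnderConj D)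
    (h : Cfsg.IsOfTypeM23 G D) {x : G} (hx : x * x = 1) (hx1 : x ≠ 1) :
    ∃ n, 1 ≤ n ∧ n ≤ 3 ∧ IsProd D n x := by
  obtain ⟨-, hq⟩ := main23 hD hprim h
  have L := local23 hD hprim h
  obtain ⟨d₀, c, hc, hdc, hB, h22, -⟩ := bottom23 hD h
  have hp22 := prim22 hD hprim hB h22
  have S := stage_of_base hD hprim h.1 (local22 hB.img_group hp22 h22) hB rfl
  have hG := good23 hD h
  obtain ⟨d, hd, hxd⟩ := exists_fixed_of_odd (conjClosed_of_group hD) (by rw [L.card]; decide) hx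
  obtain ⟨π, M⟩ := S.base d hd
  have hxH : x ∈ Hd D d := by
    rw [centralizer_eq_Hd L hd (hq d hd).1]
    exact Subgroup.mem_centralizer_singleton_iff.2 hxd.eq
  by_cases hy1 : π ⟨x, hxH⟩ = 1
  · exact small_cases S hd M (x := ⟨x, hxH⟩) hx1 (us := []) (by simp) (by simp) (by simp) (by simp) (by simp)
      (by rw [hy1, List.prod_nil, map_one])
  obtain ⟨n, hn, hn3, lst, hnd, hlen, hmem, hcomm, hprod⟩ := classify22 hB.img_group hp22 h22
    (x := π ⟨x, hxH⟩) (by rw [← map_mul, show (⟨x, hxH⟩ : Hd D d) * ⟨x, hxH⟩ = 1 from Subtype.ext hx, map_one]) hy1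
  have pick : ∀ l : List (Hd D d₀ ⧸ Subgroup.center (Hd D d₀)),
      (∀ u ∈ l, u ∈ imgSet D d₀ (QuotientGroup.mk' (Subgroup.center (Hd D d₀)))) →
      ∃ L : List (Hd D d), L.map π = l ∧ ∀ u ∈ L, (u : G) ∈ Dd D d := by
    intro l hl
    induction l with
    | nil => exact ⟨[], rfl, by simp⟩
    | cons u t ih =>
      obtain ⟨T, hT, hTm⟩ := ih fun y hy => hl y (List.mem_cons_of_mem _ hy)
      obtain ⟨w, hw, hwe⟩ := M.onto (hl u (by simp))
      refine ⟨⟨w, Subgroup.subset_closure hw⟩ :: T, ?_, by simpa [hw] using hTm⟩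
      rw [List.map_cons, hT, ← phi_of_mem π (x := ⟨w, Subgroup.subset_closure hw⟩) hw, hwe]
  obtain ⟨us, hus, husm⟩ := pick lst hmem
  refine small_cases S hd M (x := ⟨x, hxH⟩) hx1 (us := us) (by rw [← List.length_map π, hus, hlen]; exact hn3)
    (hus.symm ▸ hnd) husm
    (fun u hu w hw => hcomm _ (hus ▸ List.mem_map_of_mem hu) _ (hus ▸ List.mem_map_of_mem hw))
    (fun h3 => ?_) (by rw [map_list_prod, hus, hprod])
  obtain ⟨a, b, c', rfl⟩ := List.length_eq_three.1 h3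
  obtain ⟨p₀, c₀, F, _, _, π', -, -, hB', hF, hE', -⟩ := base22 hB.img_group h22
  have hG22 := good22 hB.img_group h22
  have S' := stage_of_base hB.img_group hp22 h22.1 (USix.local_of_class hF hB'.img_isThreeTranspositionSet
    hB'.img_conj (hB'.exists_img_ne (psu_six_noncomm hF))) hB' rfl
  subst hus
  simp only [List.map_cons, List.map_nil, List.nodup_cons, List.mem_cons, List.not_mem_nil, or_false, not_or,
    List.nodup_nil, and_true, not_false_eq_true] at hnd
  obtain ⟨e, f, g, hL, hsix⟩ := hB'.six_exists hG22.rigid.class_eq hG22.rigid.twins hE' h22.1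
    (S'.classTwo.connected_of_primitive hp22 S'.width) (hmem (π a) (by simp)) (hmem (π b) (by simp))
    (hmem (π c') (by simp)) hnd.1.1 hnd.1.2 hnd.2 (hcomm (π a) (by simp) (π b) (by simp))
    (hcomm (π a) (by simp) (π c') (by simp)) (hcomm (π b) (by simp) (π c') (by simp))
  obtain ⟨efg, hefg, hefgm⟩ := pick [e, f, g] fun u hu =>
    (hL.mem u (List.mem_cons_of_mem _ (List.mem_cons_of_mem _ hu))).1
  obtain ⟨X, Y', Z, rfl⟩ := List.length_eq_three.1 (by simpa using congrArg List.length hefg)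
  simp only [List.map_cons, List.map_nil, List.cons.injEq, and_true] at hefg
  obtain ⟨rfl, rfl, rfl⟩ := hefg
  have hnd6 : [π a, π b, π c', π X, π Y', π Z].Nodup :=
    List.nodup_cons.2 ⟨fun hm => (hL.mem _ hm).2.1 rfl, hL.nodup⟩
  have hc6 : ∀ u ∈ [π a, π b, π c', π X, π Y', π Z], ∀ w ∈ [π a, π b, π c', π X, π Y', π Z], Commute u w := by
    intro u hu w hw
    rcases List.mem_cons.1 hu with rfl | hu' <;> rcases List.mem_cons.1 hw with rfl | hw'
    · exact Commute.refl _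
    · exact (hL.mem _ hw').2.2
    · exact (hL.mem _ hu').2.2.symm
    · exact hL.comm _ hu' _ hw'
  have hm6 : ∀ u ∈ [a, b, c', X, Y', Z], (u : G) ∈ Dd D d := by
    intro u hu
    simp only [List.mem_cons, List.not_mem_nil, or_false] at hu
    rcases hu with rfl | rfl | rfl | rfl | rfl | rfl
    exacts [husm _ (by simp), husm _ (by simp), husm _ (by simp), hefgm _ (by simp), hefgm _ (by simp),
      hefgm _ (by simp)]
  have emap : [(a : G), (b : G), (c' : G), (X : G), (Y' : G), (Z : G)] =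
      [a, b, c', X, Y', Z].map (Hd D d).subtype := rfl
  have N6 : [(a : G), (b : G), (c' : G), (X : G), (Y' : G), (Z : G)].Nodup := by
    rw [emap]
    exact ((show ([a, b, c', X, Y', Z].map π).Nodup from hnd6).of_map _).map (Subgroup.subtype_injective _)
  have M6 : ∀ u ∈ [(a : G), (b : G), (c' : G), (X : G), (Y' : G), (Z : G)], u ∈ D := by
    rw [emap]
    intro u hu
    obtain ⟨w, hw, rfl⟩ := List.mem_map.1 hu
    exact (hm6 w hw).1
  have C6 : ∀ u ∈ [(a : G), (b : G), (c' : G), (X : G), (Y' : G), (Z : G)],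
      ∀ w ∈ [(a : G), (b : G), (c' : G), (X : G), (Y' : G), (Z : G)], Commute u w := by
    rw [emap]
    intro u hu w hw
    obtain ⟨u', hu', rfl⟩ := List.mem_map.1 hu
    obtain ⟨w', hw', rfl⟩ := List.mem_map.1 hw
    exact (M.base.commute_img (hm6 u' hu') (hm6 w' hw')).1
      (hc6 (π u') (List.mem_map_of_mem (f := π) hu') (π w') (List.mem_map_of_mem (f := π) hw'))
  have P6 : [(a : G), (b : G), (c' : G), (X : G), (Y' : G), (Z : G)].prod = d := by
    refine Or.resolve_left ?_ (hG.rel 6 le_rfl (by norm_num) _ N6 rfl M6 C6)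
    rw [emap, ← map_list_prod]
    refine center_cases S hd ((M.base.ker _).1 ?_)
    rw [map_list_prod]
    simpa [mul_assoc] using hsix
  have hmul : ([a, b, c'].prod : G) * d = (a : G) * b * c' * d := by simp [mul_assoc]
  rw [hmul]
  exact three_times_base hD.1 N6 M6 C6 P6

end CfsgLib.ThreeTrans.TypeTop
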