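import Mathlib
import Cfsg.Agent.Lib.ThreeTrans.TypeTop.InvolutionTypes
import Cfsg.Agent.Lib.ThreeTrans.TypeTop.DisplacedPoints

/-! In type M(24) every involution fixes a member, and so is a product of at most four commuting members; the
number of factors is determined, and products of the same length are conjugate. -/

set_option autoImplicit false

namespace CfsgLib.ThreeTrans.TypeTop

open CfsgLib.ThreeTrans CfsgLib.ThreeTrans.Tower

universe u v w

/-- A faithful copy of a set of members inside a quotient group. -/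
structure Chain {G : Type u} {Y : Type v} [Group G] [Group Y] (D T : Set G) (Φ : G → Y) (S : Set Y) : Prop where
  sub : T ⊆ D
  mem : ∀ y ∈ T, Φ y ∈ S
  inj : ∀ y ∈ T, ∀ z ∈ T, Φ y = Φ z → y = z
  onto : ∀ s ∈ S, ∃ y ∈ T, Φ y = s
  comm : ∀ y ∈ T, ∀ z ∈ T, (Commute (Φ y) (Φ z) ↔ Commute y z)
  conj : ∀ y ∈ T, ∀ z ∈ T, y * z * y⁻¹ ∈ T ∧ Φ (y * z * y⁻¹) = Φ y * Φ z * (Φ y)⁻¹

namespace Chain

variable {G : Type u} {Y : Type v} [Group G] [Group Y] {D T : Set G} {Φ : G → Y} {S : Set Y}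

theorem refl {D : Set G} (hD : ConjClosed D) : Chain D D id D :=
  ⟨le_rfl, fun _ h => h, fun _ _ _ _ e => e, fun s hs => ⟨s, hs, rfl⟩, fun _ _ _ _ => Iff.rfl,
    fun y _ z hz => ⟨hD.conj y z hz, rfl⟩⟩

variable (C : Chain D T Φ S) (hD : ConjClosed D)
include C

theorem mem_Dd {r y : G} (hr : r ∈ T) (hy : y ∈ T) : Φ y ∈ Dd S (Φ r) ↔ y ∈ Dd D r :=
  ⟨fun h => ⟨C.sub hy, fun e => h.2.1 (by rw [e]), (C.comm r hr y hy).1 h.2.2⟩,
    fun h => ⟨C.mem y hy, fun e => h.2.1 (C.inj y hy r hr e), (C.comm r hr y hy).2 h.2.2⟩⟩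

include hD

theorem restrict {r : G} (hr : r ∈ T) : Chain D (T ∩ Dd D r) Φ (Dd S (Φ r)) := by
  refine ⟨fun y hy => C.sub hy.1, fun y hy => (C.mem_Dd hr hy.1).2 hy.2, fun y hy z hz => C.inj y hy.1 z hz.1,
    fun s hs => ?_, fun y hy z hz => C.comm y hy.1 z hz.1, fun y hy z hz => ⟨⟨(C.conj y hy.1 z hz.1).1, ?_⟩,
      (C.conj y hy.1 z hz.1).2⟩⟩
  · obtain ⟨y, hy, rfl⟩ := C.onto s hs.1
    exact ⟨y, ⟨hy, (C.mem_Dd hr hy).1 hs⟩, rfl⟩
  · exact conj_mem_Dd hD hy.2.2.2.symm hz.2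

/-- One level down. -/
theorem step [Finite Y] {r : G} (hr : r ∈ T) {Y' : Type w} [Group Y'] {E' : Set Y'} {π : Hd S (Φ r) →* Y'}
    (M : Model S (Φ r) E' π) : Chain D (T ∩ Dd D r) (fun y => phi π (Φ y)) E' := by
  have C' := C.restrict hD hr
  refine ⟨C'.sub, fun y hy => M.mem (C'.mem y hy), fun y hy z hz e => C'.inj y hy z hz
    (M.inj (C'.mem y hy) (C'.mem z hz) e), fun s hs => ?_,
    fun y hy z hz => (M.comm (C'.mem y hy) (C'.mem z hz)).trans (C'.comm y hy z hz),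
    fun y hy z hz => ⟨(C'.conj y hy z hz).1, ?_⟩⟩
  · obtain ⟨x, hx, rfl⟩ := M.onto hs
    obtain ⟨y, hy, rfl⟩ := C'.onto x hx
    exact ⟨y, hy, rfl⟩
  · have h := M.phi_conj ⟨Φ y, Subgroup.subset_closure (C'.mem y hy)⟩ (C'.mem z hz)
    rw [← phi_of_mem π (x := ⟨Φ y, Subgroup.subset_closure (C'.mem y hy)⟩) (C'.mem y hy)] at h
    show phi π (Φ (y * z * y⁻¹)) = _
    rw [(C'.conj y hy z hz).2]
    exact h

end Chain

variable {G : Type u} [Group G] [Finite G] {D : Set G}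

/-- An involution of a group of type M(24) commutes with a member. -/
theorem exists_fixed24 (hD : Cfsg.IsThreeTranspositionGroup D) (hprim : Cfsg.IsPrimitiveUnderConj D)
    (h : Cfsg.IsOfTypeM24 G D) {x : G} (hx : x * x = 1) : ∃ d ∈ D, Commute x d := by
  obtain ⟨d₀, c₀, -, -, hB, h23⟩ := bottom24 hD hprim h
  have hp23 := prim23 hD hprim hB h23
  have L23 := local23 hB.img_group hp23 h23
  have S24 := stage_of_base hD hprim h.1 L23 hB rfl
  obtain ⟨d₁, c₁, -, -, hB', h22, -⟩ := bottom23 hB.img_group h23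
  have hp22 := prim22 hB.img_group hp23 hB' h22
  have L22 := local22 hB'.img_group hp22 h22
  have S23 := stage_of_base hB.img_group hp23 h23.1 L22 hB' rfl
  obtain ⟨d₂, c₂, F, _, _, π₀, hB'', -, -, hloc, -, hF⟩ := bottom22 hB'.img_group h22
  have S22 := stage_of_base hB'.img_group hp22 h22.1 hloc hB'' rfl
  have hT : USix.TClass (imgSet (imgSet (imgSet D d₀ (QuotientGroup.mk' (Subgroup.center (Hd D d₀)))) d₁
      (QuotientGroup.mk' (Subgroup.center _))) d₂ π₀) :=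
    ⟨hB''.img_isThreeTranspositionSet, hB''.img_conj, hB''.exists_img_ne (psu_six_noncomm hF)⟩
  have hc := conjClosed_of_group hD
  have L := local24 hD hprim h
  have hxi : x⁻¹ = x := inv_eq_of_mul_eq_one_right hx
  -- conjugation by `x`
  set σ : G → G := fun y => x * y * x⁻¹ with hσ
  have σσ : ∀ y, σ (σ y) = y := fun y => by
    simp only [hσ, hxi]
    rw [show x * (x * y * x) * x = (x * x) * y * (x * x) by simp [mul_assoc], hx, one_mul, mul_one]
  have σD : ∀ {a y : G}, y ∈ Dd D a → σ y ∈ Dd D (σ a) := fun hy => conj_mem_Dd_conj hc x hy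
  by_contra! hno
  have hmove : ∀ y ∈ D, σ y ∈ Dd D y := by
    intro y hy
    have hσy : σ y ∈ D := hc.conj x y hy
    refine ⟨hσy, fun e => hno y hy (mul_inv_eq_iff_eq_mul.1 e), ?_⟩
    by_contra hn
    have hfix : σ (y * σ y * y) = y * σ y * y := by
      rw [braid hD.1 hy hσy hn, show σ (σ y * y * σ y) = σ (σ y) * σ y * σ (σ y) by simp only [hσ]; group, σσ,
        braid hD.1 hy hσy hn]
    refine hno (y * σ y * y) ?_ (mul_inv_eq_iff_eq_mul.1 hfix)
    have := hc.conj y _ hσy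
    rwa [inv_eq hD.1 hy] at this
  obtain ⟨d, hd⟩ := Set.nonempty_of_ncard_ne_zero (s := D) (by rw [L.card]; norm_num)
  have hd' := hmove d hd
  obtain ⟨e, hed, hed'⟩ := Set.nonempty_of_ncard_ne_zero (s := Dd D d ∩ Dd D (σ d))
    (by rw [L.lam d hd _ hd']; norm_num)
  have he' := hmove e hed.1
  have he'd' : σ e ∈ Dd D (σ d) := σD hed
  have he'd : σ e ∈ Dd D d := by have := σD hed'; rwa [σσ] at this
  -- three levels down
  obtain ⟨π₁, M₁⟩ := S24.base d hd
  have C1 := (Chain.refl hc).step hc hd M₁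
  obtain ⟨π₂, M₂⟩ := S23.base _ (C1.mem _ ⟨hd'.1, hd'⟩)
  have C2 := C1.step hc ⟨hd'.1, hd'⟩ M₂
  obtain ⟨π₃, M₃⟩ := S22.base _ (C2.mem _ ⟨⟨hed.1, hed⟩, hed'⟩)
  have C3 := C2.step hc ⟨⟨hed.1, hed⟩, hed'⟩ M₃
  have hr : σ e ∈ ((D ∩ Dd D d) ∩ Dd D (σ d)) ∩ Dd D e := ⟨⟨⟨he'.1, he'd⟩, he'd'⟩, he'⟩
  have C4 := C3.restrict hc hr
  set T := (((D ∩ Dd D d) ∩ Dd D (σ d)) ∩ Dd D e) ∩ Dd D (σ e) with hTdef
  have hσT : ∀ y ∈ T, σ y ∈ T := by
    rintro y ⟨⟨⟨⟨hy, h1⟩, h2⟩, h3⟩, h4⟩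
    exact ⟨⟨⟨⟨hc.conj x y hy, by simpa [σσ] using σD h2⟩, σD h1⟩, by simpa [σσ] using σD h4⟩, σD h3⟩
  set Ψ := fun y => phi π₃ (phi π₂ (phi π₁ (id y))) with hΨ
  classical
  have hsel : ∀ z : Cfsg.PSU 6 F 2, ∃ y : G, z ∈ Dd (imgSet _ d₂ π₀) (Ψ (σ e)) → y ∈ T ∧ Ψ y = z := fun z => by
    by_cases hz : z ∈ Dd (imgSet _ d₂ π₀) (Ψ (σ e))
    · obtain ⟨y, hy⟩ := C4.onto z hz
      exact ⟨y, fun _ => hy⟩
    · exact ⟨1, fun h => absurd h hz⟩
  choose L' hL using hsel
  have hL' : ∀ y ∈ T, L' (Ψ y) = y := fun y hy => by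
    obtain ⟨h1, h2⟩ := hL _ (C4.mem y hy)
    exact C4.inj _ h1 y hy h2
  refine hT.no_displacement hF (C3.mem _ hr) (fun z => Ψ (σ (L' z))) (fun z hz => C4.mem _ (hσT _ (hL z hz).1))
    (fun z hz => ?_) (fun z hz => ?_) (fun z hz z' hz' => ?_) fun z hz z' hz' _ => ?_
  · obtain ⟨h1, h2⟩ := hL z hz
    have := (C3.mem_Dd h1.1 (hσT _ h1).1).2 (hmove _ (C4.sub h1))
    exact Eq.subst (motive := fun w => Ψ (σ (L' z)) ∈ Dd _ w) h2 this
  · obtain ⟨h1, h2⟩ := hL z hz
    simp only [hL' _ (hσT _ h1), σσ]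
    exact h2
  · obtain ⟨h1, h2⟩ := hL z hz
    obtain ⟨h1', h2'⟩ := hL z' hz'
    rw [C4.comm _ (hσT _ h1) _ (hσT _ h1'), hσ]
    simp only [commute_conj_iff]
    conv_rhs => rw [← h2, ← h2']
    exact (C4.comm _ h1 _ h1').symm
  · obtain ⟨h1, h2⟩ := hL z hz
    obtain ⟨h1', h2'⟩ := hL z' hz'
    obtain ⟨hm, hmc⟩ := C4.conj _ h1 _ h1'
    have e1 : L' (z * z' * z⁻¹) = L' z * L' z' * (L' z)⁻¹ := by
      conv_lhs => rw [← h2, ← h2']
      exact (congrArg L' hmc.symm).trans (hL' _ hm)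
    simp only [e1]
    rw [show σ (L' z * L' z' * (L' z)⁻¹) = σ (L' z) * σ (L' z') * (σ (L' z))⁻¹ by simp only [hσ]; group]
    exact (C4.conj _ (hσT _ h1) _ (hσT _ h1')).2

/-- In type M(24) every involution is a product of at most four commuting members. -/
theorem classify24 (hD : Cfsg.IsThreeTranspositionGroup D) (hprim : Cfsg.IsPrimitiveUnderConj D)
    (h : Cfsg.IsOfTypeM24 G D) {x : G} (hx : x * x = 1) (hx1 : x ≠ 1) :
    ∃ n, 1 ≤ n ∧ n ≤ 4 ∧ IsProd D n x := by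
  obtain ⟨d₀, c, -, -, hB, h23⟩ := bottom24 hD hprim h
  have hp23 := prim23 hD hprim hB h23
  have S := stage_of_base hD hprim h.1 (local23 hB.img_group hp23 h23) hB rfl
  obtain ⟨d, hd, hxd⟩ := exists_fixed24 hD hprim h hx
  obtain ⟨π, M⟩ := S.base d hd
  obtain ⟨g, hg⟩ := Model.Kc_decomp hD.1 hd ((local24 hD hprim h).stab d hd x hxd)
  have hgd : Commute (g : G) d := commute_of_mem_Hd g.2
  have hdd := mul_self hD.1 hd
  have hgg : g * g = 1 := Subtype.ext (by
    rcases hg with e | e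
    · rw [Subgroup.coe_mul, ← e, hx]; rfl
    · rw [e, mul_assoc, ← mul_assoc (g : G), hgd.eq, mul_assoc d, ← mul_assoc d d, hdd, one_mul] at hx
      exact hx)
  -- the list of members
  obtain ⟨us, hlen, hnd, hmem, hcomm, hπ⟩ : ∃ us : List (Hd D d), us.length ≤ 3 ∧ (us.map π).Nodup ∧
      (∀ u ∈ us, (u : G) ∈ Dd D d) ∧ (∀ u ∈ us, ∀ w ∈ us, Commute (π u) (π w)) ∧ π g = π us.prod := by
    by_cases hy1 : π g = 1
    · exact ⟨[], by simp, by simp, by simp, by simp, by simp [hy1]⟩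
    obtain ⟨n, -, hn3, lst, hnd, hlen, hmem, hcomm, hprod⟩ := classify23 hB.img_group hp23 h23 (x := π g)
      (by rw [← map_mul, hgg, map_one]) hy1
    have pick : ∀ l : List (Hd D d₀ ⧸ Subgroup.center (Hd D d₀)),
        (∀ u ∈ l, u ∈ imgSet D d₀ (QuotientGroup.mk' (Subgroup.center (Hd D d₀)))) →
        ∃ L : List (Hd D d), L.map π = l ∧ ∀ u ∈ L, (u : G) ∈ Dd D d := by
      intro l hl
      induction l with
      | nil => exact ⟨[], rfl, by simp⟩
      | cons u t ih =>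
        obtain ⟨T, hT, hTm⟩ := ih fun y hy => hl y (List.mem_cons_of_mem _ hy)
        obtain ⟨w, hw, hwe⟩ := M.onto (hl u (by simp))
        refine ⟨⟨w, Subgroup.subset_closure hw⟩ :: T, ?_, by simpa [hw] using hTm⟩
        rw [List.map_cons, hT, ← phi_of_mem π (x := ⟨w, Subgroup.subset_closure hw⟩) hw, hwe]
    obtain ⟨us, hus, husm⟩ := pick lst hmem
    exact ⟨us, by rw [← List.length_map π, hus, hlen]; exact hn3, hus.symm ▸ hnd, husm,
      fun u hu w hw => hcomm _ (hus ▸ List.mem_map_of_mem hu) _ (hus ▸ List.mem_map_of_mem hw),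
      by rw [map_list_prod, hus, hprod]⟩
  have hnd' : (us.map (Hd D d).subtype).Nodup := (List.Nodup.of_map _ hnd).map (Subgroup.subtype_injective _)
  have hcG : ∀ u ∈ us.map (Hd D d).subtype, ∀ w ∈ us.map (Hd D d).subtype, Commute u w := by
    intro u hu w hw
    obtain ⟨u', hu', rfl⟩ := List.mem_map.1 hu
    obtain ⟨w', hw', rfl⟩ := List.mem_map.1 hw
    exact (M.base.commute_img (hmem u' hu') (hmem w' hw')).1 (hcomm u' hu' w' hw')
  have hmD : ∀ u ∈ us.map (Hd D d).subtype, u ∈ Dd D d := by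
    intro u hu
    obtain ⟨u', hu', rfl⟩ := List.mem_map.1 hu
    exact hmem u' hu'
  have hpG : (us.map (Hd D d).subtype).prod = (us.prod : G) := (map_list_prod (Hd D d).subtype us).symm
  have hPd : Commute (us.prod : G) d := commute_of_mem_Hd us.prod.2
  have hcase : x = (us.prod : G) ∨ x = (us.prod : G) * d := by
    rcases hg with e | e <;> rcases lift_prod S hd M hπ with e' | e' <;> rw [e, e']
    · exact Or.inl rfl
    · exact Or.inr rfl
    · exact Or.inr hPd.eq.symm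
    · left; rw [← mul_assoc, ← hPd.eq, mul_assoc, hdd, mul_one]
  rcases hcase with e | e
  · refine ⟨us.length, ?_, by omega, us.map (Hd D d).subtype, hnd', by simp, fun u hu => (hmD u hu).1, hcG,
      by rw [hpG, e]⟩
    by_contra h0
    refine hx1 ?_
    rw [e, List.length_eq_zero_iff.1 (by omega : us.length = 0)]
    simp
  · refine ⟨us.length + 1, by omega, by omega, us.map (Hd D d).subtype ++ [d], ?_, by simp, ?_, ?_, ?_⟩
    · rw [List.nodup_append]
      refine ⟨hnd', List.nodup_singleton d, fun a ha b hb hab => ?_⟩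
      rw [List.mem_singleton] at hb
      exact (hmD a ha).2.1 (hab.trans hb)
    · intro u hu
      rcases List.mem_append.1 hu with hu | hu
      · exact (hmD u hu).1
      · rw [List.mem_singleton] at hu; rw [hu]; exact hd
    · intro u hu w hw
      rcases List.mem_append.1 hu with hu | hu <;> rcases List.mem_append.1 hw with hw | hw
      · exact hcG u hu w hw
      · rw [List.mem_singleton] at hw; rw [hw]; exact (hmD u hu).2.2.symm
      · rw [List.mem_singleton] at hu; rw [hu]; exact (hmD w hw).2.2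
      · rw [List.mem_singleton] at hu hw; rw [hu, hw]
    · rw [List.prod_append, hpG, List.prod_singleton, e]

/-- No product of one to seven distinct commuting members is one. -/
theorem noRel24 (hD : Cfsg.IsThreeTranspositionGroup D) (hprim : Cfsg.IsPrimitiveUnderConj D)
    (h : Cfsg.IsOfTypeM24 G D) : ∀ j, 1 ≤ j → j ≤ 7 → NoRel D j := by
  obtain ⟨d₀, c, -, -, hB, h23⟩ := bottom24 hD hprim h
  have hp23 := prim23 hD hprim hB h23
  have S := stage_of_base hD hprim h.1 (local23 hB.img_group hp23 h23) hB rfl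
  have hG := good23 hB.img_group h23
  intro j h1 h7
  rcases (by omega : j = 1 ∨ j = 2 ∨ 3 ≤ j) with rfl | rfl | h3
  · intro l _ hlen hm _ he
    obtain ⟨a, rfl⟩ := List.length_eq_one_iff.1 hlen
    exact ne_one hD.1 (hm a (by simp)) (by simpa using he)
  · exact noRel_two hD.1
  · obtain ⟨k, rfl⟩ := Nat.exists_eq_add_of_le' (by omega : 1 ≤ j)
    exact hB.noRel_succ hprim.1 S.twins (hG.rel k (by omega) (by omega))

/-- A member commuting with a product of at most three commuting members commutes with each. -/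
theorem commute_factors (hs : Cfsg.IsThreeTranspositionSet D) (hc : ConjClosed D) (h4 : NoRel D 4) (h6 : NoRel D 6)
    {l : List G} (hnd : l.Nodup) (hlen : l.length ≤ 3) (hm : ∀ b ∈ l, b ∈ D)
    (hcm : ∀ b ∈ l, ∀ b' ∈ l, Commute b b') {a : G} (ha : a ∈ D) (hax : Commute a l.prod) :
    ∀ b ∈ l, Commute a b := by
  have key : ∀ b ∈ l, a * b * a⁻¹ ∈ l := by
    have hm' : ∀ b ∈ l, a * b * a⁻¹ ∈ D := fun b hb => hc.conj a b (hm b hb)
    have hcm' : ∀ b ∈ l, ∀ b' ∈ l, Commute (a * b * a⁻¹) (a * b' * a⁻¹) := fun b hb b' hb' =>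
      (commute_conj_iff a b b').2 (hcm b hb b' hb')
    have hne : ∀ {b b' : G}, b ≠ b' → a * b * a⁻¹ ≠ a * b' * a⁻¹ := fun hne e => hne (conj_injective e)
    have hfix : a * l.prod * a⁻¹ = l.prod := by rw [hax.eq, mul_inv_cancel_right]
    rcases l with _ | ⟨b, _ | ⟨c, _ | ⟨e, _ | ⟨f, t⟩⟩⟩⟩
    · simp
    · simp at hfix ⊢; exact hfix
    · simp only [List.prod_cons, List.prod_nil, mul_one] at hfix
      simp only [List.nodup_cons, List.mem_cons, List.not_mem_nil, or_false] at hnd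
      rcases pair_unique hs h4 (hm b (by simp)) (hm c (by simp)) (hm' b (by simp)) (hm' c (by simp)) hnd.1
        (hne hnd.1) (hcm b (by simp) c (by simp)) (hcm' b (by simp) c (by simp))
        (hfix.symm.trans (by group)) with ⟨e1, e2⟩ | ⟨e1, e2⟩ <;>
        simp only [List.mem_cons, List.not_mem_nil, or_false] <;> rintro y (rfl | rfl) <;> simp [e1, e2]
    · simp only [List.prod_cons, List.prod_nil, mul_one] at hfix
      simp only [List.nodup_cons, List.mem_cons, List.not_mem_nil, or_false, not_or] at hnd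
      rcases triple_cases hs h4 (hm b (by simp)) (hm c (by simp)) (hm e (by simp)) (hm' b (by simp))
        (hm' c (by simp)) (hm' e (by simp)) hnd.1.1 hnd.1.2 hnd.2.1 (hne hnd.1.1) (hne hnd.1.2) (hne hnd.2.1)
        (hcm b (by simp) c (by simp)) (hcm b (by simp) e (by simp)) (hcm c (by simp) e (by simp))
        (hcm' b (by simp) c (by simp)) (hcm' b (by simp) e (by simp)) (hcm' c (by simp) e (by simp))
        ((mul_assoc b c e).trans (hfix.symm.trans (by group))) with hiff | ⟨n6, c6, p6⟩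
      · intro y hy
        refine (hiff _).1 ?_
        simp only [List.mem_cons, List.not_mem_nil, or_false] at hy ⊢
        rcases hy with rfl | rfl | rfl <;> simp
      · refine absurd p6 (h6 _ n6 rfl ?_ c6)
        simp only [List.mem_cons, List.not_mem_nil, or_false]
        rintro y (rfl | rfl | rfl | rfl | rfl | rfl)
        exacts [hm _ (by simp), hm _ (by simp), hm _ (by simp), hm' _ (by simp), hm' _ (by simp), hm' _ (by simp)]
    · simp only [List.length_cons] at hlen; omega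
  intro b hb
  by_contra hn
  have hD' := hcm b hb _ (key b hb)
  rw [inv_eq hs ha, braid hs ha (hm b hb) hn] at hD'
  refine hn ?_
  have h1 : b * (b * a * b) = b * a * b * b := hD'.eq
  have bb := mul_self hs (hm b hb)
  rw [show b * (b * a * b) = (b * b) * a * b by simp [mul_assoc], bb, one_mul,
    show b * a * b * b = b * a * (b * b) by simp [mul_assoc], bb, mul_one] at h1
  exact h1

/-- The number of factors is determined, up to four. -/
theorem length_unique24 (hs : Cfsg.IsThreeTranspositionSet D) (hc : ConjClosed D)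
    (hrel : ∀ j, 1 ≤ j → j ≤ 7 → NoRel D j) {n n' : ℕ} {x : G} (hn4 : n ≤ 4) (hn4' : n' ≤ 4)
    (h : IsProd D n x) (h' : IsProd D n' x) : n = n' := by
  classical
  by_contra hne
  wlog hlt : n < n' generalizing n n'
  · exact this hn4' hn4 h' h (Ne.symm hne) (by omega)
  obtain ⟨l, hnd, hlen, hm, hcm, hp⟩ := h
  obtain ⟨l', hnd', hlen', hm', hcm', hp'⟩ := h'
  have hcross : ∀ a ∈ l', ∀ b ∈ l, Commute a b := by
    intro a ha
    refine commute_factors hs hc (hrel 4 (by norm_num) (by norm_num)) (hrel 6 (by norm_num) (by norm_num)) hnd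
      (by omega) hm hcm (hm' a ha) ?_
    rw [hp, ← hp']
    exact Commute.list_prod_right _ _ fun b hb => hcm' a ha b hb
  set l1 := l.filter (fun b => decide (b ∉ l')) with hl1
  set l2 := l'.filter (fun b => decide (b ∉ l)) with hl2
  set c1 := l.filter (fun b => decide (b ∈ l')) with hc1
  set c2 := l'.filter (fun b => decide (b ∈ l)) with hc2
  have hperm : c1.Perm c2 := by
    refine (List.perm_ext_iff_of_nodup (hnd.filter _) (hnd'.filter _)).2 fun b => ?_
    simp [hc1, hc2, and_comm]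
  have e1 : (c1 ++ l1).Perm l := by
    have := List.filter_append_perm (fun b => decide (b ∈ l')) l
    simpa [hc1, hl1] using this
  have e2 : (c2 ++ l2).Perm l' := by
    have := List.filter_append_perm (fun b => decide (b ∈ l)) l'
    simpa [hc2, hl2] using this
  have pw : ∀ {L : List G}, (∀ a ∈ L, ∀ b ∈ L, Commute a b) → L.Pairwise Commute := fun hL =>
    List.pairwise_of_forall_mem_list hL
  have s1 : ∀ b ∈ l1, b ∈ l := fun b hb => List.mem_of_mem_filter hb
  have s2 : ∀ b ∈ l2, b ∈ l' := fun b hb => List.mem_of_mem_filter hb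
  have q1 : c1.prod * l1.prod = x := by
    rw [← List.prod_append, e1.prod_eq' (pw fun a ha b hb => hcm a (e1.subset ha) b (e1.subset hb)), hp]
  have q2 : c2.prod * l2.prod = x := by
    rw [← List.prod_append, e2.prod_eq' (pw fun a ha b hb => hcm' a (e2.subset ha) b (e2.subset hb)), hp']
  have q3 : c1.prod = c2.prod :=
    hperm.prod_eq' (pw fun a ha b hb => hcm a (List.mem_of_mem_filter ha) b (List.mem_of_mem_filter hb))
  have q4 : l1.prod = l2.prod := mul_left_cancel (q1.trans (by rw [q3, q2]))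
  have sq : l2.prod * l2.prod = 1 := IsProd.sq (n := l2.length) hs
    ⟨l2, hnd'.filter _, rfl, fun b hb => hm' b (s2 b hb), fun a ha b hb => hcm' a (s2 a ha) b (s2 b hb), rfl⟩
  have hl : l.length = c1.length + l1.length := by rw [← List.length_append]; exact e1.length_eq.symm
  have hl' : l'.length = c2.length + l2.length := by rw [← List.length_append]; exact e2.length_eq.symm
  have hcl := hperm.length_eq
  refine hrel (l1 ++ l2).length ?_ ?_ (l1 ++ l2) ?_ rfl ?_ ?_ (by rw [List.prod_append, q4, sq])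
  · rw [List.length_append]; omega
  · rw [List.length_append]; omega
  · rw [List.nodup_append]
    refine ⟨hnd.filter _, hnd'.filter _, fun a ha b hb e => ?_⟩
    have h1 := List.of_mem_filter ha
    simp only [decide_eq_true_eq] at h1
    exact h1 (e ▸ s2 b hb)
  · intro b hb
    rcases List.mem_append.1 hb with hb | hb
    exacts [hm b (s1 b hb), hm' b (s2 b hb)]
  · intro a ha b hb
    rcases List.mem_append.1 ha with ha | ha <;> rcases List.mem_append.1 hb with hb | hb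
    exacts [hcm a (s1 a ha) b (s1 b hb), (hcross b (s2 b hb) a (s1 a ha)).symm,
      hcross a (s2 a ha) b (s1 b hb), hcm' a (s2 a ha) b (s2 b hb)]

theorem isProd_four {x : G} :
    IsProd D 4 x → ∃ a ∈ D, ∃ b ∈ Dd D a, ∃ c ∈ Dd D a ∩ Dd D b, ∃ e ∈ Dd D a ∩ (Dd D b ∩ Dd D c),
      x = a * (b * (c * e)) := by
  rintro ⟨l, hnd, hlen, hm, hc, rfl⟩
  obtain ⟨a, b, c, e, rfl⟩ : ∃ a b c e, l = [a, b, c, e] := by
    rcases l with _ | ⟨a, _ | ⟨b, _ | ⟨c, _ | ⟨e, _ | ⟨f, t⟩⟩⟩⟩⟩ <;> simp at hlen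
    exact ⟨a, b, c, e, rfl⟩
  simp only [List.nodup_cons, List.mem_cons, List.not_mem_nil, or_false, not_or] at hnd
  have hm' : ∀ y, y = a ∨ y = b ∨ y = c ∨ y = e → y ∈ D := fun y hy => hm y (by simpa using hy)
  have hc' : ∀ y, y = a ∨ y = b ∨ y = c ∨ y = e → ∀ z, z = a ∨ z = b ∨ z = c ∨ z = e → Commute y z :=
    fun y hy z hz => hc y (by simpa using hy) z (by simpa using hz)
  exact ⟨a, hm' a (by simp), b, ⟨hm' b (by simp), Ne.symm hnd.1.1, hc' a (by simp) b (by simp)⟩,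
    c, ⟨⟨hm' c (by simp), Ne.symm hnd.1.2.1, hc' a (by simp) c (by simp)⟩,
      ⟨hm' c (by simp), Ne.symm hnd.2.1.1, hc' b (by simp) c (by simp)⟩⟩,
    e, ⟨⟨hm' e (by simp), Ne.symm hnd.1.2.2, hc' a (by simp) e (by simp)⟩,
      ⟨hm' e (by simp), Ne.symm hnd.2.1.2, hc' b (by simp) e (by simp)⟩,
      ⟨hm' e (by simp), Ne.symm hnd.2.2.1, hc' c (by simp) e (by simp)⟩⟩, by simp⟩

theorem classes24 (hD : Cfsg.IsThreeTranspositionGroup D) (hprim : Cfsg.IsPrimitiveUnderConj D)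
    (h : Cfsg.IsOfTypeM24 G D) {n : ℕ} (hn : 1 ≤ n) (hn4 : n ≤ 4) :
    (∃ x : G, orderOf x = 2 ∧ IsProd D n x) ∧ ∀ x y : G, IsProd D n x → IsProd D n y → IsConj x y := by
  have L := local24 hD hprim h
  have hrel := noRel24 hD hprim h
  obtain ⟨d₀, c₀, -, -, hB, h23⟩ := bottom24 hD hprim h
  have hp23 := prim23 hD hprim hB h23
  have L23 := local23 hB.img_group hp23 h23
  have S := stage_of_base hD hprim h.1 L23 hB rfl
  have hord : ∀ x, IsProd D n x → orderOf x = 2 := fun x hx => by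
    refine orderOf_eq_prime (by rw [pow_two]; exact hx.sq hD.1) ?_
    obtain ⟨l, hnd, hlen, hm, hcm, hp⟩ := hx
    rw [← hp]
    exact hrel n hn (by omega) l hnd hlen hm hcm
  rcases (by omega : n ≤ 3 ∨ n = 4) with hn3 | rfl
  · obtain ⟨x, hx⟩ := exists_isProd L (by norm_num) (by norm_num) (by norm_num) hn hn3
    exact ⟨⟨x, hord x hx, hx⟩, fun x y => conj_isProd S L hn hn3⟩
  refine ⟨?_, fun x y hx hy => ?_⟩
  · obtain ⟨a, ha⟩ := Set.nonempty_of_ncard_ne_zero (s := D) (by rw [L.card]; norm_num)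
    obtain ⟨b, hb⟩ := Set.nonempty_of_ncard_ne_zero (s := Dd D a) (by rw [L.deg a ha]; norm_num)
    obtain ⟨c, hc⟩ := Set.nonempty_of_ncard_ne_zero (s := Dd D a ∩ Dd D b) (by rw [L.lam a ha b hb]; norm_num)
    obtain ⟨π, M⟩ := S.base a ha
    obtain ⟨e, he⟩ := Set.nonempty_of_ncard_ne_zero (s := Dd D a ∩ (Dd D b ∩ Dd D c))
      (by rw [M.card_two hb hc.1, L23.lam _ (M.mem hb) _ ((M.mem_Dd hb hc.1).2 hc.2)]; norm_num)
    have hx : IsProd D 4 (a * b * c * e) := by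
      refine ⟨[a, b, c, e], by simp [Ne.symm hb.2.1, Ne.symm hc.1.2.1, Ne.symm hc.2.2.1, Ne.symm he.1.2.1,
        Ne.symm he.2.1.2.1, Ne.symm he.2.2.2.1], rfl, by simp [ha, hb.1, hc.1.1, he.1.1], ?_, by simp [mul_assoc]⟩
      simp only [List.mem_cons, List.not_mem_nil, or_false]
      rintro p (rfl | rfl | rfl | rfl) q (rfl | rfl | rfl | rfl)
      exacts [Commute.refl _, hb.2.2, hc.1.2.2, he.1.2.2, hb.2.2.symm, Commute.refl _, hc.2.2.2, he.2.1.2.2,
        hc.1.2.2.symm, hc.2.2.2.symm, Commute.refl _, he.2.2.2.2, he.1.2.2.symm, he.2.1.2.2.symm, he.2.2.2.2.symm,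
        Commute.refl _]
    exact ⟨_, hord _ hx, hx⟩
  obtain ⟨a, ha, b, hb, c, hc, e, he, rfl⟩ := isProd_four hx
  obtain ⟨a', ha', b', hb', c', hc', e', he', rfl⟩ := isProd_four hy
  obtain ⟨g₁, rfl⟩ := S.prim.1 a ha a' ha'
  obtain ⟨π, M⟩ := S.base _ ha'
  have mv := fun {p y : G} (hy : y ∈ Dd D p) => conj_mem_Dd_conj S.closed g₁ hy
  obtain ⟨p₂, c₂, -, -, hB', h22, -⟩ := bottom23 hB.img_group h23
  have S23 := stage_of_base hB.img_group hp23 h23.1
    (local22 hB'.img_group (prim22 hB.img_group hp23 hB' h22) h22) hB' rfl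
  obtain ⟨k, hk1, hk2, hk3⟩ := Tower.triple_transitive S23 L23 (M.mem (mv hb))
    ((M.mem_Dd (mv hb) (mv hc.1)).2 (mv hc.2))
    (c := phi π (g₁ * e * g₁⁻¹))
    ⟨(M.mem_Dd (mv hb) (mv he.1)).2 (mv he.2.1), (M.mem_Dd (mv hc.1) (mv he.1)).2 (mv he.2.2)⟩
    (M.mem hb') ((M.mem_Dd hb' hc'.1).2 hc'.2)
    (c' := phi π e') ⟨(M.mem_Dd hb' he'.1).2 he'.2.1, (M.mem_Dd hc'.1 he'.1).2 he'.2.2⟩
  obtain ⟨hh, rfl⟩ := M.base.surj k
  have back : ∀ {y y' : G}, y ∈ Dd D (g₁ * a * g₁⁻¹) → y' ∈ Dd D (g₁ * a * g₁⁻¹) →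
      π hh * phi π y * (π hh)⁻¹ = phi π y' → (hh : G) * y * (hh : G)⁻¹ = y' := fun hy hy' e =>
    M.inj (M.conj_mem hh hy) hy' ((M.phi_conj hh hy).trans e)
  refine isConj_iff.2 ⟨(hh : G) * g₁, ?_⟩
  have ea : (hh : G) * (g₁ * a * g₁⁻¹) * (hh : G)⁻¹ = g₁ * a * g₁⁻¹ :=
    mul_inv_eq_iff_eq_mul.2 (commute_of_mem_Hd hh.2).eq
  calc (hh : G) * g₁ * (a * (b * (c * e))) * ((hh : G) * g₁)⁻¹
      = ((hh : G) * (g₁ * a * g₁⁻¹) * (hh : G)⁻¹) * (((hh : G) * (g₁ * b * g₁⁻¹) * (hh : G)⁻¹) *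
        (((hh : G) * (g₁ * c * g₁⁻¹) * (hh : G)⁻¹) * ((hh : G) * (g₁ * e * g₁⁻¹) * (hh : G)⁻¹))) := by group
    _ = _ := by rw [ea, back (mv hb) hb' hk1, back (mv hc.1) hc'.1 hk2, back (mv he.1) he'.1 hk3]

end CfsgLib.ThreeTrans.TypeTop
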