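import Mathlib
import Cfsg.Agent.Lib.ThreeTrans.Tower.UnitaryCount
import Cfsg.Agent.Lib.ThreeTrans.TypeTop.DisplacedPoints

/-! Lifts of the transvections of `PSU(6,2)` to a group over it in which the relations of five members on a line
and of six members on a hyperoval hold: the lifts of the members in a maximal totally isotropic subspace generate
a copy of the group of hermitian matrices. -/

set_option autoImplicit false
set_option linter.unusedSectionVars false

namespace CfsgLib.ThreeTrans.USix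

open Matrix CfsgLib.ClassicalGroups
open scoped Pointwise

variable {F : Type*} [Field F] [Fintype F]

local notation "V" => Fin 6 → F
local notation "𝕙" => Cfsg.hermForm 6 F 2
local notation "SU₆" => Cfsg.SU 6 F 2
local notation "PSU₆" => Cfsg.PSU 6 F 2

variable {K : Type*} [Group K]

/-- Lifts of the members to a group over `PSU(6,2)`, respecting conjugation and the short relations. -/
structure Lifted (E : Set (Cfsg.PSU 6 F 2)) (ρ : K →* Cfsg.PSU 6 F 2) (L : Cfsg.PSU 6 F 2 → K) : Prop where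
  cls : TClass E
  img : ∀ a ∈ E, ρ (L a) = a
  sq : ∀ a ∈ E, L a * L a = 1
  conj : ∀ (g : K), ∀ a ∈ E, g * L a * g⁻¹ = L (ρ g * a * (ρ g)⁻¹)
  rel : ∀ l : List (Cfsg.PSU 6 F 2), l.Nodup → (l.length = 5 ∨ l.length = 6) → (∀ a ∈ l, a ∈ E) →
    (∀ a ∈ l, ∀ b ∈ l, Commute a b) → l.prod = 1 → (l.map L).prod = 1

/-- Three hyperbolic pairs. -/
structure Hyp6 (p q : Fin 3 → (Fin 6 → F)) : Prop where
  pp : ∀ i j, Cfsg.hermForm 6 F 2 (p i) (p j) = 0
  qq : ∀ i j, Cfsg.hermForm 6 F 2 (q i) (q j) = 0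
  pq : ∀ i j, Cfsg.hermForm 6 F 2 (p i) (q j) = if i = j then 1 else 0
  qp : ∀ i j, Cfsg.hermForm 6 F 2 (q i) (p j) = if i = j then 1 else 0

/-- The element above the given one acts by the given map. -/
def Acts (ρ : K →* Cfsg.PSU 6 F 2) (k : K) (f : (Fin 6 → F) → (Fin 6 → F)) : Prop :=
  ∃ A : Cfsg.SU 6 F 2, (QuotientGroup.mk A : Cfsg.PSU 6 F 2) = ρ k ∧ ∀ x, A.1.1 *ᵥ x = f x

/-- The lift of the member at a vector. -/
noncomputable def lv (L : Cfsg.PSU 6 F 2 → K) (v : Fin 6 → F) : K := L (memberAt v)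

open Classical in
/-- The lift of the off-diagonal element. -/
noncomputable def off (L : Cfsg.PSU 6 F 2 → K) (p q : Fin 6 → F) (c : F) : K :=
  if c = 0 then 1 else lv L p * lv L q * lv L (p + c • q)

open Classical in
/-- The lift of the diagonal element. -/
noncomputable def dia (L : Cfsg.PSU 6 F 2 → K) (p : Fin 6 → F) (a : Bool) : K := if a then lv L p else 1

/-- The lifts of the members with vectors in the span of three. -/
def span3 (L : Cfsg.PSU 6 F 2 → K) (p : Fin 3 → (Fin 6 → F)) : Subgroup K :=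
  Subgroup.closure {k | ∃ a b c : F, a • p 0 + b • p 1 + c • p 2 ≠ 0 ∧ lv L (a • p 0 + b • p 1 + c • p 2) = k}

theorem card_closure_le {G : Type*} [Group G] [Finite G] : ∀ (l : List G), (∀ x ∈ l, x * x = 1) →
    (∀ x ∈ l, ∀ y ∈ l, Commute x y) → Nat.card (Subgroup.closure {x | x ∈ l}) ≤ 2 ^ l.length
  | [], _, _ => by simp
  | a :: t, h2, hc => by
    classical
    have ih := card_closure_le t (fun x hx => h2 x (List.mem_cons_of_mem _ hx))
      (fun x hx y hy => hc x (List.mem_cons_of_mem _ hx) y (List.mem_cons_of_mem _ hy))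
    set H := Subgroup.closure {x | x ∈ t}
    have hset : {x | x ∈ a :: t} = insert a {x | x ∈ t} := by ext x; simp
    rw [hset, Set.insert_eq, Subgroup.closure_union, ← Subgroup.zpowers_eq_closure, List.length_cons, pow_succ, mul_comm (2 ^ _)]
    have hnorm : Subgroup.zpowers a ≤ Subgroup.normalizer (H : Set G) := by
      refine (Subgroup.zpowers_le).2 ((Subgroup.centralizer_le_normalizer _) ?_)
      show a ∈ Subgroup.centralizer (H : Set G)
      rw [Subgroup.centralizer_closure, Subgroup.mem_centralizer_iff]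
      exact fun x hx => (hc x (List.mem_cons_of_mem _ hx) a (by simp)).eq
    rw [← SetLike.coe_sort_coe, Subgroup.coe_mul_of_left_le_normalizer_right _ _ hnorm]
    calc Nat.card ↥((Subgroup.zpowers a : Set G) * (H : Set G))
        ≤ Nat.card (Subgroup.zpowers a) * Nat.card H := Set.natCard_mul_le
      _ ≤ 2 * 2 ^ t.length := by
        refine Nat.mul_le_mul ?_ ih
        rw [Nat.card_zpowers]
        exact orderOf_le_of_pow_eq_one (by norm_num) (by rw [pow_two]; exact h2 a (by simp))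

variable (hF : Fintype.card F = 2 ^ 2)
include hF

theorem exists_hyp6 : ∃ p q : Fin 3 → V, Hyp6 p q := by
  obtain ⟨w, hw0, -, hw⟩ := exists_omega hF
  have t := two_eq_zero hF
  have w3 := cube_eq_one hF hw0
  refine ⟨![![1, 1, 0, 0, 0, 0], ![0, 0, 1, 1, 0, 0], ![0, 0, 0, 0, 1, 1]],
    ![![w, w ^ 2, 0, 0, 0, 0], ![0, 0, w, w ^ 2, 0, 0], ![0, 0, 0, 0, w, w ^ 2]], ?_, ?_, ?_, ?_⟩ <;>
  · intro i j
    fin_cases i <;> fin_cases j <;> simp [herm_six] <;>
      first
        | linear_combination t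
        | linear_combination hw - t
        | linear_combination hw + w * w3 - t
        | linear_combination (w ^ 3 + 2) * w3 + t

namespace Hyp6

variable {p q : Fin 3 → (Fin 6 → F)} (hH : Hyp6 p q)
include hH

theorem coeff (a : Fin 3 → F) (j : Fin 3) : 𝕙 (a 0 • p 0 + a 1 • p 1 + a 2 • p 2) (q j) = a j := by
  rw [hermForm_add_left, hermForm_add_left, hermForm_smul_left, hermForm_smul_left, hermForm_smul_left,
    hH.pq, hH.pq, hH.pq]
  fin_cases j <;> simp

theorem inj {a b c a' b' c' : F} (h : a • p 0 + b • p 1 + c • p 2 = a' • p 0 + b' • p 1 + c' • p 2) :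
    a = a' ∧ b = b' ∧ c = c' := by
  have key : ∀ j, ![a, b, c] j = ![a', b', c'] j := fun j => by
    rw [← hH.coeff hF ![a, b, c] j, ← hH.coeff hF ![a', b', c'] j]
    simp [h]
  exact ⟨key 0, key 1, key 2⟩

theorem ne_zero {a b c : F} (h : ¬ (a = 0 ∧ b = 0 ∧ c = 0)) : a • p 0 + b • p 1 + c • p 2 ≠ 0 := fun e =>
  h (hH.inj hF (a' := 0) (b' := 0) (c' := 0) (by simpa using e))

theorem orth (a b c a' b' c' : F) :
    𝕙 (a • p 0 + b • p 1 + c • p 2) (a' • p 0 + b' • p 1 + c' • p 2) = 0 := by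
  simp [hermForm_add_left, hermForm_add_right hF, hermForm_smul_left, hermForm_smul_right, hH.pp]

theorem orth_p (i : Fin 3) (a b c : F) : 𝕙 (p i) (a • p 0 + b • p 1 + c • p 2) = 0 := by
  simp [hermForm_add_right hF, hermForm_smul_right, hH.pp]

theorem dual₁ : Hyp6 ![p 0, q 1, q 2] ![q 0, p 1, p 2] := by
  constructor <;> intro i j <;> fin_cases i <;> fin_cases j <;> simp [hH.pp, hH.qq, hH.pq, hH.qp]

theorem dual₂ : Hyp6 ![p 0, p 1, q 2] ![q 0, q 1, p 2] := by
  constructor <;> intro i j <;> fin_cases i <;> fin_cases j <;> simp [hH.pp, hH.qq, hH.pq, hH.qp]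

end Hyp6

theorem members_prod : ∀ l : List V, (∀ v ∈ l, v ≠ 0 ∧ 𝕙 v v = 0) → (∀ v ∈ l, ∀ u ∈ l, 𝕙 v u = 0) →
    ∃ A : SU₆, (QuotientGroup.mk A : PSU₆) = (l.map memberAt).prod ∧
      ∀ x, A.1.1 *ᵥ x = x + (l.map fun v => 𝕙 x v • v).sum
  | [], _, _ => ⟨1, by simp, fun x => by simp [SU_one_mulVec]⟩
  | v :: t, hiso, hperp => by
    obtain ⟨B, hB, hBx⟩ := members_prod t (fun u hu => hiso u (List.mem_cons_of_mem _ hu))
      (fun u hu u' hu' => hperp u (List.mem_cons_of_mem _ hu) u' (List.mem_cons_of_mem _ hu'))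
    obtain ⟨A, hA⟩ := exists_tvAt hF (hiso v (by simp)).1 (hiso v (by simp)).2
    refine ⟨A * B, by rw [QuotientGroup.mk_mul, hB, List.map_cons, List.prod_cons, memberAt_eq hF hA], fun x => ?_⟩
    have hzero : 𝕙 (t.map fun u => 𝕙 x u • u).sum v = 0 := by
      have hu : ∀ u ∈ t, 𝕙 u v = 0 := fun u hu => hperp u (List.mem_cons_of_mem _ hu) v (by simp)
      clear hB hBx hiso hperp hA
      induction t with
      | nil => simp [hermForm_zero_left]
      | cons u t ih =>
        rw [List.map_cons, List.sum_cons, hermForm_add_left, hermForm_smul_left, hu u (by simp),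
          ih (fun y hy => hu y (List.mem_cons_of_mem _ hy)), mul_zero, add_zero]
    rw [SU_mul_mulVec, hBx, hA.apply, hermForm_add_left, hzero, add_zero, List.map_cons, List.sum_cons]
    abel

omit hF in
theorem acts_mul {ρ : K →* PSU₆} {k k' : K} {f f' : V → V} (h : Acts ρ k f) (h' : Acts ρ k' f') :
    Acts ρ (k * k') (fun x => f (f' x)) := by
  obtain ⟨A, hA, hAx⟩ := h
  obtain ⟨B, hB, hBx⟩ := h'
  exact ⟨A * B, by rw [QuotientGroup.mk_mul, hA, hB, map_mul], fun x => by rw [SU_mul_mulVec, hBx, hAx]⟩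

omit hF in
theorem acts_one (ρ : K →* PSU₆) : Acts ρ 1 (fun x : V => x) := ⟨1, by simp, fun x => SU_one_mulVec x⟩

theorem acts_unique {ρ : K →* PSU₆} {k : K} {f g : V → V} (h : Acts ρ k f) (h' : Acts ρ k g) {v : V} (hv : v ≠ 0)
    (hf : f v = v) (hg : g v = v) : f = g := by
  obtain ⟨A, hA, hAx⟩ := h
  obtain ⟨B, hB, hBx⟩ := h'
  have hc : A⁻¹ * B ∈ Subgroup.center SU₆ := QuotientGroup.eq.1 (hA.trans hB.symm)
  have hfix : (A⁻¹ * B).1.1 *ᵥ v = v := by
    rw [SU_mul_mulVec, hBx, hg]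
    have := SU_inv_mulVec_mulVec A v
    rwa [hAx, hf] at this
  have hAB := inv_mul_eq_one.1 (center_eq_one_of_fix hF hc hv hfix)
  exact funext fun x => by rw [← hAx, ← hBx, hAB]

theorem eq_id_of_ker {ρ : K →* PSU₆} {k : K} {f : V → V} (h : Acts ρ k f) (hk : ρ k = 1) {v : V} (hv : v ≠ 0)
    (hf : f v = v) : f = id :=
  acts_unique hF h ⟨1, by simp [hk], fun x => SU_one_mulVec x⟩ hv hf rfl

namespace Lifted

variable {E : Set (Cfsg.PSU 6 F 2)} {ρ : K →* Cfsg.PSU 6 F 2} {L : Cfsg.PSU 6 F 2 → K} (hL : Lifted E ρ L)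
include hL

theorem mem {v : V} (hv0 : v ≠ 0) (hv : 𝕙 v v = 0) : memberAt v ∈ E := by
  obtain ⟨A, hA⟩ := exists_tvAt hF hv0 hv
  rw [memberAt_eq hF hA]
  exact hL.cls.hall hF hA

theorem lv_scale {v : V} (hv0 : v ≠ 0) (hv : 𝕙 v v = 0) {c : F} (hc : c ≠ 0) : lv L (c • v) = lv L v := by
  obtain ⟨A, hA⟩ := exists_tvAt hF hv0 hv
  rw [lv, lv, memberAt_eq hF hA, memberAt_eq hF (hA.scale hF hc)]

theorem lv_sq {v : V} (hv0 : v ≠ 0) (hv : 𝕙 v v = 0) : lv L v * lv L v = 1 := hL.sq _ (hL.mem hF hv0 hv)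

theorem lv_conj {g : K} {f : V → V} (hg : Acts ρ g f) {v : V} (hv0 : v ≠ 0) (hv : 𝕙 v v = 0) :
    g * lv L v * g⁻¹ = lv L (f v) := by
  obtain ⟨A, hA, hAx⟩ := hg
  obtain ⟨B, hB⟩ := exists_tvAt hF hv0 hv
  have h := hB.conj hF A
  rw [hAx] at h
  rw [lv, hL.conj g _ (hL.mem hF hv0 hv), lv, memberAt_eq hF hB, memberAt_eq hF h, ← hA, QuotientGroup.mk_mul,
    QuotientGroup.mk_mul, QuotientGroup.mk_inv]

theorem acts_lv {v : V} (hv0 : v ≠ 0) (hv : 𝕙 v v = 0) : Acts ρ (lv L v) (fun x => x + 𝕙 x v • v) := by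
  obtain ⟨A, hA⟩ := exists_tvAt hF hv0 hv
  exact ⟨A, by rw [lv, hL.img _ (hL.mem hF hv0 hv), memberAt_eq hF hA], hA.apply⟩

theorem lv_commute {v u : V} (hv0 : v ≠ 0) (hv : 𝕙 v v = 0) (hu0 : u ≠ 0) (hu : 𝕙 u u = 0) (h : 𝕙 u v = 0) :
    Commute (lv L v) (lv L u) := by
  have e := hL.lv_conj hF (hL.acts_lv hF hv0 hv) hu0 hu
  simp only [h, zero_smul, add_zero] at e
  exact mul_inv_eq_iff_eq_mul.1 e

/-- A relation of five or six commuting vectors lifts. -/
theorem relation {p q : Fin 3 → V} (hH : Hyp6 p q) {cs : List (F × F × F)} (hlen : cs.length = 5 ∨ cs.length = 6)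
    (hne : ∀ c ∈ cs, ¬ (c.1 = 0 ∧ c.2.1 = 0 ∧ c.2.2 = 0))
    (hdist : cs.Pairwise fun c d => ∀ k : F, d ≠ (k * c.1, k * c.2.1, k * c.2.2))
    (hsum : ∀ x : V, (cs.map fun c => 𝕙 x (c.1 • p 0 + c.2.1 • p 1 + c.2.2 • p 2) •
      (c.1 • p 0 + c.2.1 • p 1 + c.2.2 • p 2)).sum = 0) :
    (cs.map fun c => lv L (c.1 • p 0 + c.2.1 • p 1 + c.2.2 • p 2)).prod = 1 := by
  set vec : F × F × F → V := fun c => c.1 • p 0 + c.2.1 • p 1 + c.2.2 • p 2 with hvec
  have hiso : ∀ c ∈ cs, vec c ≠ 0 ∧ 𝕙 (vec c) (vec c) = 0 := fun c hc =>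
    ⟨hH.ne_zero hF (hne c hc), hH.orth hF _ _ _ _ _ _⟩
  have h := hL.rel ((cs.map vec).map memberAt) ?_ (by simpa using hlen) ?_ ?_ ?_
  · rw [List.map_map, List.map_map] at h
    exact h
  · rw [List.map_map, List.Nodup, List.pairwise_map]
    refine hdist.imp_of_mem fun {c d} hc hd hcd e => ?_
    obtain ⟨A, hA⟩ := exists_tvAt hF (hiso c hc).1 (hiso c hc).2
    obtain ⟨B, hB⟩ := exists_tvAt hF (hiso d hd).1 (hiso d hd).2
    simp only [Function.comp_apply, memberAt_eq hF hA, memberAt_eq hF hB] at e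
    obtain ⟨k, -, hk⟩ := (hL.cls.mk_eq_iff hF hA hB).1 e
    simp only [hvec, smul_add, smul_smul] at hk
    obtain ⟨e1, e2, e3⟩ := hH.inj hF hk
    exact hcd k (Prod.ext e1 (Prod.ext e2 e3))
  · simp only [List.map_map, List.mem_map, Function.comp_apply, forall_exists_index, and_imp]
    rintro _ c hc rfl
    exact hL.mem hF (hiso c hc).1 (hiso c hc).2
  · simp only [List.map_map, List.mem_map, Function.comp_apply, forall_exists_index, and_imp]
    rintro _ c hc rfl _ d hd rfl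
    obtain ⟨A, hA⟩ := exists_tvAt hF (hiso c hc).1 (hiso c hc).2
    obtain ⟨B, hB⟩ := exists_tvAt hF (hiso d hd).1 (hiso d hd).2
    rw [memberAt_eq hF hA, memberAt_eq hF hB, commute_mk_iff hF hA hB]
    exact hH.orth hF _ _ _ _ _ _
  · obtain ⟨A, hA, hAx⟩ := members_prod hF (cs.map vec) (fun v hv => by
      obtain ⟨c, hc, rfl⟩ := List.mem_map.1 hv; exact hiso c hc) (fun v hv u hu => by
      obtain ⟨c, -, rfl⟩ := List.mem_map.1 hv
      obtain ⟨d, -, rfl⟩ := List.mem_map.1 hu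
      exact hH.orth hF _ _ _ _ _ _)
    rw [← hA, show A = 1 from SU_ext fun x => by
      rw [hAx, SU_one_mulVec, List.map_map]
      exact (congrArg (x + ·) (hsum x)).trans (add_zero x)]
    exact QuotientGroup.mk_one _

variable {p q : Fin 3 → (Fin 6 → F)} (hH : Hyp6 p q)
include hH

theorem lv_mem_span {a b c : F} (h : ¬ (a = 0 ∧ b = 0 ∧ c = 0)) :
    lv L (a • p 0 + b • p 1 + c • p 2) ∈ span3 L p :=
  Subgroup.subset_closure ⟨a, b, c, hH.ne_zero hF h, rfl⟩

/-- The five points of a side of the triangle. -/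
theorem five {w : F} (hw0 : w ≠ 0) (hw1 : w ≠ 1) (hw : 1 + w + w ^ 2 = 0) :
    lv L (p 0) * lv L (p 1) * lv L (p 0 + p 1) * lv L (p 0 + w • p 1) * lv L (p 0 + w ^ 2 • p 1) = 1 := by
  have t := two_eq_zero hF
  have w3 := cube_eq_one hF hw0
  have h := hL.relation hF hH (cs := [(1, 0, 0), (0, 1, 0), (1, 1, 0), (1, w, 0), (1, w ^ 2, 0)])
    (Or.inl rfl) (by simp) (by
      have hw2 : w ^ 2 ≠ 1 := fun e => hw0 (by linear_combination hw - e - t)
      have hww : w ^ 2 ≠ w := fun e => hw1 (mul_right_cancel₀ hw0 (by rw [← pow_two, e, one_mul]))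
      simp [hw0, hw1, hw2, hww, Ne.symm hw1, Ne.symm hw2, Ne.symm hww, Ne.symm hw0, Ne.symm (pow_ne_zero 2 hw0)]) (fun x => by
      simp only [List.map_cons, List.map_nil, List.sum_cons, List.sum_nil, hermForm_add_right hF,
        hermForm_smul_right, one_smul, zero_smul, add_zero, zero_add, smul_add, smul_smul, one_pow, one_mul,
        zero_pow two_ne_zero, zero_mul]
      match_scalars <;> first
        | ring1
        | linear_combination 2 * 𝕙 x (p 0) * t + 𝕙 x (p 1) * (hw + w * w3)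
        | linear_combination 𝕙 x (p 0) * hw + (𝕙 x (p 1) * (w ^ 3 + 2)) * w3 + 2 * 𝕙 x (p 1) * t)
  simpa [mul_assoc] using h

/-- A hyperoval through `p 0`. -/
theorem six {w : F} (hw0 : w ≠ 0) (hw1 : w ≠ 1) (hw : 1 + w + w ^ 2 = 0) {b c : F} (hb : b ≠ 0) (hc : c ≠ 0) :
    lv L (p 0) * lv L (b • p 1 + (w * c) • p 2) * lv L (b • p 1 + (w ^ 2 * c) • p 2) * lv L (p 0 + b • p 1) *
      lv L (p 0 + c • p 2) * lv L (p 0 + b • p 1 + c • p 2) = 1 := by
  have t := two_eq_zero hF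
  have w3 := cube_eq_one hF hw0
  have b3 := cube_eq_one hF hb
  have c3 := cube_eq_one hF hc
  have h := hL.relation hF hH
    (cs := [(1, 0, 0), (0, b, w * c), (0, b, w ^ 2 * c), (1, b, 0), (1, 0, c), (1, b, c)])
    (Or.inr rfl) (by simp [hb, hc]) (by
      have hww : w ^ 2 ≠ w := fun e => hw1 (mul_right_cancel₀ hw0 (by rw [← pow_two, e, one_mul]))
      simp [hb, hc, hw0, hww, Ne.symm hww, Ne.symm hb, Ne.symm hc]) (fun x => by
      simp only [List.map_cons, List.map_nil, List.sum_cons, List.sum_nil, hermForm_add_right hF,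
        hermForm_smul_right, one_smul, zero_smul, add_zero, zero_add, smul_add, smul_smul, one_pow, one_mul,
        zero_pow two_ne_zero, zero_mul]
      match_scalars <;> first
        | linear_combination (2 * 𝕙 x (p 0) + b ^ 2 * 𝕙 x (p 1) + c ^ 2 * 𝕙 x (p 2)) * t
        | linear_combination (b * 𝕙 x (p 0) + 2 * 𝕙 x (p 1) * b * b ^ 2) * t +
            𝕙 x (p 2) * b * c ^ 2 * (hw + w * w3)
        | linear_combination (c * 𝕙 x (p 0)) * t + 𝕙 x (p 1) * b ^ 2 * c * hw +
            𝕙 x (p 2) * c * c ^ 2 * ((w ^ 3 + 2) * w3 + 2 * t))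
  simpa [mul_assoc] using h

/-- The nine generators. -/
theorem span3_le_nine [Finite K] {w : F} (hw0 : w ≠ 0) (hw1 : w ≠ 1) (hw : 1 + w + w ^ 2 = 0) :
    span3 L p ≤ Subgroup.closure {k | k ∈ [lv L (p 0), lv L (p 1), lv L (p 2), lv L (p 0 + p 1),
      lv L (p 0 + w • p 1), lv L (p 0 + p 2), lv L (p 0 + w • p 2), lv L (p 1 + p 2), lv L (p 1 + w • p 2)]} := by
  set T := Subgroup.closure {k | k ∈ [lv L (p 0), lv L (p 1), lv L (p 2), lv L (p 0 + p 1),
      lv L (p 0 + w • p 1), lv L (p 0 + p 2), lv L (p 0 + w • p 2), lv L (p 1 + p 2), lv L (p 1 + w • p 2)]}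
  have hperm : ∀ (e : Fin 3 ≃ Fin 3), Hyp6 (p ∘ e) (q ∘ e) := fun e =>
    ⟨fun i j => hH.pp _ _, fun i j => hH.qq _ _, fun i j => by simp [hH.pq], fun i j => by simp [hH.qp]⟩
  have pair : ∀ {u v : V}, lv L u * lv L v * lv L (u + v) * lv L (u + w • v) * lv L (u + w ^ 2 • v) = 1 →
      lv L u ∈ T → lv L v ∈ T → lv L (u + v) ∈ T → lv L (u + w • v) ∈ T →
      ∀ t : F, t ≠ 0 → lv L (u + t • v) ∈ T := by
    intro u v h h1 h2 h3 h4 t ht
    rcases omega_cases hF hw1 hw ht with e | e | e <;> rw [e]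
    · rw [one_smul]; exact h3
    · exact h4
    · rw [eq_inv_of_mul_eq_one_right h]
      exact inv_mem (mul_mem (mul_mem (mul_mem h1 h2) h3) h4)
  have g0 : lv L (p 0) ∈ T := Subgroup.subset_closure (by simp)
  have g1 : lv L (p 1) ∈ T := Subgroup.subset_closure (by simp)
  have g2 : lv L (p 2) ∈ T := Subgroup.subset_closure (by simp)
  have t01 := pair (hL.five hF hH hw0 hw1 hw) g0 g1 (Subgroup.subset_closure (by simp))
    (Subgroup.subset_closure (by simp))
  have f02 := hL.five hF (hperm (Equiv.swap 1 2)) hw0 hw1 hw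
  have f12 := hL.five hF (hperm (finRotate 3)) hw0 hw1 hw
  simp [Equiv.swap_apply_of_ne_of_ne] at f02 f12
  have t02 := pair f02 g0 g2
    (Subgroup.subset_closure (by simp)) (Subgroup.subset_closure (by simp))
  have t12 := pair f12 g1 g2
    (Subgroup.subset_closure (by simp)) (Subgroup.subset_closure (by simp))
  have hiso : ∀ {a b c : F}, ¬ (a = 0 ∧ b = 0 ∧ c = 0) →
      a • p 0 + b • p 1 + c • p 2 ≠ 0 ∧ 𝕙 (a • p 0 + b • p 1 + c • p 2) (a • p 0 + b • p 1 + c • p 2) = 0 :=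
    fun h => ⟨hH.ne_zero hF h, hH.orth hF _ _ _ _ _ _⟩
  -- vectors with a leading one
  have lead : ∀ b c : F, lv L (p 0 + b • p 1 + c • p 2) ∈ T := by
    intro b c
    by_cases hb : b = 0
    · subst hb
      by_cases hc : c = 0
      · simpa [hc] using g0
      · simpa using t02 c hc
    by_cases hc : c = 0
    · simpa [hc] using t01 b hb
    have e : ∀ d : F, lv L (b • p 1 + d • p 2) = lv L (p 1 + (d / b) • p 2) := fun d => by
      obtain ⟨h1, h2⟩ := hiso (a := 0) (b := 1) (c := d / b) (by simp)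
      simp only [zero_smul, zero_add, one_smul] at h1 h2
      rw [← hL.lv_scale hF h1 h2 hb, smul_add, smul_smul, mul_div_cancel₀ _ hb]
    have h := hL.six hF hH hw0 hw1 hw hb hc
    rw [eq_inv_of_mul_eq_one_right h]
    refine inv_mem (mul_mem (mul_mem (mul_mem (mul_mem g0 ?_) ?_) (t01 b hb)) (t02 c hc))
    · rw [e]; exact t12 _ (div_ne_zero (mul_ne_zero hw0 hc) hb)
    · rw [e]; exact t12 _ (div_ne_zero (mul_ne_zero (pow_ne_zero 2 hw0) hc) hb)
  refine (Subgroup.closure_le _).2 ?_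
  rintro _ ⟨a, b, c, hne, rfl⟩
  by_cases ha : a = 0
  · subst ha
    by_cases hb : b = 0
    · subst hb
      have hc : c ≠ 0 := fun e => hne (by simp [e])
      obtain ⟨h1, h2⟩ := hiso (a := 0) (b := 0) (c := 1) (by simp)
      simp only [zero_smul, zero_add, one_smul] at h1 h2 ⊢
      rw [hL.lv_scale hF h1 h2 hc]; exact g2
    obtain ⟨h1, h2⟩ := hiso (a := 0) (b := 1) (c := c / b) (by simp)
    simp only [zero_smul, zero_add, one_smul] at h1 h2 ⊢
    rw [show b • p 1 + c • p 2 = b • (p 1 + (c / b) • p 2) by rw [smul_add, smul_smul, mul_div_cancel₀ _ hb],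
      hL.lv_scale hF h1 h2 hb]
    by_cases hc : c / b = 0
    · simpa [hc] using g1
    · exact t12 _ hc
  obtain ⟨h1, h2⟩ := hiso (a := 1) (b := b / a) (c := c / a) (by simp)
  simp only [one_smul] at h1 h2
  rw [show a • p 0 + b • p 1 + c • p 2 = a • (p 0 + (b / a) • p 1 + (c / a) • p 2) by
    simp only [smul_add, smul_smul, mul_div_cancel₀ _ ha], hL.lv_scale hF h1 h2 ha]
  exact lead _ _

theorem card_span3 [Finite K] : Nat.card (span3 L p) ≤ 2 ^ 9 := by
  obtain ⟨w, hw0, hw1, hw⟩ := exists_omega hF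
  refine (Subgroup.card_le_of_le (hL.span3_le_nine hF hH hw0 hw1 hw)).trans ?_
  have hiso : ∀ {a b c : F}, ¬ (a = 0 ∧ b = 0 ∧ c = 0) →
      a • p 0 + b • p 1 + c • p 2 ≠ 0 ∧ 𝕙 (a • p 0 + b • p 1 + c • p 2) (a • p 0 + b • p 1 + c • p 2) = 0 :=
    fun h => ⟨hH.ne_zero hF h, hH.orth hF _ _ _ _ _ _⟩
  set cs : List (F × F × F) := [(1, 0, 0), (0, 1, 0), (0, 0, 1), (1, 1, 0), (1, w, 0), (1, 0, 1), (1, 0, w),
    (0, 1, 1), (0, 1, w)] with hcs
  have e : [lv L (p 0), lv L (p 1), lv L (p 2), lv L (p 0 + p 1), lv L (p 0 + w • p 1), lv L (p 0 + p 2),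
      lv L (p 0 + w • p 2), lv L (p 1 + p 2), lv L (p 1 + w • p 2)] =
      cs.map fun c => lv L (c.1 • p 0 + c.2.1 • p 1 + c.2.2 • p 2) := by simp [hcs]
  have hne : ∀ c ∈ cs, ¬ (c.1 = 0 ∧ c.2.1 = 0 ∧ c.2.2 = 0) := by simp [hcs]
  rw [e]
  refine (card_closure_le _ ?_ ?_).trans (by simp [hcs])
  · intro x hx
    obtain ⟨c, hc, rfl⟩ := List.mem_map.1 hx
    exact hL.lv_sq hF (hiso (hne c hc)).1 (hiso (hne c hc)).2
  · intro x hx y hy
    obtain ⟨c, hc, rfl⟩ := List.mem_map.1 hx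
    obtain ⟨d, hd, rfl⟩ := List.mem_map.1 hy
    exact hL.lv_commute hF (hiso (hne c hc)).1 (hiso (hne c hc)).2 (hiso (hne d hd)).1 (hiso (hne d hd)).2
      (hH.orth hF _ _ _ _ _ _)

omit hH in
theorem acts_off {u v : V} (hu0 : u ≠ 0) (hu : 𝕙 u u = 0) (hv0 : v ≠ 0) (hv : 𝕙 v v = 0) (huv : 𝕙 u v = 0)
    (c : F) (hne : c ≠ 0 → u + c • v ≠ 0) :
    Acts ρ (off L u v c) (fun x => x + (c ^ 2 * 𝕙 x v) • u + (c * 𝕙 x u) • v) := by
  have hvu : 𝕙 v u = 0 := herm_zero_symm hF huv
  by_cases hc : c = 0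
  · subst hc
    simpa [off] using acts_one (F := F) ρ
  have hs : 𝕙 (u + c • v) (u + c • v) = 0 := by
    simp [hermForm_add_left, hermForm_add_right hF, hermForm_smul_left, hermForm_smul_right, hu, hv, huv, hvu]
  rw [off, if_neg hc]
  convert acts_mul (acts_mul (hL.acts_lv hF hu0 hu) (hL.acts_lv hF hv0 hv)) (hL.acts_lv hF (hne hc) hs) using 1
  funext x
  simp only [hermForm_add_left, hermForm_add_right hF, hermForm_smul_left, hermForm_smul_right, hu, hv, huv, hvu,
    mul_zero, add_zero, smul_add, smul_smul, add_mul]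
  have t := two_eq_zero hF
  have c3 := cube_eq_one hF hc
  match_scalars <;> first
    | ring1
    | linear_combination -(𝕙 x u) * t
    | linear_combination 𝕙 x u * t
    | linear_combination -(𝕙 x v) * c3 - 𝕙 x v * t

theorem off_mem_span {i j : Fin 3} (hij : i ≠ j) (c : F) : off L (p i) (p j) c ∈ span3 L p := by
  have single : ∀ k : Fin 3, lv L (p k) ∈ span3 L p := by
    intro k
    fin_cases k
    · simpa using hL.lv_mem_span hF hH (a := 1) (b := 0) (c := 0) (by simp)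
    · simpa using hL.lv_mem_span hF hH (a := 0) (b := 1) (c := 0) (by simp)
    · simpa using hL.lv_mem_span hF hH (a := 0) (b := 0) (c := 1) (by simp)
  rw [off]
  split_ifs with hc
  · exact one_mem _
  refine mul_mem (mul_mem (single i) (single j)) ?_
  fin_cases i <;> fin_cases j <;> simp only [ne_eq, not_true_eq_false] at hij
  · simpa using hL.lv_mem_span hF hH (a := 1) (b := c) (c := 0) (by simp)
  · simpa using hL.lv_mem_span hF hH (a := 1) (b := 0) (c := c) (by simp)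
  · simpa [add_comm] using hL.lv_mem_span hF hH (a := c) (b := 1) (c := 0) (by simp)
  · simpa using hL.lv_mem_span hF hH (a := 0) (b := 1) (c := c) (by simp)
  · simpa [add_comm] using hL.lv_mem_span hF hH (a := c) (b := 0) (c := 1) (by simp)
  · simpa [add_comm] using hL.lv_mem_span hF hH (a := 0) (b := c) (c := 1) (by simp)

/-- An element of the span fixes the three vectors and moves the others by multiples of them. -/
theorem span3_acts [Finite K] {k : K} (hk : k ∈ span3 L p) :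
    ∃ f : V → V, Acts ρ k f ∧ ∀ i, f (p i) = p i := by
  rw [← Subgroup.mem_toSubmonoid, span3, Subgroup.closure_toSubmonoid_of_finite] at hk
  induction hk using Submonoid.closure_induction with
  | mem y hy =>
    obtain ⟨a, b, c, hne, rfl⟩ := hy
    refine ⟨_, hL.acts_lv hF hne (hH.orth hF _ _ _ _ _ _), fun i => ?_⟩
    rw [hH.orth_p hF, zero_smul, add_zero]
  | one => exact ⟨id, acts_one ρ, fun i => rfl⟩
  | mul y z _ _ hy hz =>
    obtain ⟨f, hf, hfp⟩ := hy
    obtain ⟨g, hg, hgp⟩ := hz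
    exact ⟨_, acts_mul hf hg, fun i => by simp [hfp, hgp]⟩

/-- The 512 elements of the span. -/
noncomputable def param (L : Cfsg.PSU 6 F 2 → K) (p : Fin 3 → (Fin 6 → F)) (d : (Bool × Bool × Bool) × F × F × F) : K :=
  dia L (p 0) d.1.1 * dia L (p 1) d.1.2.1 * dia L (p 2) d.1.2.2 *
    off L (p 0) (p 1) d.2.1 * off L (p 0) (p 2) d.2.2.1 * off L (p 1) (p 2) d.2.2.2

theorem single_ne (i : Fin 3) : p i ≠ 0 := fun e => by
  have h := hH.pq i i
  rw [e, hermForm_zero_left, if_pos rfl] at h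
  exact zero_ne_one h

theorem add_ne {i j : Fin 3} (hij : i ≠ j) (c : F) : p i + c • p j ≠ 0 := fun e => by
  have h : 𝕙 (p i + c • p j) (q i) = 0 := by rw [e, hermForm_zero_left]
  rw [hermForm_add_left, hermForm_smul_left, hH.pq, hH.pq, if_pos rfl, if_neg hij.symm, mul_zero, add_zero] at h
  exact one_ne_zero h

theorem acts_param [Finite K] (d : (Bool × Bool × Bool) × F × F × F) :
    ∃ f : V → V, Acts ρ (param L p d) f ∧ (∀ i, f (p i) = p i) ∧
      f (q 0) = q 0 + (if d.1.1 then (1 : F) else 0) • p 0 + d.2.1 • p 1 + d.2.2.1 • p 2 ∧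
      f (q 1) = q 1 + d.2.1 ^ 2 • p 0 + (if d.1.2.1 then (1 : F) else 0) • p 1 + d.2.2.2 • p 2 ∧
      f (q 2) = q 2 + d.2.2.1 ^ 2 • p 0 + d.2.2.2 ^ 2 • p 1 + (if d.1.2.2 then (1 : F) else 0) • p 2 := by
  obtain ⟨⟨a, b, e⟩, x, y, z⟩ := d
  have hdia : ∀ (i : Fin 3) (a : Bool),
      Acts ρ (dia L (p i) a) (fun v => v + (if a then 𝕙 v (p i) else 0) • p i) := by
    intro i a
    cases a
    · simpa [dia] using acts_one (F := F) ρ
    · simpa [dia] using hL.acts_lv hF (hL.single_ne hF hH i) (hH.pp i i)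
  have hoff : ∀ (i j : Fin 3), i ≠ j → ∀ c : F, Acts ρ (off L (p i) (p j) c)
      (fun v => v + (c ^ 2 * 𝕙 v (p j)) • p i + (c * 𝕙 v (p i)) • p j) := fun i j hij c =>
    hL.acts_off hF (hL.single_ne hF hH i) (hH.pp i i) (hL.single_ne hF hH j) (hH.pp j j) (hH.pp i j) c
      fun _ => hL.add_ne hF hH hij c
  refine ⟨_, acts_mul (acts_mul (acts_mul (acts_mul (acts_mul (hdia 0 a) (hdia 1 b)) (hdia 2 e))
    (hoff 0 1 (by decide) x)) (hoff 0 2 (by decide) y)) (hoff 1 2 (by decide) z), fun i => ?_, ?_, ?_, ?_⟩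
  · simp [hermForm_add_left, hermForm_smul_left, hH.pp]
  all_goals
    simp [hermForm_add_left, hermForm_smul_left, hH.pp, hH.qp, mul_comm]
    cases a <;> cases b <;> cases e <;>
      simp [hermForm_zero_left, hermForm_smul_left, hH.pp] <;> module

theorem param_inj [Finite K] {d d' : (Bool × Bool × Bool) × F × F × F}
    (h : ρ (param L p d) = ρ (param L p d')) : d = d' := by
  obtain ⟨f, hf, hfp, f0, f1, f2⟩ := hL.acts_param hF hH d
  obtain ⟨g, hg, hgp, g0, g1, g2⟩ := hL.acts_param hF hH d'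
  have hfg : f = g := by
    refine acts_unique hF hf ?_ (hL.single_ne hF hH 0) (hfp 0) (hgp 0)
    obtain ⟨A, hA, hAx⟩ := hg
    exact ⟨A, hA.trans h.symm, hAx⟩
  subst hfg
  have key : ∀ {a b c a' b' c' : F} {v : V},
      v + a • p 0 + b • p 1 + c • p 2 = v + a' • p 0 + b' • p 1 + c' • p 2 → a = a' ∧ b = b' ∧ c = c' := by
    intro a b c a' b' c' v h
    exact hH.inj hF (by linear_combination (norm := module) h)
  obtain ⟨a0, x0, y0⟩ := key (f0.symm.trans g0)
  obtain ⟨-, b0, z0⟩ := key (f1.symm.trans g1)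
  obtain ⟨-, -, e0⟩ := key (f2.symm.trans g2)
  have hb : ∀ {a a' : Bool}, (if a then (1 : F) else 0) = (if a' then (1 : F) else 0) → a = a' := by
    intro a a'; cases a <;> cases a' <;> simp
  exact Prod.ext (Prod.ext (hb a0) (Prod.ext (hb b0) (hb e0))) (Prod.ext x0 (Prod.ext y0 z0))

theorem param_mem [Finite K] (d : (Bool × Bool × Bool) × F × F × F) : param L p d ∈ span3 L p := by
  obtain ⟨⟨a, b, e⟩, x, y, z⟩ := d
  have hd : ∀ (i : Fin 3) (a : Bool), dia L (p i) a ∈ span3 L p := by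
    intro i a
    rw [dia]
    split_ifs
    · fin_cases i
      · simpa using hL.lv_mem_span hF hH (a := 1) (b := 0) (c := 0) (by simp)
      · simpa using hL.lv_mem_span hF hH (a := 0) (b := 1) (c := 0) (by simp)
      · simpa using hL.lv_mem_span hF hH (a := 0) (b := 0) (c := 1) (by simp)
    · exact one_mem _
  exact mul_mem (mul_mem (mul_mem (mul_mem (mul_mem (hd 0 a) (hd 1 b)) (hd 2 e))
    (hL.off_mem_span hF hH (by decide) x)) (hL.off_mem_span hF hH (by decide) y))
    (hL.off_mem_span hF hH (by decide) z)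

/-- The span maps injectively, and has order 512. -/
theorem span3_main [Finite K] : (∀ k ∈ span3 L p, ρ k = 1 → k = 1) ∧ Nat.card (span3 L p) = 2 ^ 9 := by
  classical
  haveI := Fintype.ofFinite K
  let f : (Bool × Bool × Bool) × F × F × F → span3 L p := fun d => ⟨_, hL.param_mem hF hH d⟩
  have hf : Function.Injective f := fun d d' h => hL.param_inj hF hH (congrArg ρ (congrArg Subtype.val h : param L p d = param L p d'))
  have hcard : Nat.card ((Bool × Bool × Bool) × F × F × F) = 2 ^ 9 := by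
    simp [Nat.card_eq_fintype_card, hF]
  have hge := Nat.card_le_card_of_injective f hf
  have hle := hL.card_span3 hF hH
  have hsur := (Nat.bijective_iff_injective_and_card f).2 ⟨hf, by omega⟩
  refine ⟨fun k hk h1 => ?_, by omega⟩
  obtain ⟨d, hd⟩ := hsur.2 ⟨k, hk⟩
  obtain ⟨d₁, hd₁⟩ := hsur.2 1
  have e : d = d₁ := hL.param_inj hF hH (by
    rw [show param L p d = k from congrArg Subtype.val hd, h1,
      show param L p d₁ = 1 from congrArg Subtype.val hd₁, map_one])
  rw [show k = param L p d from (congrArg Subtype.val hd).symm, e]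
  exact congrArg Subtype.val hd₁

/-- An element of the span is an involution. -/
theorem span3_sq [Finite K] {k : K} (hk : k ∈ span3 L p) : k * k = 1 := by
  have hc : ∀ x ∈ span3 L p, ∀ y ∈ span3 L p, Commute x y := by
    intro x hx y hy
    have hle : span3 L p ≤ Subgroup.centralizer (span3 L p : Set K) := by
      refine (Subgroup.closure_le _).2 ?_
      rintro _ ⟨a, b, c, hne, rfl⟩
      rw [SetLike.mem_coe, span3, Subgroup.centralizer_closure, Subgroup.mem_centralizer_iff]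
      rintro _ ⟨a', b', c', hne', rfl⟩
      exact (hL.lv_commute hF hne' (hH.orth hF _ _ _ _ _ _) hne (hH.orth hF _ _ _ _ _ _)
        (hH.orth hF _ _ _ _ _ _)).eq
    exact (Subgroup.mem_centralizer_iff.1 (hle hy) x hx)
  induction hk using Subgroup.closure_induction with
  | mem y hy => obtain ⟨a, b, c, hne, rfl⟩ := hy; exact hL.lv_sq hF hne (hH.orth hF _ _ _ _ _ _)
  | one => exact one_mul 1
  | mul y z hy' hz' hy hz =>
    rw [mul_assoc, ← mul_assoc z, (hc z hz' y hy').eq, mul_assoc, hz, mul_one, hy]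
  | inv y _ hy => rw [← _root_.mul_inv_rev, hy, inv_one]

/-- An element acting on the span of the three vectors normalises the subgroup. -/
theorem normal [Finite K] {g : K} {f : V → V} (hg : Acts ρ g f)
    (hf : ∀ i, ∃ a b c : F, f (p i) = a • p 0 + b • p 1 + c • p 2) :
    g ∈ Subgroup.normalizer (span3 L p : Set K) := by
  haveI := Fintype.ofFinite K
  refine Subgroup.mem_normalizer_fintype fun n hn => ?_
  have hmap : span3 L p ≤ (span3 L p).comap (MulAut.conj g).toMonoidHom := by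
    refine (Subgroup.closure_le _).2 ?_
    rintro _ ⟨a, b, c, hne, rfl⟩
    show g * lv L (a • p 0 + b • p 1 + c • p 2) * g⁻¹ ∈ span3 L p
    rw [hL.lv_conj hF hg hne (hH.orth hF _ _ _ _ _ _)]
    obtain ⟨A, hA, hAx⟩ := hg
    obtain ⟨a0, b0, c0, h0⟩ := hf 0
    obtain ⟨a1, b1, c1, h1⟩ := hf 1
    obtain ⟨a2, b2, c2, h2⟩ := hf 2
    have hlin : f (a • p 0 + b • p 1 + c • p 2) = (a * a0 + b * a1 + c * a2) • p 0 +
        (a * b0 + b * b1 + c * b2) • p 1 + (a * c0 + b * c1 + c * c2) • p 2 := by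
      rw [← hAx, Matrix.mulVec_add, Matrix.mulVec_add, Matrix.mulVec_smul, Matrix.mulVec_smul, Matrix.mulVec_smul,
        hAx, hAx, hAx, h0, h1, h2]
      module
    rw [hlin]
    refine hL.lv_mem_span hF hH fun h => hne ?_
    have hz : f (a • p 0 + b • p 1 + c • p 2) = 0 := by rw [hlin, h.1, h.2.1, h.2.2]; simp
    rw [← SU_inv_mulVec_mulVec A (a • p 0 + b • p 1 + c • p 2), hAx, hz, Matrix.mulVec_zero]
  exact hmap hn

end Lifted

end CfsgLib.ThreeTrans.USix
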