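import Mathlib
import Cfsg.Agent.Lib.ThreeTrans.TypeTop.CoverUnipotent
import Cfsg.Agent.Lib.ThreeTrans.Tower.Orders

/-! A central extension of `PSU(6,2)` by a group of order two in which the short relations between commuting
members hold is split: a Sylow 2-subgroup has a complement to the kernel, so transfer separates the kernel. -/

set_option autoImplicit false
set_option linter.unusedSectionVars false

namespace CfsgLib.ThreeTrans.USix

open Matrix CfsgLib.ClassicalGroups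
open scoped Pointwise

variable {F : Type*} [Field F] [Fintype F]

local notation "V" => Fin 6 → F
local notation "𝕙" => Cfsg.hermForm 6 F 2
local notation "PSU₆" => Cfsg.PSU 6 F 2

variable {K : Type*} [Group K]

variable (hF : Fintype.card F = 2 ^ 2)
include hF

namespace Lifted

variable {E : Set (Cfsg.PSU 6 F 2)} {ρ : K →* Cfsg.PSU 6 F 2} {L : Cfsg.PSU 6 F 2 → K} (hL : Lifted E ρ L)
include hL

theorem span3_isPGroup [Finite K] {p q : Fin 3 → V} (hH : Hyp6 p q) : IsPGroup 2 (span3 L p) := fun k =>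
  ⟨1, Subtype.ext (by simp [pow_two, hL.span3_sq hF hH k.2])⟩

/-- A complement to the kernel in a Sylow 2-subgroup. -/
theorem exists_complement [Finite K] :
    ∃ P : Subgroup K, IsPGroup 2 P ∧ (∀ k ∈ P, ρ k = 1 → k = 1) ∧ 2 ^ 15 ≤ Nat.card P := by
  classical
  obtain ⟨p, q, hH⟩ := exists_hyp6 hF (F := F)
  have h1 := hH.dual₁ hF
  have h2 := hH.dual₂ hF
  obtain ⟨inj0, card0⟩ := hL.span3_main hF hH
  obtain ⟨inj1, -⟩ := hL.span3_main hF h1
  obtain ⟨inj2, -⟩ := hL.span3_main hF h2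
  have p0 := hL.single_ne hF hH 0
  have hq : ∀ i, q i ≠ 0 := fun i e => by
    have h := hH.qp i i
    rw [e, hermForm_zero_left, if_pos rfl] at h
    exact zero_ne_one h
  have hp := hL.single_ne hF hH
  let f01 : F → V → V := fun s x => x + (s ^ 2 * 𝕙 x (q 1)) • p 0 + (s * 𝕙 x (p 0)) • q 1
  let f02 : F → V → V := fun s x => x + (s ^ 2 * 𝕙 x (q 2)) • p 0 + (s * 𝕙 x (p 0)) • q 2
  let f12 : F → V → V := fun s x => x + (s ^ 2 * 𝕙 x (q 2)) • p 1 + (s * 𝕙 x (p 1)) • q 2
  have a01 : ∀ s, Acts ρ (off L (p 0) (q 1) s) (f01 s) := fun s =>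
    hL.acts_off hF p0 (hH.pp 0 0) (hq 1) (hH.qq 1 1) (by simpa using hH.pq 0 1) s
      fun _ => by simpa using hL.add_ne hF h1 (i := 0) (j := 1) (by decide) s
  have a02 : ∀ s, Acts ρ (off L (p 0) (q 2) s) (f02 s) := fun s =>
    hL.acts_off hF p0 (hH.pp 0 0) (hq 2) (hH.qq 2 2) (by simpa using hH.pq 0 2) s
      fun _ => by simpa using hL.add_ne hF h1 (i := 0) (j := 2) (by decide) s
  have a12 : ∀ s, Acts ρ (off L (p 1) (q 2) s) (f12 s) := fun s =>
    hL.acts_off hF (hp 1) (hH.pp 1 1) (hq 2) (hH.qq 2 2) (by simpa using hH.pq 1 2) s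
      fun _ => by simpa using hL.add_ne hF h2 (i := 1) (j := 2) (by decide) s
  have m01 : ∀ s, off L (p 0) (q 1) s ∈ span3 L ![p 0, q 1, q 2] := fun s => by
    simpa using hL.off_mem_span hF h1 (i := 0) (j := 1) (by decide) s
  have m02 : ∀ s, off L (p 0) (q 2) s ∈ span3 L ![p 0, q 1, q 2] := fun s => by
    simpa using hL.off_mem_span hF h1 (i := 0) (j := 2) (by decide) s
  have m12 : ∀ s, off L (p 1) (q 2) s ∈ span3 L ![p 0, p 1, q 2] := fun s => by
    simpa using hL.off_mem_span hF h2 (i := 1) (j := 2) (by decide) s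
  have sadd : ∀ a b : F, (a + b) ^ 2 = a ^ 2 + b ^ 2 := sq_add hF
  -- the two abelian pieces of the Levi part
  have lift1 : ∀ {k k' : K} {f : V → V}, k ∈ span3 L ![p 0, q 1, q 2] → k' ∈ span3 L ![p 0, q 1, q 2] →
      Acts ρ k f → Acts ρ k' f → k = k' := by
    intro k k' f hk hk' h h'
    obtain ⟨A, hA, hAx⟩ := h
    obtain ⟨B, hB, hBx⟩ := h'
    refine inv_mul_eq_one.1 (inj1 _ (mul_mem (inv_mem hk) hk') ?_)
    rw [map_mul, map_inv, ← hA, ← hB, SU_ext (g := A) (h := B) fun x => by rw [hAx, hBx], inv_mul_cancel]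
  have comp1 : ∀ s t s' t' : F, off L (p 0) (q 1) s * off L (p 0) (q 2) t *
      (off L (p 0) (q 1) s' * off L (p 0) (q 2) t') = off L (p 0) (q 1) (s + s') * off L (p 0) (q 2) (t + t') := by
    intro s t s' t'
    refine lift1 (mul_mem (mul_mem (m01 _) (m02 _)) (mul_mem (m01 _) (m02 _))) (mul_mem (m01 _) (m02 _))
      (acts_mul (acts_mul (a01 s) (a02 t)) (acts_mul (a01 s') (a02 t'))) ?_
    convert acts_mul (a01 (s + s')) (a02 (t + t')) using 1
    funext x
    simp [f01, f02, hermForm_add_left, hermForm_smul_left, hH.pp, hH.qq, hH.pq, hH.qp, sadd]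
    module
  have zero : ∀ u v : V, off L u v 0 = 1 := fun u v => by simp [off]
  let X1 : Subgroup K :=
    { carrier := Set.range fun st : F × F => off L (p 0) (q 1) st.1 * off L (p 0) (q 2) st.2
      one_mem' := ⟨(0, 0), by simp [zero]⟩
      mul_mem' := by rintro _ _ ⟨⟨s, t⟩, rfl⟩ ⟨⟨s', t'⟩, rfl⟩; exact ⟨(s + s', t + t'), (comp1 s t s' t').symm⟩
      inv_mem' := by
        rintro _ ⟨⟨s, t⟩, rfl⟩
        exact ⟨(s, t), eq_inv_of_mul_eq_one_left (hL.span3_sq hF h1 (mul_mem (m01 s) (m02 t)))⟩ }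
  have comp2 : ∀ u u' : F, off L (p 1) (q 2) u * off L (p 1) (q 2) u' = off L (p 1) (q 2) (u + u') := by
    intro u u'
    have hk := mul_mem (mul_mem (m12 u) (m12 u')) (inv_mem (m12 (u + u')))
    refine mul_inv_eq_one.1 (inj2 _ hk ?_)
    obtain ⟨A, hA, hAx⟩ := acts_mul (a12 u) (a12 u')
    obtain ⟨B, hB, hBx⟩ := a12 (u + u')
    rw [map_mul, map_inv, ← hA, ← hB, SU_ext (g := A) (h := B) fun x => ?_, mul_inv_cancel]
    rw [hAx, hBx]
    simp [f12, hermForm_add_left, hermForm_smul_left, hH.pp, hH.qq, hH.pq, hH.qp, sadd]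
    module
  let X3 : Subgroup K :=
    { carrier := Set.range fun u : F => off L (p 1) (q 2) u
      one_mem' := ⟨0, by simp [zero]⟩
      mul_mem' := by rintro _ _ ⟨u, rfl⟩ ⟨u', rfl⟩; exact ⟨u + u', (comp2 u u').symm⟩
      inv_mem' := by rintro _ ⟨u, rfl⟩; exact ⟨u, eq_inv_of_mul_eq_one_left (hL.span3_sq hF h2 (m12 u))⟩ }
  have hX1 : X1 ≤ span3 L ![p 0, q 1, q 2] := by rintro _ ⟨⟨s, t⟩, rfl⟩; exact mul_mem (m01 s) (m02 t)
  have hX3 : X3 ≤ span3 L ![p 0, p 1, q 2] := by rintro _ ⟨u, rfl⟩; exact m12 u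
  have n31 : X3 ≤ Subgroup.normalizer (X1 : Set K) := by
    rintro _ ⟨u, rfl⟩
    haveI := Fintype.ofFinite K
    refine Subgroup.mem_normalizer_fintype fun n hn => ?_
    obtain ⟨⟨s, t⟩, rfl⟩ := hn
    refine ⟨(s, t + s * u), lift1 (mul_mem (m01 _) (m02 _)) ?_ (acts_mul (a01 _) (a02 _)) ?_⟩
    · exact (Subgroup.mem_normalizer_iff.1 (hL.normal hF h1 (a12 u) fun i => by
        fin_cases i
        · exact ⟨1, 0, 0, by simp [f12, hH.pp, hH.pq]⟩
        · exact ⟨0, 1, u, by simp [f12, hH.qq, hH.qp]⟩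
        · exact ⟨0, 0, 1, by simp [f12, hH.qq, hH.qp]⟩) _).1 (mul_mem (m01 s) (m02 t))
    · have hinv := eq_inv_of_mul_eq_one_left (hL.span3_sq hF h2 (m12 u))
      show Acts ρ (off L (p 1) (q 2) u * (off L (p 0) (q 1) s * off L (p 0) (q 2) t) * (off L (p 1) (q 2) u)⁻¹) _
      rw [← hinv]
      convert acts_mul (acts_mul (a12 u) (acts_mul (a01 s) (a02 t))) (a12 u) using 1
      funext x
      have t2 := two_eq_zero hF
      simp [f01, f02, f12, hermForm_add_left, hermForm_smul_left, hH.pp, hH.qq, hH.pq, hH.qp, sadd, mul_pow]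
      match_scalars <;> grind
  set X := X1 ⊔ X3 with hXdef
  have hXcoe : (X : Set K) = (X3 : Set K) * X1 := by
    rw [hXdef, sup_comm, Subgroup.coe_mul_of_left_le_normalizer_right _ _ n31]
  -- the elements of the Levi part
  have hXelem : ∀ k ∈ X, ∃ s t u : F, k = off L (p 1) (q 2) u * (off L (p 0) (q 1) s * off L (p 0) (q 2) t) := by
    intro k hk
    rw [← SetLike.mem_coe, hXcoe] at hk
    obtain ⟨_, ⟨u, rfl⟩, _, ⟨⟨s, t⟩, rfl⟩, rfl⟩ := hk
    exact ⟨s, t, u, rfl⟩
  let g : F → F → F → V → V := fun s t u x => f12 u (f01 s (f02 t x))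
  have hg : ∀ s t u : F, g s t u (p 0) = p 0 ∧ g s t u (p 1) = p 1 + s ^ 2 • p 0 ∧
      g s t u (p 2) = p 2 + u ^ 2 • p 1 + t ^ 2 • p 0 := by
    intro s t u
    refine ⟨?_, ?_, ?_⟩ <;>
      simp [g, f01, f02, f12, hermForm_add_left, hermForm_smul_left, hH.pp, hH.qq, hH.pq, hH.qp] <;> module
  have nX : X ≤ Subgroup.normalizer (span3 L p : Set K) := by
    intro k hk
    obtain ⟨s, t, u, rfl⟩ := hXelem k hk
    obtain ⟨e0, e1, e2⟩ := hg s t u
    refine hL.normal hF hH (acts_mul (a12 u) (acts_mul (a01 s) (a02 t))) fun i => ?_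
    fin_cases i
    · exact ⟨1, 0, 0, by simpa [g] using e0⟩
    · exact ⟨s ^ 2, 1, 0, e1.trans (by module)⟩
    · exact ⟨t ^ 2, u ^ 2, 1, e2.trans (by module)⟩
  have hXp : IsPGroup 2 X := by
    rw [hXdef, sup_comm]
    exact IsPGroup.to_sup_of_normal_right' ((hL.span3_isPGroup hF h2).to_le hX3)
      ((hL.span3_isPGroup hF h1).to_le hX1) n31
  refine ⟨X ⊔ span3 L p, IsPGroup.to_sup_of_normal_right' hXp (hL.span3_isPGroup hF hH) nX, ?_, ?_⟩
  · intro k hk h1k
    rw [← SetLike.mem_coe, Subgroup.coe_mul_of_left_le_normalizer_right _ _ nX] at hk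
    obtain ⟨x, hx, a, ha, rfl⟩ := hk
    obtain ⟨s, t, u, rfl⟩ := hXelem x hx
    obtain ⟨e0, e1, e2⟩ := hg s t u
    obtain ⟨fa, hfa, hfp⟩ := hL.span3_acts hF hH ha
    have hid := eq_id_of_ker hF (acts_mul (acts_mul (a12 u) (acts_mul (a01 s) (a02 t))) hfa) h1k p0
      (show f12 u (f01 s (f02 t (fa (p 0)))) = p 0 by rw [hfp]; exact e0)
    have i1 : g s t u (p 1) = p 1 := by
      have := congrFun hid (p 1); simp only [hfp, id] at this; exact this
    have i2 : g s t u (p 2) = p 2 := by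
      have := congrFun hid (p 2); simp only [hfp, id] at this; exact this
    rw [e1] at i1
    rw [e2] at i2
    obtain ⟨s0, -, -⟩ := hH.inj hF (a := s ^ 2) (b := 1) (c := 0) (a' := 0) (b' := 1) (c' := 0)
      (by simpa [add_comm] using i1)
    obtain ⟨t0, u0, -⟩ := hH.inj hF (a := t ^ 2) (b := u ^ 2) (c := 1) (a' := 0) (b' := 0) (c' := 1)
      (by simpa [add_comm, add_left_comm, add_assoc] using i2)
    obtain rfl : s = 0 := by simpa using s0
    obtain rfl : t = 0 := by simpa using t0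
    obtain rfl : u = 0 := by simpa using u0
    simp only [zero, mul_one, one_mul] at h1k ⊢
    exact inj0 a ha h1k
  · -- counting
    have hsub : ∀ d : (F × F × F) × span3 L p, off L (p 1) (q 2) d.1.2.2 *
        (off L (p 0) (q 1) d.1.1 * off L (p 0) (q 2) d.1.2.1) * (d.2 : K) ∈ X ⊔ span3 L p := fun d =>
      Subgroup.mul_mem_sup (mul_mem (Subgroup.mem_sup_right ⟨d.1.2.2, rfl⟩)
        (Subgroup.mem_sup_left ⟨(d.1.1, d.1.2.1), rfl⟩)) d.2.2
    let f : (F × F × F) × span3 L p → ↥(X ⊔ span3 L p) := fun d => ⟨_, hsub d⟩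
    have hf : Function.Injective f := by
      rintro ⟨⟨s, t, u⟩, a, ha⟩ ⟨⟨s', t', u'⟩, a', ha'⟩ h
      have h' : off L (p 1) (q 2) u * (off L (p 0) (q 1) s * off L (p 0) (q 2) t) * a =
          off L (p 1) (q 2) u' * (off L (p 0) (q 1) s' * off L (p 0) (q 2) t') * a' := congrArg Subtype.val h
      obtain ⟨e0, e1, e2⟩ := hg s t u
      obtain ⟨e0', e1', e2'⟩ := hg s' t' u'
      obtain ⟨fa, hfa, hfp⟩ := hL.span3_acts hF hH ha
      obtain ⟨fa', hfa', hfp'⟩ := hL.span3_acts hF hH ha'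
      have hA := acts_mul (acts_mul (a12 u) (acts_mul (a01 s) (a02 t))) hfa
      rw [h'] at hA
      have heq := acts_unique hF hA (acts_mul (acts_mul (a12 u') (acts_mul (a01 s') (a02 t'))) hfa') p0
        (show f12 u (f01 s (f02 t (fa (p 0)))) = p 0 by rw [hfp]; exact e0)
        (show f12 u' (f01 s' (f02 t' (fa' (p 0)))) = p 0 by rw [hfp']; exact e0')
      have i1 : g s t u (p 1) = g s' t' u' (p 1) := by
        have := congrFun heq (p 1); simp only [hfp, hfp'] at this; exact this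
      have i2 : g s t u (p 2) = g s' t' u' (p 2) := by
        have := congrFun heq (p 2); simp only [hfp, hfp'] at this; exact this
      rw [e1, e1'] at i1
      rw [e2, e2'] at i2
      obtain ⟨s0, -, -⟩ := hH.inj hF (a := s ^ 2) (b := 1) (c := 0) (a' := s' ^ 2) (b' := 1) (c' := 0)
        (by simpa [add_comm] using i1)
      obtain ⟨t0, u0, -⟩ := hH.inj hF (a := t ^ 2) (b := u ^ 2) (c := 1) (a' := t' ^ 2) (b' := u' ^ 2) (c' := 1)
        (by simpa [add_comm, add_left_comm, add_assoc] using i2)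
      obtain rfl := sq_inj hF s0
      obtain rfl := sq_inj hF t0
      obtain rfl := sq_inj hF u0
      obtain rfl := mul_left_cancel h'
      rfl
    have h := Nat.card_le_card_of_injective f hf
    rw [Nat.card_prod, Nat.card_prod, Nat.card_prod, card0, Nat.card_eq_fintype_card, hF] at h
    omega

/-- There is no such extension by a group of order two. -/
theorem no_cover [Finite K] {z : K} (hz2 : z * z = 1) (hz : ρ z = 1) (hz1 : z ≠ 1)
    (hker : ∀ k, ρ k = 1 → k = 1 ∨ k = z) (hgen : z ∈ Subgroup.closure (L '' E)) : False := by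
  classical
  obtain ⟨P, hP, hPker, hPcard⟩ := hL.exists_complement hF
  have hsurj : Function.Surjective ρ := by
    rw [← MonoidHom.range_eq_top, eq_top_iff, ← (hL.cls.group hF).2.2, Subgroup.closure_le]
    exact fun a ha => ⟨L a, hL.img a ha⟩
  have hzc : ∀ g : K, g * z = z * g := by
    intro g
    rcases hker (g * z * g⁻¹) (by simp [hz]) with h | h
    · exact absurd (by rwa [mul_inv_eq_one, mul_eq_left] at h) hz1
    · exact mul_inv_eq_iff_eq_mul.1 h
  have hKcard : Nat.card K = 2 * Nat.card PSU₆ := by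
    rw [← Subgroup.card_mul_index ρ.ker, Subgroup.index_ker,
      Set.range_eq_univ.2 hsurj |> fun h => (MonoidHom.range_eq_top.2 hsurj), Subgroup.card_top]
    congr 1
    rw [show (ρ.ker : Subgroup K) = Subgroup.zpowers z from ?_, Nat.card_zpowers,
      orderOf_eq_prime (by rw [pow_two, hz2]) hz1]
    ext k
    refine ⟨fun hk => ?_, fun hk => ?_⟩
    · rcases hker k (MonoidHom.mem_ker.1 hk) with rfl | rfl
      exacts [one_mem _, Subgroup.mem_zpowers _]
    · exact (Subgroup.zpowers_le.2 (MonoidHom.mem_ker.2 hz)) hk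
  have hPP : Nat.card (P.map ρ) = Nat.card P := by
    refine Nat.card_congr (Equiv.ofBijective (fun k : P => (⟨ρ k, k, k.2, rfl⟩ : P.map ρ))
      ⟨fun a b h => ?_, ?_⟩).symm
    · have h' : ρ a = ρ b := congrArg Subtype.val h
      exact Subtype.ext (inv_mul_eq_one.1 (hPker _ (mul_mem (inv_mem a.2) b.2) (by simp [h'])))
    · rintro ⟨_, k, hk, rfl⟩; exact ⟨⟨k, hk⟩, rfl⟩
  have hpsu := Tower.card_psu_six hF
  have hP15 : Nat.card P = 2 ^ 15 := by
    obtain ⟨n, hn⟩ := IsPGroup.iff_card.1 hP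
    have hdvd : 2 ^ n ∣ 9196830720 := by rw [← hn, ← hPP, ← hpsu]; exact Subgroup.card_subgroup_dvd_card _
    have hn15 : 15 ≤ n := by
      rw [hn] at hPcard
      exact (Nat.pow_le_pow_iff_right (by norm_num)).1 hPcard
    have hle : n ≤ 15 := by
      by_contra hgt
      have h16 : 2 ^ 16 ∣ 9196830720 := (pow_dvd_pow 2 (by omega)).trans hdvd
      norm_num at h16
    rw [hn, le_antisymm hle hn15]
  set Q : Subgroup K := (P.map ρ).comap ρ with hQ
  have hQi : Q.index = 280665 := by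
    rw [hQ, Subgroup.index_comap_of_surjective _ hsurj]
    have h := Subgroup.card_mul_index (P.map ρ)
    rw [hPP, hP15, hpsu] at h
    omega
  have hPQ : P ≤ Q := fun k hk => ⟨k, hk, rfl⟩
  have hQcard : Nat.card Q = 2 ^ 16 := by
    have h := Subgroup.card_mul_index Q
    rw [hQi, hKcard, hpsu] at h
    omega
  have hi2 : (P.subgroupOf Q).index = 2 := by
    have h := Subgroup.card_mul_index (P.subgroupOf Q)
    rw [Nat.card_congr (Subgroup.subgroupOfEquivOfLe hPQ).toEquiv, hP15, hQcard] at h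
    omega
  let χ : Q →* ℤˣ :=
    { toFun := fun k => if k ∈ P.subgroupOf Q then 1 else -1
      map_one' := by simp
      map_mul' := fun a b => by
        have h := Subgroup.mul_mem_iff_of_index_two hi2 (a := a) (b := b)
        by_cases ha : a ∈ P.subgroupOf Q <;> by_cases hb : b ∈ P.subgroupOf Q <;> simp [h, ha, hb] }
  haveI : Q.FiniteIndex := Subgroup.finiteIndex_of_finite
  set T := MonoidHom.transfer χ with hT
  have hTz : T z = -1 := by
    have key : ∀ (k : ℕ) (g₀ : K), g₀⁻¹ * z ^ k * g₀ ∈ Q → g₀⁻¹ * z ^ k * g₀ = z ^ k := fun k g₀ _ => by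
      rw [mul_assoc, ← (show Commute g₀ z from hzc g₀).pow_right k, inv_mul_cancel_left]
    rw [hT, MonoidHom.transfer_eq_pow χ z key]
    have hzpow : z ^ Q.index = z := by
      rw [hQi, show 280665 = 2 * 140332 + 1 by norm_num, pow_succ, pow_mul, pow_two, hz2, one_pow, one_mul]
    show (if _ then _ else _) = _
    rw [if_neg]
    intro h
    rw [Subgroup.mem_subgroupOf] at h
    simp only [hzpow] at h
    exact hz1 (hPker z h hz)
  -- the transfer kills the members
  have hTL : ∀ a ∈ E, T (L a) = 1 := by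
    obtain ⟨a₀, ha₀⟩ := hL.cls.nonempty
    have hsame : ∀ a ∈ E, ∀ b ∈ E, T (L a) = T (L b) := by
      intro a ha b hb
      obtain ⟨g, rfl⟩ := (lineClass hF hL.cls.set hL.cls.conj hL.cls.nonempty).class_eq a ha b hb
      obtain ⟨k, rfl⟩ := hsurj g
      rw [← hL.conj k a ha, map_mul, map_mul, map_inv, mul_comm (T k), mul_inv_cancel_right]
    obtain ⟨p, q, hH⟩ := exists_hyp6 hF (F := F)
    obtain ⟨w, hw0, hw1, hw⟩ := exists_omega hF
    have h5 := congrArg T (hL.five hF hH hw0 hw1 hw)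
    have hmem : ∀ {a b c : F}, ¬ (a = 0 ∧ b = 0 ∧ c = 0) → memberAt (a • p 0 + b • p 1 + c • p 2) ∈ E :=
      fun h => hL.mem hF (hH.ne_zero hF h) (hH.orth hF _ _ _ _ _ _)
    set v := T (L a₀) with hv
    have e : ∀ {a b c : F}, ¬ (a = 0 ∧ b = 0 ∧ c = 0) → T (lv L (a • p 0 + b • p 1 + c • p 2)) = v :=
      fun h => hsame _ (hmem h) _ ha₀
    rw [map_one, map_mul, map_mul, map_mul, map_mul] at h5
    rw [show lv L (p 0) = lv L ((1 : F) • p 0 + (0 : F) • p 1 + (0 : F) • p 2) by simp,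
      show lv L (p 1) = lv L ((0 : F) • p 0 + (1 : F) • p 1 + (0 : F) • p 2) by simp,
      show lv L (p 0 + p 1) = lv L ((1 : F) • p 0 + (1 : F) • p 1 + (0 : F) • p 2) by simp,
      show lv L (p 0 + w • p 1) = lv L ((1 : F) • p 0 + w • p 1 + (0 : F) • p 2) by simp,
      show lv L (p 0 + w ^ 2 • p 1) = lv L ((1 : F) • p 0 + (w ^ 2) • p 1 + (0 : F) • p 2) by simp,
      e (by simp), e (by simp), e (by simp), e (by simp), e (by simp)] at h5
    intro a ha
    rw [hsame a ha a₀ ha₀, ← hv]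
    have hv2 : v * v = 1 := Int.units_mul_self v
    rwa [mul_assoc v v, hv2, mul_one, hv2, one_mul] at h5
  have : T z = 1 := by
    have hle : Subgroup.closure (L '' E) ≤ T.ker := (Subgroup.closure_le _).2 (by
      rintro _ ⟨a, ha, rfl⟩; exact hTL a ha)
    exact hle hgen
  rw [hTz] at this
  exact absurd this (by decide)

end Lifted

end CfsgLib.ThreeTrans.USix
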