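import Mathlib
import Cfsg.Agent.Lib.ThreeTrans.TypeTop.Perfect
import Cfsg.Agent.Lib.ThreeTrans.TypeTop.CoverBase

/-! Parity of products of members: the group generated by the pairs `(x, 1)` in `G × ℤ/2`, seen over the
quotients met while descending through the types, and the step that climbs one level. -/

set_option autoImplicit false

namespace CfsgLib.ThreeTrans.TypeTop

open CfsgLib.ThreeTrans CfsgLib.ThreeTrans.Tower
open scoped Pointwise

universe u v

variable {G : Type u} [Group G]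

/-- A member with its parity. -/
def par (x : G) : G × Multiplicative (ZMod 2) := (x, Multiplicative.ofAdd 1)

/-- The odd identity. -/
def oddOne (G : Type u) [Group G] : G × Multiplicative (ZMod 2) := (1, Multiplicative.ofAdd 1)

/-- The pairs generated by a set of members. -/
def parityGroup (S : Set G) : Subgroup (G × Multiplicative (ZMod 2)) := Subgroup.closure (par '' S)

theorem parityGroup_mono {S T : Set G} (h : S ⊆ T) : parityGroup S ≤ parityGroup T :=
  Subgroup.closure_mono (Set.image_mono h)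

theorem fst_mem {S : Set G} {k : G × Multiplicative (ZMod 2)} (hk : k ∈ parityGroup S) :
    k.1 ∈ Subgroup.closure S := by
  have : parityGroup S ≤ (Subgroup.closure S).comap (MonoidHom.fst G (Multiplicative (ZMod 2))) :=
    (Subgroup.closure_le _).2 (by rintro _ ⟨x, hx, rfl⟩; exact Subgroup.subset_closure hx)
  exact this hk

theorem exists_parity {S : Set G} {g : G} (hg : g ∈ Subgroup.closure S) :
    ∃ ε, (g, ε) ∈ parityGroup S := by
  induction hg using Subgroup.closure_induction with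
  | mem x hx => exact ⟨_, Subgroup.subset_closure ⟨x, hx, rfl⟩⟩
  | one => exact ⟨1, one_mem _⟩
  | mul x y _ _ hx hy =>
    obtain ⟨a, ha⟩ := hx
    obtain ⟨b, hb⟩ := hy
    exact ⟨a * b, mul_mem ha hb⟩
  | inv x _ hx => obtain ⟨a, ha⟩ := hx; exact ⟨a⁻¹, inv_mem ha⟩

theorem zmod_two_cases (a : Multiplicative (ZMod 2)) : a = 1 ∨ a = Multiplicative.ofAdd 1 := by
  revert a
  decide

/-- The product of a list of pairs. -/
theorem par_prod : ∀ l : List G, (l.map par).prod = (l.prod, Multiplicative.ofAdd (l.length : ZMod 2))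
  | [] => by simp [Prod.ext_iff]
  | a :: t => by
    rw [List.map_cons, List.prod_cons, par_prod t, par, Prod.mk_mul_mk, List.prod_cons, ← ofAdd_add,
      List.length_cons, Nat.cast_succ, add_comm]

/-- A level of the descent: members `S`, of which `Piv` are central, over the class `E` of the group `Y`. -/
structure Level {Y : Type v} [Group Y] (D S Piv : Set G) (π : Subgroup.closure S →* Y) (E : Set Y) : Prop where
  group : Cfsg.IsThreeTranspositionGroup D
  sub : S ⊆ D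
  piv : Piv ⊆ S
  central : ∀ p ∈ Piv, ∀ y ∈ S, Commute p y
  mem : ∀ x : Subgroup.closure S, (x : G) ∈ S → (x : G) ∉ Piv → π x ∈ E
  inj : ∀ x y : Subgroup.closure S, (x : G) ∈ S → (x : G) ∉ Piv → (y : G) ∈ S → (y : G) ∉ Piv →
    π x = π y → x = y
  onto : ∀ a ∈ E, ∃ x : Subgroup.closure S, (x : G) ∈ S ∧ (x : G) ∉ Piv ∧ π x = a
  comm : ∀ x y : Subgroup.closure S, (x : G) ∈ S → (x : G) ∉ Piv → (y : G) ∈ S → (y : G) ∉ Piv →
    (Commute (π x) (π y) ↔ Commute (x : G) y)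
  kill : ∀ x : Subgroup.closure S, (x : G) ∈ Piv → π x = 1
  ker : ∀ x : Subgroup.closure S, π x = 1 → (x : G) ∈ Subgroup.closure Piv
  conj : ∀ g ∈ Subgroup.closure S, ∀ x ∈ S, g * x * g⁻¹ ∈ S

namespace Level

variable {Y : Type v} [Group Y] {D S Piv : Set G} {π : Subgroup.closure S →* Y} {E : Set Y}
  (W : Level D S Piv π E)
include W

theorem conj_nonPiv {g x : G} (hg : g ∈ Subgroup.closure S) (hx : x ∉ Piv) : g * x * g⁻¹ ∉ Piv := by
  intro h
  have hle : Subgroup.closure S ≤ Subgroup.centralizer ({g * x * g⁻¹} : Set G) :=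
    (Subgroup.closure_le _).2 fun y hy => Subgroup.mem_centralizer_singleton_iff.2 (W.central _ h y hy).eq.symm
  have e : g * (g * x * g⁻¹) = g * x * g⁻¹ * g := Subgroup.mem_centralizer_singleton_iff.1 (hle hg)
  rw [inv_mul_cancel_right] at e
  exact hx (mul_left_cancel e ▸ h)

theorem piv_normal : ((parityGroup Piv).subgroupOf (parityGroup S)).Normal := by
  refine ⟨fun n hn g => ?_⟩
  rw [Subgroup.mem_subgroupOf] at hn ⊢
  have hle : parityGroup S ≤ Subgroup.centralizer (par '' Piv) := by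
    refine (Subgroup.closure_le _).2 ?_
    rintro _ ⟨y, hy, rfl⟩
    rw [SetLike.mem_coe, Subgroup.mem_centralizer_iff]
    rintro _ ⟨p, hp, rfl⟩
    exact Prod.ext (W.central p hp y hy).eq (mul_comm _ _)
  have hc : Commute (g : G × Multiplicative (ZMod 2)) n := by
    rw [← Subgroup.centralizer_closure] at hle
    exact (Subgroup.mem_centralizer_iff.1 (hle g.2) n hn).symm
  rw [Subgroup.coe_mul, Subgroup.coe_mul, Subgroup.coe_inv, hc.eq, mul_inv_cancel_right]
  exact hn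

/-- The group of pairs over `Y`, modulo the pivots. -/
theorem exists_cover [Finite G] (hgen : Subgroup.closure E = ⊤) (hz : oddOne G ∈ parityGroup S)
    (hp : oddOne G ∉ parityGroup Piv) :
    ∃ (K : Type u) (_ : Group K) (_ : Finite K) (ρ : K →* Y) (L : Y → K) (z : K),
      (∀ a ∈ E, ρ (L a) = a) ∧ (∀ a ∈ E, L a * L a = 1) ∧
      (∀ g : K, ∀ a ∈ E, g * L a * g⁻¹ = L (ρ g * a * (ρ g)⁻¹)) ∧ Subgroup.closure (L '' E) = ⊤ ∧
      z * z = 1 ∧ ρ z = 1 ∧ z ≠ 1 ∧ (∀ k, ρ k = 1 → k = 1 ∨ k = z) ∧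
      (∀ xs : List (Subgroup.closure S), (∀ x ∈ xs, (x : G) ∈ S ∧ (x : G) ∉ Piv) →
        ((xs.prod : G), Multiplicative.ofAdd (xs.length : ZMod 2)) ∈ parityGroup Piv →
        ((xs.map π).map L).prod = 1) ∧
      (∀ r : Subgroup.closure S, (r : G) ∈ S → (r : G) ∉ Piv →
        z ∈ Subgroup.closure {k | ∃ a ∈ E, Commute (π r) a ∧ L a = k} →
        oddOne G ∈ parityGroup {y | y ∈ S ∧ Commute (r : G) y}) := by
  classical
  let P := parityGroup S
  let N := (parityGroup Piv).subgroupOf P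
  haveI hN : N.Normal := W.piv_normal
  let ρ₀ : P →* Y := π.comp
    (((MonoidHom.fst G (Multiplicative (ZMod 2))).comp P.subtype).codRestrict (Subgroup.closure S)
      fun k => fst_mem k.2)
  have hρ₀ : ∀ k : P, ρ₀ k = π ⟨(k : G × Multiplicative (ZMod 2)).1, fst_mem k.2⟩ := fun k => rfl
  have hNle : N ≤ ρ₀.ker := by
    intro k hk
    rw [Subgroup.mem_subgroupOf] at hk
    have h1 := fst_mem hk
    have hsub : Subgroup.closure Piv ≤ (π.ker.map (Subgroup.closure S).subtype) := by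
      refine (Subgroup.closure_le _).2 fun p hp => ?_
      exact ⟨⟨p, Subgroup.subset_closure (W.piv hp)⟩, MonoidHom.mem_ker.2 (W.kill _ hp), rfl⟩
    obtain ⟨y, hy, e⟩ := hsub h1
    rw [MonoidHom.mem_ker, hρ₀]
    rw [show (⟨(k : G × Multiplicative (ZMod 2)).1, fst_mem k.2⟩ : Subgroup.closure S) = y from Subtype.ext e.symm]
    exact hy
  have hsel : ∀ a : Y, ∃ x : Subgroup.closure S, a ∈ E → (x : G) ∈ S ∧ (x : G) ∉ Piv ∧ π x = a := fun a => by
    by_cases ha : a ∈ E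
    · obtain ⟨x, hx⟩ := W.onto a ha
      exact ⟨x, fun _ => hx⟩
    · exact ⟨1, fun h => absurd h ha⟩
  choose t ht using hsel
  let lift : Y → P := fun a => if ha : a ∈ E then
    ⟨par (t a : G), Subgroup.subset_closure ⟨_, (ht a ha).1, rfl⟩⟩ else 1
  let L : Y → P ⧸ N := fun a => QuotientGroup.mk (lift a)
  let ρ : P ⧸ N →* Y := QuotientGroup.lift N ρ₀ hNle
  have hlift : ∀ a ∈ E, ((lift a : P) : G × Multiplicative (ZMod 2)) = par (t a : G) := fun a ha => by
    simp [lift, dif_pos ha]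
  have hL : ∀ x : Subgroup.closure S, ∀ hx : (x : G) ∈ S, (x : G) ∉ Piv →
      L (π x) = QuotientGroup.mk (⟨par (x : G), Subgroup.subset_closure ⟨_, hx, rfl⟩⟩ : P) := by
    intro x hx hxp
    have hE := W.mem x hx hxp
    obtain ⟨h1, h2, h3⟩ := ht _ hE
    refine congrArg QuotientGroup.mk (Subtype.ext ?_)
    rw [hlift _ hE, W.inj _ _ h1 h2 hx hxp h3]
  have himg : ∀ a ∈ E, ρ (L a) = a := fun a ha => by
    show ρ₀ (lift a) = a
    rw [hρ₀]
    refine Eq.trans (congrArg π (Subtype.ext ?_)) (ht a ha).2.2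
    show ((lift a : P) : G × Multiplicative (ZMod 2)).1 = _
    rw [hlift a ha]; rfl
  have hconj : ∀ g : P ⧸ N, ∀ a ∈ E, g * L a * g⁻¹ = L (ρ g * a * (ρ g)⁻¹) := by
    intro g a ha
    obtain ⟨k, rfl⟩ := QuotientGroup.mk_surjective g
    obtain ⟨h1, h2, h3⟩ := ht a ha
    set g₁ : Subgroup.closure S := ⟨(k : G × Multiplicative (ZMod 2)).1, fst_mem k.2⟩
    have hx' : ((g₁ * t a * g₁⁻¹ : Subgroup.closure S) : G) ∈ S := W.conj _ g₁.2 _ h1
    have hx'p : ((g₁ * t a * g₁⁻¹ : Subgroup.closure S) : G) ∉ Piv := W.conj_nonPiv g₁.2 h2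
    rw [show ρ (QuotientGroup.mk k) * a * (ρ (QuotientGroup.mk k))⁻¹ = π (g₁ * t a * g₁⁻¹) by
      rw [map_mul, map_mul, map_inv, h3]; rfl, hL _ hx' hx'p, ← QuotientGroup.mk_inv]
    show QuotientGroup.mk k * QuotientGroup.mk (lift a) * QuotientGroup.mk k⁻¹ = _
    rw [← QuotientGroup.mk_mul, ← QuotientGroup.mk_mul]
    refine congrArg QuotientGroup.mk (Subtype.ext ?_)
    rw [Subgroup.coe_mul, Subgroup.coe_mul, Subgroup.coe_inv, hlift a ha]
    exact Prod.ext rfl (by simp [par, g₁])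
  have hsq : ∀ a ∈ E, L a * L a = 1 := fun a ha => by
    show (QuotientGroup.mk (lift a * lift a) : P ⧸ N) = 1
    rw [show lift a * lift a = 1 from Subtype.ext ?_, QuotientGroup.mk_one]
    rw [Subgroup.coe_mul, hlift a ha, par, Prod.mk_mul_mk, mul_self W.group.1 (W.sub (ht a ha).1), ← ofAdd_add,
      show (1 : ZMod 2) + 1 = 0 by decide]
    rfl
  have hgenK : Subgroup.closure (L '' E) = ⊤ := by
    have h : ∀ (k) (hk : k ∈ P), (QuotientGroup.mk (⟨k, hk⟩ : P) : P ⧸ N) ∈ Subgroup.closure (L '' E) := by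
      intro k hk
      induction hk using Subgroup.closure_induction with
      | mem y hy =>
        obtain ⟨x, hx, rfl⟩ := hy
        by_cases hxp : x ∈ Piv
        · rw [(QuotientGroup.eq_one_iff _).2 (Subgroup.mem_subgroupOf.2 (show par x ∈ parityGroup Piv from Subgroup.subset_closure ⟨x, hxp, rfl⟩))]
          exact one_mem _
        · exact Subgroup.subset_closure
            ⟨_, W.mem ⟨x, Subgroup.subset_closure hx⟩ hx hxp, hL ⟨x, Subgroup.subset_closure hx⟩ hx hxp⟩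
      | one => exact one_mem _
      | mul y y' hy hy' ih ih' => exact mul_mem (ih) (ih')
      | inv y hy ih => exact inv_mem ih
    rw [eq_top_iff]
    intro g _
    obtain ⟨⟨k, hk⟩, rfl⟩ := QuotientGroup.mk_surjective g
    exact h k hk
  refine ⟨P ⧸ N, inferInstance, inferInstance, ρ, L, QuotientGroup.mk ⟨oddOne G, hz⟩, himg, hsq, hconj, hgenK,
    ?_, ?_, ?_, ?_, ?_, ?_⟩
  · rw [← QuotientGroup.mk_mul, show (⟨oddOne G, hz⟩ : P) * ⟨oddOne G, hz⟩ = 1 from Subtype.ext ?_,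
      QuotientGroup.mk_one]
    simp only [Subgroup.coe_mul, oddOne, Prod.mk_mul_mk, one_mul, ← ofAdd_add,
      show (1 : ZMod 2) + 1 = 0 by decide]
    rfl
  · show ρ₀ ⟨oddOne G, hz⟩ = 1
    rw [hρ₀]
    exact map_one π
  · intro e
    rw [QuotientGroup.eq_one_iff, Subgroup.mem_subgroupOf] at e
    exact hp e
  · intro g hg
    obtain ⟨⟨⟨g₁, ε⟩, hk⟩, rfl⟩ := QuotientGroup.mk_surjective g
    have h1 : g₁ ∈ Subgroup.closure Piv := W.ker ⟨g₁, fst_mem hk⟩ hg
    obtain ⟨δ, hδ⟩ := exists_parity h1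
    rcases zmod_two_cases (δ⁻¹ * ε) with e | e
    · left
      rw [QuotientGroup.eq_one_iff, Subgroup.mem_subgroupOf]
      rw [inv_mul_eq_one] at e
      exact e ▸ hδ
    · right
      rw [QuotientGroup.eq, Subgroup.mem_subgroupOf, Subgroup.coe_mul, Subgroup.coe_inv]
      have : ((g₁, ε) : G × Multiplicative (ZMod 2))⁻¹ * oddOne G = (g₁, δ)⁻¹ := by
        rw [oddOne, Prod.inv_mk, Prod.mk_mul_mk, mul_one, Prod.inv_mk, ← e]
        exact Prod.ext rfl (by
          show ε⁻¹ * (δ⁻¹ * ε) = δ⁻¹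
          rw [mul_comm δ⁻¹, inv_mul_cancel_left])
      exact this ▸ inv_mem hδ
  · intro xs hxs hmem
    have e : ∀ xs : List (Subgroup.closure S), (∀ x ∈ xs, (x : G) ∈ S ∧ (x : G) ∉ Piv) →
        ∃ k : P, ((xs.map π).map L).prod = QuotientGroup.mk k ∧
          (k : G × Multiplicative (ZMod 2)) = ((xs.map fun x : Subgroup.closure S => (x : G)).map par).prod := by
      intro xs
      induction xs with
      | nil => intro _; exact ⟨1, by simp, by simp⟩
      | cons x t ih =>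
        intro h
        obtain ⟨k, hk, hk'⟩ := ih fun y hy => h y (List.mem_cons_of_mem _ hy)
        obtain ⟨hx, hxp⟩ := h x (by simp)
        refine ⟨⟨par (x : G), Subgroup.subset_closure ⟨_, hx, rfl⟩⟩ * k, ?_, ?_⟩
        · rw [List.map_cons, List.map_cons, List.prod_cons, hk, hL x hx hxp, QuotientGroup.mk_mul]
        · rw [Subgroup.coe_mul, hk', List.map_cons, List.map_cons, List.prod_cons]
    obtain ⟨k, hk, hk'⟩ := e xs hxs
    rw [hk, QuotientGroup.eq_one_iff, Subgroup.mem_subgroupOf, hk', par_prod, List.length_map]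
    have hpr : (xs.map fun x : Subgroup.closure S => (x : G)).prod = (xs.prod : G) :=
      (map_list_prod (Subgroup.closure S).subtype xs).symm
    rwa [hpr]
  · intro r hr hrp hmem
    set T := parityGroup {y | y ∈ S ∧ Commute (r : G) y}
    have hTP : parityGroup Piv ≤ T := parityGroup_mono fun p hp => ⟨W.piv hp, (W.central p hp r hr).symm⟩
    have hle : Subgroup.closure {k | ∃ a ∈ E, Commute (π r) a ∧ L a = k} ≤
        (T.subgroupOf P).map (QuotientGroup.mk' N) := by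
      refine (Subgroup.closure_le _).2 ?_
      rintro _ ⟨a, ha, hc, rfl⟩
      obtain ⟨h1, h2, h3⟩ := ht a ha
      refine ⟨lift a, ?_, rfl⟩
      rw [SetLike.mem_coe, Subgroup.mem_subgroupOf, hlift a ha]
      exact Subgroup.subset_closure ⟨_, ⟨h1, (W.comm r (t a) hr hrp h1 h2).1 (h3.symm ▸ hc)⟩, rfl⟩
    obtain ⟨k, hk, e⟩ := hle hmem
    rw [QuotientGroup.mk'_apply, QuotientGroup.eq, Subgroup.mem_subgroupOf] at e
    rw [SetLike.mem_coe, Subgroup.mem_subgroupOf] at hk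
    have := mul_mem hk (hTP e)
    rwa [Subgroup.coe_mul, Subgroup.coe_inv, mul_inv_cancel_left] at this

/-- The odd identity descends to the members commuting with one of them. -/
theorem climb [Finite G] [Finite Y] (hH : CoverHyp E) (hprimE : Cfsg.IsPrimitiveUnderConj E)
    (hgE : Cfsg.IsThreeTranspositionGroup E) (hw : ∃ a ∈ E, ∃ b ∈ E, a ≠ b ∧ Commute a b)
    (hp : oddOne G ∉ parityGroup Piv)
    (hnext : ∀ r ∈ S, r ∉ Piv → oddOne G ∉ parityGroup {y | y ∈ S ∧ Commute r y}) :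
    oddOne G ∉ parityGroup S := by
  intro hz
  obtain ⟨K, _, _, ρ, L, z, himg, hsq, hconj, hgen, hz2, hρz, hz1, hker, -, hdown⟩ :=
    W.exists_cover hgE.2.2 hz hp
  have Linj : ∀ a ∈ E, ∀ b ∈ E, L a = L b → a = b := fun a ha b hb e => by rw [← himg a ha, e, himg b hb]
  have hcomm : ∀ a ∈ E, ∀ b ∈ E, (Commute (L a) (L b) ↔ Commute a b) := by
    intro a ha b hb
    constructor
    · intro h
      have := h.map ρ
      rwa [himg a ha, himg b hb] at this
    · intro h
      have e := hconj (L a) b hb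
      rw [himg a ha, h.eq, mul_inv_cancel_right] at e
      exact mul_inv_eq_iff_eq_mul.1 e
  have hLinv : ∀ a ∈ E, (L a)⁻¹ = L a := fun a ha => inv_eq_of_mul_eq_one_right (hsq a ha)
  set D' := L '' E with hD'
  have hset : Cfsg.IsThreeTranspositionSet D' := by
    refine ⟨?_, ?_⟩
    · rintro _ ⟨a, ha, rfl⟩
      refine orderOf_eq_prime (by rw [pow_two, hsq a ha]) fun e => ne_one hgE.1 ha ?_
      rw [← himg a ha, e, map_one]
    · rintro _ ⟨a, ha, rfl⟩ _ ⟨b, hb, rfl⟩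
      by_cases hc : Commute a b
      · left
        rw [((hcomm a ha b hb).2 hc).mul_pow, pow_two, pow_two, hsq a ha, hsq b hb, one_mul]
      · right
        have e1 := hconj (L a) b hb
        have e2 := hconj (L b) a ha
        rw [himg a ha, hLinv a ha, inv_eq hgE.1 ha] at e1
        rw [himg b hb, hLinv b hb, inv_eq hgE.1 hb, ← braid hgE.1 ha hb hc] at e2
        have h3 : L a * L b * L a = L b * L a * L b := e1.trans e2.symm
        calc (L a * L b) ^ 3 = (L a * L b * L a) * (L b * L a * L b) := by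
              simp [pow_succ, mul_assoc]
          _ = 1 := by
            rw [h3]
            calc L b * L a * L b * (L b * L a * L b) = L b * (L a * (L b * L b) * L a) * L b := by
                  simp [mul_assoc]
              _ = 1 := by rw [hsq b hb, mul_one, hsq a ha, mul_one, hsq b hb]
  have hgroup : Cfsg.IsThreeTranspositionGroup D' := by
    refine ⟨hset, ?_, hgen⟩
    rintro g _ ⟨a, ha, rfl⟩
    exact ⟨_, hgE.2.1 _ a ha, (hconj g a ha).symm⟩
  have hρs : Function.Surjective ρ := by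
    rw [← MonoidHom.range_eq_top, eq_top_iff, ← hgE.2.2, Subgroup.closure_le]
    exact fun a ha => ⟨L a, himg a ha⟩
  have hprim : Cfsg.IsPrimitiveUnderConj D' := by
    refine ⟨?_, ?_, fun B hB hblock => ?_⟩
    · rintro _ ⟨a, ha, rfl⟩ _ ⟨b, hb, rfl⟩
      obtain ⟨g, rfl⟩ := hprimE.1 a ha b hb
      obtain ⟨k, rfl⟩ := hρs g
      exact ⟨k, hconj k a ha⟩
    · obtain ⟨a, ha, b, hb, hne⟩ := hprimE.2.1
      exact ⟨_, ⟨a, ha, rfl⟩, _, ⟨b, hb, rfl⟩, fun e => hne (Linj a ha b hb e)⟩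
    · set B₀ := {a | a ∈ E ∧ L a ∈ B} with hB₀
      have key : ∀ g : K, ∀ a ∈ E, (ρ g * a * (ρ g)⁻¹ ∈ (fun x => ρ g * x * (ρ g)⁻¹) '' B₀ ↔
          L (ρ g * a * (ρ g)⁻¹) ∈ (fun x => g * x * g⁻¹) '' B) := by
        intro g a ha
        constructor
        · rintro ⟨c, ⟨hc, hcB⟩, e⟩
          exact ⟨L c, hcB, (hconj g c hc).trans (congrArg L e)⟩
        · rintro ⟨x, hx, e⟩
          obtain ⟨c, hc, rfl⟩ := hB hx
          refine ⟨c, ⟨hc, hx⟩, Linj _ (hgE.2.1 _ c hc) _ (hgE.2.1 _ a ha) ?_⟩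
          rw [← hconj g c hc]; exact e
      have hblock₀ : ∀ y : Y, (fun x => y * x * y⁻¹) '' B₀ = B₀ ∨ Disjoint ((fun x => y * x * y⁻¹) '' B₀) B₀ := by
        intro y
        obtain ⟨g, rfl⟩ := hρs y
        have mk : ∀ b ∈ E, ρ g * ((ρ g)⁻¹ * b * ρ g) * (ρ g)⁻¹ = b := fun b _ => by group
        have hmem : ∀ b ∈ E, (ρ g)⁻¹ * b * ρ g ∈ E := fun b hb => by
          simpa using hgE.2.1 (ρ g)⁻¹ b hb
        have key' : ∀ b ∈ E, (b ∈ (fun x => ρ g * x * (ρ g)⁻¹) '' B₀ ↔ L b ∈ (fun x => g * x * g⁻¹) '' B) := by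
          intro b hb
          have := key g _ (hmem b hb)
          rwa [mk b hb] at this
        rcases hblock g with e | e
        · left
          ext b
          constructor
          · rintro ⟨c, hc, rfl⟩
            have hb := hgE.2.1 (ρ g) c hc.1
            refine ⟨hb, ?_⟩
            have := (key' _ hb).1 ⟨c, hc, rfl⟩
            rwa [e] at this
          · rintro ⟨hb, hbB⟩
            exact (key' b hb).2 (e.symm ▸ hbB)
        · right
          rw [Set.disjoint_left]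
          rintro b hb1 ⟨hb, hbB⟩
          exact Set.disjoint_left.1 e ((key' b hb).1 hb1) hbB
      rcases hprimE.2.2 B₀ (fun a ha => ha.1) hblock₀ with h | h
      · left
        intro x hx y hy
        obtain ⟨a, ha, rfl⟩ := hB hx
        obtain ⟨b, hb, rfl⟩ := hB hy
        rw [h ⟨ha, hx⟩ ⟨hb, hy⟩]
      · right
        refine hB.antisymm ?_
        rintro _ ⟨a, ha, rfl⟩
        exact (h.symm ▸ ha : a ∈ B₀).2
  have hwK : ∃ a ∈ D', ∃ b ∈ D', a ≠ b ∧ Commute a b := by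
    obtain ⟨a, ha, b, hb, hne, hc⟩ := hw
    exact ⟨_, ⟨a, ha, rfl⟩, _, ⟨b, hb, rfl⟩, fun e => hne (Linj a ha b hb e), (hcomm a ha b hb).2 hc⟩
  have hDd : ∀ a ∈ E, ∀ b ∈ E, (L b ∈ Dd D' (L a) ↔ b ∈ Dd E a) := fun a ha b hb =>
    ⟨fun h => ⟨hb, fun e => h.2.1 (by rw [e]), (hcomm a ha b hb).1 h.2.2⟩,
      fun h => ⟨⟨b, hb, rfl⟩, fun e => h.2.1 (Linj b hb a ha e), (hcomm a ha b hb).2 h.2.2⟩⟩
  have hKc : ∀ a ∈ E, ∀ h ∈ Kc D' (L a), ρ h ∈ Kc E a := by
    intro a ha h hh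
    induction hh using Subgroup.closure_induction with
    | mem y hy =>
      obtain ⟨⟨b, hb, rfl⟩, hc⟩ := hy
      rw [himg b hb]
      exact Subgroup.subset_closure ⟨hb, (hcomm a ha b hb).1 hc⟩
    | one => rw [map_one]; exact one_mem _
    | mul p q _ _ hp hq => rw [map_mul]; exact mul_mem hp hq
    | inv p _ hp => rw [map_inv]; exact inv_mem hp
  have liftC : ∀ (T : Set Y) (T' : Set K), (∀ b ∈ T, b ∈ E ∧ L b ∈ T') → ∀ y ∈ Subgroup.closure T,
      ∃ h ∈ Subgroup.closure T', ρ h = y := by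
    intro T T' hT y hy
    induction hy using Subgroup.closure_induction with
    | mem b hb => exact ⟨L b, Subgroup.subset_closure (hT b hb).2, himg b (hT b hb).1⟩
    | one => exact ⟨1, one_mem _, map_one ρ⟩
    | mul p q _ _ hp hq =>
      obtain ⟨u, hu, rfl⟩ := hp
      obtain ⟨w, hw, rfl⟩ := hq
      exact ⟨u * w, mul_mem hu hw, map_mul ρ u w⟩
    | inv p _ hp =>
      obtain ⟨u, hu, rfl⟩ := hp
      exact ⟨u⁻¹, inv_mem hu, map_inv ρ u⟩
  have hbase : ∀ a ∈ E, ∀ k ∈ Kc D' (L a), ρ k = 1 → k = 1 := by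
    intro a ha k hk h1
    refine (hker k h1).resolve_right fun e => ?_
    obtain ⟨x, hx, hxp, rfl⟩ := W.onto a ha
    refine hnext x hx hxp (hdown x hx hxp (e ▸ Subgroup.closure_mono ?_ hk))
    rintro y ⟨⟨b, hb, rfl⟩, hc⟩
    exact ⟨b, hb, (hcomm _ ha b hb).1 hc, rfl⟩
  have hHK : CoverHyp D' := by
    refine ⟨?_, ?_, ?_, ?_, ?_, ?_⟩
    · rintro _ ⟨a, ha, rfl⟩ _ hb h hh hhb
      obtain ⟨b, hbE, rfl⟩ := hb.1
      have hb' := (hDd a ha b hbE).1 hb
      have hρ : Commute (ρ h) b := by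
        have := hhb.map ρ
        rwa [himg b hbE] at this
      obtain ⟨h', hh', e⟩ := liftC _ (ClassTwo.cD D' (L a) ∩ ClassTwo.cD D' (L b))
        (fun c hc => ⟨hc.1.1, ⟨⟨⟨c, hc.1.1, rfl⟩, (hcomm a ha c hc.1.1).2 hc.1.2⟩,
          ⟨⟨c, hc.1.1, rfl⟩, (hcomm b hbE c hc.1.1).2 hc.2.2⟩⟩⟩) _ (hH.stab a ha b hb' _ (hKc a ha h hh) hρ)
      have hk : h'⁻¹ * h ∈ Kc D' (L a) :=
        mul_mem (inv_mem (Subgroup.closure_mono Set.inter_subset_left hh')) hh
      have := hbase a ha _ hk (by rw [map_mul, map_inv, e, inv_mul_cancel])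
      rwa [inv_mul_eq_one.1 this] at hh'
    · rintro _ ⟨a, ha, rfl⟩ _ hb _ hb'
      obtain ⟨b, hbE, rfl⟩ := hb.1
      obtain ⟨b', hbE', rfl⟩ := hb'.1
      obtain ⟨g, hg, rfl⟩ := hH.trans a ha b ((hDd a ha b hbE).1 hb) b' ((hDd a ha b' hbE').1 hb')
      obtain ⟨h, hh, rfl⟩ := liftC _ (ClassTwo.cD D' (L a))
        (fun c hc => ⟨hc.1, ⟨c, hc.1, rfl⟩, (hcomm a ha c hc.1).2 hc.2⟩) _ hg
      exact ⟨h, hh, hconj h b hbE⟩
    · rintro _ ⟨a, ha, rfl⟩ _ hb _ hxa hxb _ hya hyb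
      obtain ⟨b, hbE, rfl⟩ := hb.1
      obtain ⟨x, hxE, rfl⟩ := hxa.1
      obtain ⟨y, hyE, rfl⟩ := hya.1
      obtain ⟨g, hg, hgb, rfl⟩ := hH.trans₂ a ha b ((hDd a ha b hbE).1 hb) x ((hDd a ha x hxE).1 hxa)
        ((hDd b hbE x hxE).1 hxb) y ((hDd a ha y hyE).1 hya) ((hDd b hbE y hyE).1 hyb)
      obtain ⟨h, hh, rfl⟩ := liftC _ (ClassTwo.cD D' (L a))
        (fun c hc => ⟨hc.1, ⟨c, hc.1, rfl⟩, (hcomm a ha c hc.1).2 hc.2⟩) _ hg
      refine ⟨h, hh, ?_, hconj h x hxE⟩
      refine mul_inv_eq_iff_eq_mul.1 ((hconj h b hbE).trans ?_)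
      rw [hgb.eq, mul_inv_cancel_right]
    · rintro _ ⟨a, ha, rfl⟩ _ hx
      obtain ⟨x, hxE, rfl⟩ := hx.1
      obtain ⟨b, hb1, hb2⟩ := hH.nonempty a ha x ((hDd a ha x hxE).1 hx)
      exact ⟨L b, (hDd a ha b hb1.1).2 hb1, (hDd x hxE b hb1.1).2 hb2⟩
    · rintro _ ⟨a, ha, rfl⟩ _ hx _ hba hbx _ hba' hbx' hn
      obtain ⟨x, hxE, rfl⟩ := hx.1
      obtain ⟨b, hbE, rfl⟩ := hba.1
      obtain ⟨b', hbE', rfl⟩ := hba'.1
      obtain ⟨c, h1, h2, h3, h4⟩ := hH.common a ha x ((hDd a ha x hxE).1 hx) b ((hDd a ha b hbE).1 hba)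
        ((hDd x hxE b hbE).1 hbx) b' ((hDd a ha b' hbE').1 hba') ((hDd x hxE b' hbE').1 hbx')
        fun h => hn ((hcomm b hbE b' hbE').2 h)
      exact ⟨L c, (hDd a ha c h1.1).2 h1, (hDd x hxE c h1.1).2 h2, (hDd b hbE c h1.1).2 h3,
        (hDd b' hbE' c h1.1).2 h4⟩
    · rintro _ ⟨a, ha, rfl⟩ _ hx _ ⟨e, he, rfl⟩ hde hxe
      obtain ⟨x, hxE, rfl⟩ := hx.1
      obtain ⟨b, h1, h2, h3⟩ := hH.good a ha x ((hDd a ha x hxE).1 hx) e he
        (fun h => hde ((hcomm a ha e he).2 h)) fun h => hxe ((hcomm x hxE e he).2 h)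
      exact ⟨L b, (hDd a ha b h1.1).2 h1, (hDd x hxE b h1.1).2 h2, (hcomm e he b h1.1).2 h3⟩
  obtain ⟨a, ha, -⟩ := hprimE.2.1
  have hzc : z * L a = L a * z := by
    have := hconj z a ha
    rw [hρz, one_mul, inv_one, mul_one] at this
    exact mul_inv_eq_iff_eq_mul.1 this
  have hmem : z ∈ Kc D' (L a) := by
    rw [← hHK.centralizer_eq (conjClosed_of_group hgroup) ⟨a, ha, rfl⟩ (classTwo_of_primitive hgroup hprim)
      hprim hwK]
    exact Subgroup.mem_centralizer_singleton_iff.2 hzc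
  exact hz1 (hbase a ha z hmem hρz)

/-- One level down, at the quotient of a member. -/
theorem next [Finite G] [Finite Y] {Y' : Type*} [Group Y'] {E' : Set Y'} (hgE : Cfsg.IsThreeTranspositionGroup E)
    {r : Subgroup.closure S} (hr : (r : G) ∈ S) (hrp : (r : G) ∉ Piv) {π₁ : Hd E (π r) →* Y'}
    (M : Model E (π r) E' π₁) (hself : π r ∈ Hd E (π r))
    (hcen : ∀ c : Hd E (π r), c ∈ Subgroup.center (Hd E (π r)) → (c : Y) = 1 ∨ (c : Y) = π r) :
    ∃ π' : Subgroup.closure {y | y ∈ S ∧ Commute (r : G) y} →* Y',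
      Level D {y | y ∈ S ∧ Commute (r : G) y} (insert (r : G) Piv) π' E' := by
  set S' := {y | y ∈ S ∧ Commute (r : G) y}
  have hsub : Subgroup.closure S' ≤ Subgroup.closure S := Subgroup.closure_mono fun y hy => hy.1
  let ι := Subgroup.inclusion hsub
  have hrE := W.mem r hr hrp
  have hmapsTo : ∀ g : Subgroup.closure S', π (ι g) ∈ Hd E (π r) := by
    rintro ⟨g, hg⟩
    induction hg using Subgroup.closure_induction with
    | mem y hy =>
      set y' : Subgroup.closure S := ⟨y, Subgroup.subset_closure hy.1⟩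
      show π y' ∈ Hd E (π r)
      by_cases hyp : y ∈ Piv
      · rw [W.kill y' hyp]; exact one_mem _
      by_cases hyr : y' = r
      · rw [hyr]; exact hself
      · exact Subgroup.subset_closure ⟨W.mem y' hy.1 hyp, fun e => hyr (W.inj y' r hy.1 hyp hr hrp e),
          (W.comm r y' hr hrp hy.1 hyp).2 hy.2⟩
    | one =>
      show π (ι 1) ∈ _
      rw [map_one, map_one]; exact one_mem _
    | mul p q hp hq ihp ihq =>
      show π (ι (⟨p, hp⟩ * ⟨q, hq⟩)) ∈ _
      rw [map_mul, map_mul]; exact mul_mem ihp ihq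
    | inv p hp ihp =>
      show π (ι (⟨p, hp⟩⁻¹)) ∈ _
      rw [map_inv, map_inv]; exact inv_mem ihp
  let π₀ : Subgroup.closure S' →* Hd E (π r) := (π.comp ι).codRestrict _ hmapsTo
  refine ⟨π₁.comp π₀, ?_⟩
  have hDdmem : ∀ x : Subgroup.closure S', (x : G) ∈ S' → (x : G) ∉ insert (r : G) Piv →
      π (ι x) ∈ Dd E (π r) := by
    intro x hx hxp
    rw [Set.mem_insert_iff, not_or] at hxp
    exact ⟨W.mem (ι x) hx.1 hxp.2, fun e => hxp.1 (congrArg Subtype.val (W.inj (ι x) r hx.1 hxp.2 hr hrp e)),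
      (W.comm r (ι x) hr hrp hx.1 hxp.2).2 hx.2⟩
  have hπ : ∀ x : Subgroup.closure S', π (ι x) ∈ Dd E (π r) → π₁ (π₀ x) = phi π₁ (π (ι x)) := fun x h =>
    (phi_of_mem π₁ (x := π₀ x) h).symm
  refine
    { group := W.group
      sub := fun y hy => W.sub hy.1
      piv := fun p hp => ?_
      central := fun p hp y hy => ?_
      mem := fun x hx hxp => ?_
      inj := fun x y hx hxp hy hyp e => ?_
      onto := fun a ha => ?_
      comm := fun x y hx hxp hy hyp => ?_
      kill := fun x hx => ?_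
      ker := fun x hx => ?_
      conj := fun g hg x hx => ?_ }
  · rcases Set.mem_insert_iff.1 hp with rfl | hp
    exacts [⟨hr, Commute.refl _⟩, ⟨W.piv hp, (W.central p hp r hr).symm⟩]
  · rcases Set.mem_insert_iff.1 hp with rfl | hp
    exacts [hy.2, W.central p hp y hy.1]
  · rw [MonoidHom.comp_apply, hπ x (hDdmem x hx hxp)]
    exact M.mem (hDdmem x hx hxp)
  · rw [MonoidHom.comp_apply, MonoidHom.comp_apply, hπ x (hDdmem x hx hxp), hπ y (hDdmem y hy hyp)] at e
    have h := M.inj (hDdmem x hx hxp) (hDdmem y hy hyp) e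
    rw [Set.mem_insert_iff, not_or] at hxp hyp
    exact Subgroup.inclusion_injective hsub (W.inj _ _ hx.1 hxp.2 hy.1 hyp.2 h)
  · obtain ⟨b, hb, rfl⟩ := M.onto ha
    obtain ⟨x, hx, hxp, rfl⟩ := W.onto b hb.1
    have hxS' : (x : G) ∈ S' := ⟨hx, (W.comm r x hr hrp hx hxp).1 hb.2.2⟩
    refine ⟨⟨x, Subgroup.subset_closure hxS'⟩, hxS', ?_, ?_⟩
    · rw [Set.mem_insert_iff, not_or]
      exact ⟨fun e => hb.2.1 (congrArg π (Subtype.ext e : x = r)), hxp⟩
    · rw [MonoidHom.comp_apply, hπ _ (by exact hb)]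
      rfl
  · rw [MonoidHom.comp_apply, MonoidHom.comp_apply, hπ x (hDdmem x hx hxp), hπ y (hDdmem y hy hyp),
      M.comm (hDdmem x hx hxp) (hDdmem y hy hyp)]
    rw [Set.mem_insert_iff, not_or] at hxp hyp
    exact W.comm _ _ hx.1 hxp.2 hy.1 hyp.2
  · rw [MonoidHom.comp_apply, M.base.map_eq_one_iff']
    intro y hy
    show Commute (π (ι x)) y
    rcases Set.mem_insert_iff.1 hx with e | hx
    · rw [show ι x = r from Subtype.ext e]
      exact hy.2.2
    · rw [W.kill (ι x) hx]; exact Commute.one_left y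
  · rcases hcen (π₀ x) ((M.base.ker _).1 hx) with e | e
    · exact Subgroup.closure_mono (Set.subset_insert _ _) (W.ker (ι x) e)
    · have h1 : π (ι x * r) = 1 := by
        rw [map_mul, show π (ι x) = π r from e, mul_self hgE.1 hrE]
      have h2 : (x : G) * r ∈ Subgroup.closure Piv := W.ker _ h1
      have h3 := mul_mem (Subgroup.closure_mono (Set.subset_insert (r : G) Piv) h2)
        (Subgroup.subset_closure (Set.mem_insert (r : G) Piv))
      rwa [mul_assoc, mul_self W.group.1 (W.sub hr), mul_one] at h3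
  · have hgr : Commute g r := by
      have hle : Subgroup.closure S' ≤ Subgroup.centralizer ({(r : G)} : Set G) :=
        (Subgroup.closure_le _).2 fun y hy => Subgroup.mem_centralizer_singleton_iff.2 hy.2.eq.symm
      exact Subgroup.mem_centralizer_singleton_iff.1 (hle hg)
    refine ⟨W.conj g (hsub hg) x hx.1, ?_⟩
    have h := (commute_conj_iff g (r : G) x).2 hx.2
    rwa [hgr.eq, mul_inv_cancel_right] at h

end Level

end CfsgLib.ThreeTrans.TypeTop
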