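import Mathlib
import Cfsg.Agent.Lib.ThreeTrans.TypeTop.Parity
import Cfsg.Agent.Lib.ThreeTrans.TypeTop.Classify24

/-! In a group of type M(24) the parity of a product of members is well defined; so the layer has index two, and
each member lies in the subgroup generated by the others commuting with it. -/

set_option autoImplicit false

namespace CfsgLib.ThreeTrans.TypeTop

open CfsgLib.ThreeTrans CfsgLib.ThreeTrans.Tower
open scoped Pointwise

universe u v

section Lists

variable {G : Type u} [Group G]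

/-- An element generated by pairwise commuting involutions is the product of some of them. -/
theorem exists_sublist_prod [Finite G] : ∀ (l : List G), (∀ x ∈ l, x * x = 1) →
    (∀ x ∈ l, ∀ y ∈ l, Commute x y) → ∀ g ∈ Subgroup.closure {x | x ∈ l}, ∃ s : List G, List.Sublist s l ∧ g = s.prod
  | [], _, _, g, hg => ⟨[], List.Sublist.refl _, by simpa using hg⟩
  | a :: t, h2, hc, g, hg => by
    have hset : {x | x ∈ a :: t} = {a} ∪ {x | x ∈ t} := by ext x; simp
    rw [hset, Subgroup.closure_union, ← Subgroup.zpowers_eq_closure] at hg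
    have hnorm : Subgroup.zpowers a ≤ Subgroup.normalizer (Subgroup.closure {x | x ∈ t} : Set G) := by
      refine (Subgroup.zpowers_le).2 ((Subgroup.centralizer_le_normalizer _) ?_)
      show a ∈ Subgroup.centralizer (Subgroup.closure {x | x ∈ t} : Set G)
      rw [Subgroup.centralizer_closure, Subgroup.mem_centralizer_iff]
      exact fun x hx => (hc x (List.mem_cons_of_mem _ hx) a (by simp)).eq
    rw [← SetLike.mem_coe, Subgroup.coe_mul_of_left_le_normalizer_right _ _ hnorm] at hg
    obtain ⟨u, hu, v, hv, rfl⟩ := hg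
    obtain ⟨s, hs, rfl⟩ := exists_sublist_prod t (fun x hx => h2 x (List.mem_cons_of_mem _ hx))
      (fun x hx y hy => hc x (List.mem_cons_of_mem _ hx) y (List.mem_cons_of_mem _ hy)) v hv
    obtain ⟨n, rfl⟩ := Subgroup.mem_zpowers_iff.1 hu
    rcases Int.even_or_odd n with ⟨k, rfl⟩ | ⟨k, rfl⟩
    · refine ⟨s, hs.cons a, ?_⟩
      show a ^ (k + k) * s.prod = _
      rw [← two_mul, zpow_mul, zpow_two, h2 a (by simp), one_zpow, one_mul]
    · refine ⟨a :: s, hs.cons_cons a, ?_⟩
      show a ^ (2 * k + 1) * s.prod = _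
      rw [zpow_add_one, zpow_mul, zpow_two, h2 a (by simp), one_zpow, one_mul, List.prod_cons]

/-- Two commuting lists with the same product give a relation among their difference. -/
theorem rel_of_prod_eq {D : Set G} (hs : Cfsg.IsThreeTranspositionSet D) {l l' : List G} (hnd : l.Nodup)
    (hnd' : l'.Nodup) (hm : ∀ b ∈ l, b ∈ D) (hm' : ∀ b ∈ l', b ∈ D) (hcm : ∀ b ∈ l, ∀ c ∈ l, Commute b c)
    (hcm' : ∀ b ∈ l', ∀ c ∈ l', Commute b c) (hcross : ∀ a ∈ l', ∀ b ∈ l, Commute a b) (hp : l.prod = l'.prod) :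
    ∃ c r : ℕ, l.length + l'.length = 2 * c + r ∧ (∀ u : G, ∀ v : G, u ≠ v → u ∈ l → u ∈ l' → v ∈ l → v ∈ l' → 2 ≤ c) ∧
      ¬ NoRel D r := by
  classical
  set l1 := l.filter (fun b => decide (b ∉ l')) with hl1
  set l2 := l'.filter (fun b => decide (b ∉ l)) with hl2
  set c1 := l.filter (fun b => decide (b ∈ l')) with hc1
  set c2 := l'.filter (fun b => decide (b ∈ l)) with hc2
  have hperm : c1.Perm c2 := by
    refine (List.perm_ext_iff_of_nodup (hnd.filter _) (hnd'.filter _)).2 fun b => ?_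
    simp [hc1, hc2, and_comm]
  have e1 : (c1 ++ l1).Perm l := by
    have := List.filter_append_perm (fun b => decide (b ∈ l')) l
    simpa [hc1, hl1] using this
  have e2 : (c2 ++ l2).Perm l' := by
    have := List.filter_append_perm (fun b => decide (b ∈ l)) l'
    simpa [hc2, hl2] using this
  have pw : ∀ {L : List G}, (∀ a ∈ L, ∀ b ∈ L, Commute a b) → L.Pairwise Commute := fun hL =>
    List.pairwise_of_forall_mem_list hL
  have s1 : ∀ b ∈ l1, b ∈ l := fun b hb => List.mem_of_mem_filter hb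
  have s2 : ∀ b ∈ l2, b ∈ l' := fun b hb => List.mem_of_mem_filter hb
  have q1 : c1.prod * l1.prod = l.prod := by
    rw [← List.prod_append, e1.prod_eq' (pw fun a ha b hb => hcm a (e1.subset ha) b (e1.subset hb))]
  have q2 : c2.prod * l2.prod = l'.prod := by
    rw [← List.prod_append, e2.prod_eq' (pw fun a ha b hb => hcm' a (e2.subset ha) b (e2.subset hb))]
  have q3 : c1.prod = c2.prod :=
    hperm.prod_eq' (pw fun a ha b hb => hcm a (List.mem_of_mem_filter ha) b (List.mem_of_mem_filter hb))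
  have q4 : l1.prod = l2.prod := mul_left_cancel (q1.trans (by rw [hp, q3, q2]))
  have sq : l2.prod * l2.prod = 1 := IsProd.sq (n := l2.length) hs
    ⟨l2, hnd'.filter _, rfl, fun b hb => hm' b (s2 b hb), fun a ha b hb => hcm' a (s2 a ha) b (s2 b hb), rfl⟩
  have hl : l.length = c1.length + l1.length := by rw [← List.length_append]; exact e1.length_eq.symm
  have hl' : l'.length = c2.length + l2.length := by rw [← List.length_append]; exact e2.length_eq.symm
  have hcl := hperm.length_eq
  refine ⟨c1.length, (l1 ++ l2).length, ?_, fun u v huv hu hu' hv hv' => ?_, fun h => ?_⟩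
  · rw [List.length_append]; omega
  · have hsub : List.Subperm [u, v] c1 := List.subperm_of_subset (by simp [huv]) (by
      intro x hx
      simp only [List.mem_cons, List.not_mem_nil, or_false] at hx
      rcases hx with rfl | rfl <;> simp [hc1, hu, hu', hv, hv'])
    exact hsub.length_le
  refine h (l1 ++ l2) ?_ rfl ?_ ?_ (by rw [List.prod_append, q4, sq])
  · rw [List.nodup_append]
    refine ⟨hnd.filter _, hnd'.filter _, fun a ha b hb e => ?_⟩
    have h1 := List.of_mem_filter ha
    simp only [decide_eq_true_eq] at h1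
    exact h1 (e ▸ s2 b hb)
  · intro b hb
    rcases List.mem_append.1 hb with hb | hb
    exacts [hm b (s1 b hb), hm' b (s2 b hb)]
  · intro a ha b hb
    rcases List.mem_append.1 ha with ha | ha <;> rcases List.mem_append.1 hb with hb | hb
    exacts [hcm a (s1 a ha) b (s1 b hb), (hcross b (s2 b hb) a (s1 a ha)).symm,
      hcross a (s2 a ha) b (s1 b hb), hcm' a (s2 a ha) b (s2 b hb)]

end Lists

section Lift

variable {G : Type u} [Group G] [Finite G] {Y : Type v} [Group Y] {D : Set G} {E : Set Y} {N k l m : ℕ}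

/-- A relation in the quotient gives one with the member adjoined. -/
theorem lift_relation (S : Stage D E N k l m) {a : G} (ha : a ∈ D) {π : Hd D a →* Y} (M : Model D a E π)
    {r : List Y} (hnd : r.Nodup) (hm : ∀ e ∈ r, e ∈ E) (hc : ∀ e ∈ r, ∀ f ∈ r, Commute e f) (hp : r.prod = 1)
    (hrel : NoRel D r.length) :
    a ∈ Hd D a ∧ ∃ t : List G, t.Nodup ∧ t.length = r.length + 1 ∧ (∀ e ∈ t, e ∈ D) ∧
      (∀ e ∈ t, ∀ f ∈ t, Commute e f) ∧ t.prod = 1 := by
  obtain ⟨us, hus, husm⟩ : ∃ us : List (Hd D a), us.map π = r ∧ ∀ u ∈ us, (u : G) ∈ Dd D a := by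
    clear hnd hc hp hrel
    induction r with
    | nil => exact ⟨[], rfl, by simp⟩
    | cons u t ih =>
      obtain ⟨T, hT, hTm⟩ := ih fun y hy => hm y (List.mem_cons_of_mem _ hy)
      obtain ⟨w, hw, hwe⟩ := M.onto (hm u (by simp))
      refine ⟨⟨w, Subgroup.subset_closure hw⟩ :: T, ?_, by simpa [hw] using hTm⟩
      rw [List.map_cons, hT, ← phi_of_mem π (x := ⟨w, Subgroup.subset_closure hw⟩) hw, hwe]
  set ws := us.map (Hd D a).subtype
  have hnd' : ws.Nodup := ((hus.symm ▸ hnd : (us.map π).Nodup).of_map _).map (Subgroup.subtype_injective _)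
  have hmD : ∀ u ∈ ws, u ∈ Dd D a := by
    intro u hu
    obtain ⟨u', hu', rfl⟩ := List.mem_map.1 hu
    exact husm u' hu'
  have hcG : ∀ u ∈ ws, ∀ w ∈ ws, Commute u w := by
    intro u hu w hw
    obtain ⟨u', hu', rfl⟩ := List.mem_map.1 hu
    obtain ⟨w', hw', rfl⟩ := List.mem_map.1 hw
    exact (M.base.commute_img (husm u' hu') (husm w' hw')).1
      (hc _ (hus ▸ List.mem_map_of_mem hu') _ (hus ▸ List.mem_map_of_mem hw'))
  have hlen : ws.length = r.length := by rw [← hus]; simp [ws]
  have hpG : ws.prod = (us.prod : G) := (map_list_prod (Hd D a).subtype us).symm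
  rcases center_cases S ha ((M.base.ker _).1 (by rw [map_list_prod, hus, hp] : π us.prod = 1)) with e | e
  · exact absurd (hpG.trans e) (hrel ws hnd' hlen (fun u hu => (hmD u hu).1) hcG)
  refine ⟨by have h1 := us.prod.2; rwa [e] at h1, a :: ws, List.nodup_cons.2 ⟨fun h => (hmD a h).2.1 rfl, hnd'⟩, by simp [hlen], ?_, ?_, ?_⟩
  · intro u hu
    rcases List.mem_cons.1 hu with rfl | hu
    exacts [ha, (hmD u hu).1]
  · intro u hu w hw
    rcases List.mem_cons.1 hu with rfl | hu <;> rcases List.mem_cons.1 hw with rfl | hw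
    exacts [Commute.refl _, (hmD w hw).2.2, (hmD u hu).2.2.symm, hcG u hu w hw]
  · rw [List.prod_cons, hpG, e, mul_self S.threeSet ha]

end Lift

variable {G : Type u} [Group G] [Finite G] {D : Set G}

/-- Every member lies in the subgroup generated by the others commuting with it. -/
theorem mem_Hd24 (hD : Cfsg.IsThreeTranspositionGroup D) (hprim : Cfsg.IsPrimitiveUnderConj D)
    (h : Cfsg.IsOfTypeM24 G D) : ∀ a ∈ D, a ∈ Hd D a := by
  obtain ⟨d₀, c₀, -, -, hB, h23⟩ := bottom24 hD hprim h
  have hp23 := prim23 hD hprim hB h23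
  have L23 := local23 hB.img_group hp23 h23
  have S24 := stage_of_base hD hprim h.1 L23 hB rfl
  obtain ⟨d₁, c₁, -, -, hB', h22, -⟩ := bottom23 hB.img_group h23
  have hp22 := prim22 hB.img_group hp23 hB' h22
  have L22 := local22 hB'.img_group hp22 h22
  have S23 := stage_of_base hB.img_group hp23 h23.1 L22 hB' rfl
  obtain ⟨d', -, F, _, _, π', -, -, hB'', hF, hE', -⟩ := base22 hB'.img_group h22
  have hG22 := good22 hB'.img_group h22
  have hw := stage_of_base hB'.img_group hp22 h22.1 (USix.local_of_class hF hB''.img_isThreeTranspositionSet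
    hB''.img_conj (hB''.exists_img_ne (psu_six_noncomm hF))) hB'' rfl
  -- a six with product one
  obtain ⟨u, hu⟩ := Set.nonempty_of_ncard_ne_zero
    (s := imgSet (imgSet D d₀ (QuotientGroup.mk' _)) d₁ (QuotientGroup.mk' _)) (by rw [L22.card]; norm_num)
  obtain ⟨v, hv⟩ := Set.nonempty_of_ncard_ne_zero (s := Dd _ u) (by rw [L22.deg u hu]; norm_num)
  obtain ⟨w, hw'⟩ := Set.nonempty_of_ncard_ne_zero (s := Dd _ u ∩ Dd _ v) (by rw [L22.lam u hu v hv]; norm_num)
  obtain ⟨e, f, g, hL, hsix⟩ := hB''.six_exists hG22.rigid.class_eq hG22.rigid.twins hE' h22.1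
    (hw.classTwo.connected_of_primitive hp22 hw.width) hu hv.1 hw'.1.1 (Ne.symm hv.2.1) (Ne.symm hw'.1.2.1)
    (Ne.symm hw'.2.2.1) hv.2.2 hw'.1.2.2 hw'.2.2.2
  have hnd : [u, v, w, e, f, g].Nodup := List.nodup_cons.2 ⟨fun hm => (hL.mem _ hm).2.1 rfl, hL.nodup⟩
  obtain ⟨p, hp⟩ := Set.nonempty_of_ncard_ne_zero (s := imgSet D d₀ (QuotientGroup.mk' _))
    (by rw [L23.card]; norm_num)
  obtain ⟨πp, Mp⟩ := S23.base p hp
  obtain ⟨-, seven, n7, l7, m7, c7, p7⟩ := lift_relation S23 hp Mp hnd (fun x hx => by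
      rcases List.mem_cons.1 hx with rfl | hx
      · exact hu
      · exact (hL.mem _ hx).1) (fun x hx y hy => by
      rcases List.mem_cons.1 hx with rfl | hx' <;> rcases List.mem_cons.1 hy with rfl | hy'
      · exact Commute.refl _
      · exact (hL.mem _ hy').2.2
      · exact (hL.mem _ hx').2.2.symm
      · exact hL.comm _ hx' _ hy') (by simpa [mul_assoc] using hsix)
    ((good23 hB.img_group h23).rel 6 le_rfl (by norm_num))
  intro a ha
  obtain ⟨π, M⟩ := S24.base a ha
  exact (lift_relation S24 ha M n7 m7 c7 p7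
    (noRel24 hD hprim h _ (by rw [l7]; simp) (by rw [l7]; simp))).1

/-- The parity of a product of members is well defined. -/
theorem parity24 (hD : Cfsg.IsThreeTranspositionGroup D) (hprim : Cfsg.IsPrimitiveUnderConj D)
    (h : Cfsg.IsOfTypeM24 G D) : oddOne G ∉ parityGroup D := by
  classical
  obtain ⟨d₀, c₀, -, -, hB, h23⟩ := bottom24 hD hprim h
  have hp23 := prim23 hD hprim hB h23
  have L23 := local23 hB.img_group hp23 h23
  have S24 := stage_of_base hD hprim h.1 L23 hB rfl
  obtain ⟨d₁, c₁, -, -, hB', h22, -⟩ := bottom23 hB.img_group h23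
  have hp22 := prim22 hB.img_group hp23 hB' h22
  have L22 := local22 hB'.img_group hp22 h22
  have S23 := stage_of_base hB.img_group hp23 h23.1 L22 hB' rfl
  obtain ⟨d₂, c₂, F, _, _, π₀, hB'', -, -, hloc, -, hF⟩ := bottom22 hB'.img_group h22
  have S22 := stage_of_base hB'.img_group hp22 h22.1 hloc hB'' rfl
  have hT : USix.TClass (imgSet (imgSet (imgSet D d₀ (QuotientGroup.mk' (Subgroup.center (Hd D d₀)))) d₁
      (QuotientGroup.mk' (Subgroup.center _))) d₂ π₀) :=
    ⟨hB''.img_isThreeTranspositionSet, hB''.img_conj, hB''.exists_img_ne (psu_six_noncomm hF)⟩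
  have hrel := noRel24 hD hprim h
  obtain ⟨-, hq23⟩ := main23 hB.img_group hp23 h23
  obtain ⟨-, hq22⟩ := main22 hB'.img_group hp22 h22
  have hs := hD.1
  -- products of at most three pairwise commuting members are never odd identities
  have small : ∀ Piv : List G, Piv.Nodup → Piv.length ≤ 3 → (∀ p ∈ Piv, p ∈ D) →
      (∀ p ∈ Piv, ∀ q ∈ Piv, Commute p q) → oddOne G ∉ parityGroup {x | x ∈ Piv} := by
    intro Piv hnd hlen hm hc hz
    have hset : par '' {x | x ∈ Piv} = {x | x ∈ Piv.map par} := by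
      ext y
      simp [List.mem_map]
    rw [parityGroup, hset] at hz
    obtain ⟨s, hsub, he⟩ := exists_sublist_prod (Piv.map par) (fun y hy => by
      obtain ⟨p, hp, rfl⟩ := List.mem_map.1 hy
      refine Prod.ext (mul_self hs (hm p hp)) ?_
      show Multiplicative.ofAdd (1 : ZMod 2) * Multiplicative.ofAdd 1 = 1
      decide) (fun y hy y' hy' => by
      obtain ⟨p, hp, rfl⟩ := List.mem_map.1 hy
      obtain ⟨q, hq, rfl⟩ := List.mem_map.1 hy'
      exact Prod.ext (hc p hp q hq).eq (mul_comm _ _)) _ hz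
    obtain ⟨t, ht, rfl⟩ := List.sublist_map_iff.1 hsub
    rw [par_prod] at he
    have h0 : t.length ≠ 0 := fun e0 => by
      have h2 : (Multiplicative.ofAdd 1 : Multiplicative (ZMod 2)) = Multiplicative.ofAdd (t.length : ZMod 2) :=
        congrArg Prod.snd he
      rw [e0] at h2
      exact absurd h2 (by decide)
    have hle := ht.length_le
    exact hrel t.length (by omega) (by omega) t (hnd.sublist ht) rfl (fun p hp => hm p (ht.subset hp))
      (fun p hp q hq => hc p (ht.subset hp) q (ht.subset hq)) (congrArg Prod.fst he).symm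
  -- the levels
  have hself24 := mem_Hd24 hD hprim h
  let ι : Subgroup.closure D →* G := (Subgroup.closure D).subtype
  have W₀ : Level D D ∅ ι D :=
    { group := hD
      sub := le_rfl
      piv := fun x hx => hx.elim
      central := fun p hp => hp.elim
      mem := fun x hx _ => hx
      inj := fun x y _ _ _ _ e => Subtype.ext e
      onto := fun a ha => ⟨⟨a, Subgroup.subset_closure ha⟩, ha, fun h => h, rfl⟩
      comm := fun x y _ _ _ _ => Iff.rfl
      kill := fun x hx => hx.elim
      ker := fun x hx => by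
        rw [show (x : G) = 1 from hx]
        exact one_mem _
      conj := fun g _ x hx => hD.2.1 g x hx }
  have L24 := local24 hD hprim h
  refine W₀.climb (S24.coverHyp L24.mu (by norm_num) (by norm_num)) hprim hD S24.width
    (fun hz => by simp [parityGroup, oddOne, Prod.ext_iff] at hz) fun a ha hap => ?_
  set r₀ : Subgroup.closure D := ⟨a, Subgroup.subset_closure ha⟩
  obtain ⟨π₁, M₁⟩ := S24.base a ha
  obtain ⟨π₁', W₁⟩ := W₀.next hD (r := r₀) ha hap (π₁ := π₁) M₁ (hself24 a ha)
    (fun c hc => center_cases S24 ha hc)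
  have hg23 := hB.img_group
  refine W₁.climb (S23.coverHyp L23.mu (by norm_num) (by norm_num)) hp23 hg23 S23.width
    ?_ fun b hb hbp => ?_
  · intro hz
    refine small [a] (by simp) (by simp) (by simp [ha]) (by simp) ?_
    convert hz using 2
    ext x; simp [r₀]
  set r₁ : Subgroup.closure {y | y ∈ D ∧ Commute (r₀ : G) y} := ⟨b, Subgroup.subset_closure hb⟩
  have hr₁ := W₁.mem r₁ hb hbp
  obtain ⟨π₂, M₂⟩ := S23.base _ hr₁
  obtain ⟨π₂', W₂⟩ := W₁.next hg23 (r := r₁) hb hbp (π₁ := π₂) M₂ (hq23 _ hr₁).1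
    (fun c hc => center_cases S23 hr₁ hc)
  have hg22 := hB'.img_group
  have hab : Commute a b := hb.2
  have hba : b ≠ a := fun e => hbp (Or.inl e)
  refine W₂.climb (S22.coverHyp L22.mu (by norm_num) (by norm_num)) hp22 hg22 S22.width
    ?_ fun c hcS hcp => ?_
  · intro hz
    refine small [b, a] (by simp [hba]) (by simp) (by simp [ha, hb.1]) ?_ ?_
    · simp only [List.mem_cons, List.not_mem_nil, or_false]
      rintro p (rfl | rfl) q (rfl | rfl)
      exacts [Commute.refl _, hab.symm, hab, Commute.refl _]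
    · convert hz using 2
      ext x; simp [r₀, r₁]
  set r₂ : Subgroup.closure {y | y ∈ {y | y ∈ D ∧ Commute (r₀ : G) y} ∧ Commute (r₁ : G) y} :=
    ⟨c, Subgroup.subset_closure hcS⟩
  have hr₂ := W₂.mem r₂ hcS hcp
  obtain ⟨π₃, M₃⟩ := S22.base _ hr₂
  obtain ⟨π₃', W₃⟩ := W₂.next hg22 (r := r₂) hcS hcp (π₁ := π₃) M₃ (hq22 _ hr₂).1
    (fun x hx => center_cases S22 hr₂ hx)
  -- the bottom
  have hca : c ≠ a := fun e => hcp (Or.inr (Or.inl e))
  have hcb : c ≠ b := fun e => hcp (Or.inl e)
  have hac : Commute a c := hcS.1.2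
  have hbc : Commute b c := hcS.2
  have hPnd : [c, b, a].Nodup := by simp [hca, hcb, hba]
  have hPm : ∀ p ∈ [c, b, a], p ∈ D := by simp [hcS.1.1, hb.1, ha]
  have hPc : ∀ p ∈ [c, b, a], ∀ q ∈ [c, b, a], Commute p q := by
    simp only [List.mem_cons, List.not_mem_nil, or_false]
    rintro p (rfl | rfl | rfl) q (rfl | rfl | rfl)
    exacts [Commute.refl _, hbc.symm, hac.symm, hbc, Commute.refl _, hab.symm, hac, hab, Commute.refl _]
  generalize hS₃ : ({y | y ∈ {y | y ∈ {y | y ∈ D ∧ Commute (r₀ : G) y} ∧ Commute (r₁ : G) y} ∧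
    Commute (r₂ : G) y} : Set G) = S₃ at π₃' W₃
  have hPiv : insert (r₂ : G) (insert (r₁ : G) (insert (r₀ : G) ∅)) = {x | x ∈ [c, b, a]} := by
    ext x; simp [r₀, r₁, r₂]
  rw [hPiv] at W₃
  have hline := USix.lineClass hF hT.set hT.conj hT.nonempty
  intro hz
  have hp3 := small _ hPnd (by simp) hPm hPc
  obtain ⟨K, _, _, ρ, L, z, himg, hsq, hconj, hgen, hz2, hρz, hz1, hker, hlift, -⟩ :=
    W₃.exists_cover (hT.group hF).2.2 hz hp3
  -- relations lift
  have lifts : ∀ l : List (Cfsg.PSU 6 F 2), (∀ e ∈ l, e ∈ imgSet _ d₂ π₀) →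
      ∃ xs : List (Subgroup.closure S₃), xs.map π₃' = l ∧ ∀ x ∈ xs, (x : G) ∈ S₃ ∧ (x : G) ∉ {x | x ∈ [c, b, a]} := by
    intro l hl
    induction l with
    | nil => exact ⟨[], rfl, by simp⟩
    | cons e t ih =>
      obtain ⟨T, hTe, hTm⟩ := ih fun y hy => hl y (List.mem_cons_of_mem _ hy)
      obtain ⟨x, hx, hxp, hxe⟩ := W₃.onto e (hl e (by simp))
      refine ⟨x :: T, by rw [List.map_cons, hTe, hxe], fun y hy => ?_⟩
      rcases List.mem_cons.1 hy with rfl | hy
      exacts [⟨hx, hxp⟩, hTm y hy]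
  -- the pivots in the product of the lifts of a relation
  have split : ∀ l : List (Cfsg.PSU 6 F 2), l.Nodup → (∀ e ∈ l, e ∈ imgSet _ d₂ π₀) →
      (∀ e ∈ l, ∀ e' ∈ l, Commute e e') → l.prod = 1 →
      ∀ xs : List (Subgroup.closure S₃), xs.map π₃' = l →
        (∀ x ∈ xs, (x : G) ∈ S₃ ∧ (x : G) ∉ {x | x ∈ [c, b, a]}) →
      ∃ s : List G, s.Sublist [c, b, a] ∧ (xs.prod : G) = s.prod ∧ (xs.map Subtype.val).Nodup ∧
        (∀ y ∈ xs.map Subtype.val, y ∈ D) ∧ (∀ y ∈ xs.map Subtype.val, ∀ y' ∈ xs.map Subtype.val, Commute y y') ∧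
        (∀ y ∈ xs.map Subtype.val, ∀ p ∈ s, Commute y p ∧ y ≠ p) ∧
        ¬ NoRel D (l.length + s.length) := by
    intro l hnd hm hc hp xs hxs hxm
    obtain ⟨s, hs', he⟩ := exists_sublist_prod [c, b, a] (fun p hp => mul_self hs (hPm p hp)) hPc _
      (W₃.ker xs.prod (by rw [map_list_prod, hxs, hp]))
    have hnd' : (xs.map Subtype.val).Nodup := ((hxs.symm ▸ hnd : (xs.map π₃').Nodup).of_map _).map Subtype.val_injective
    have hmD : ∀ y ∈ xs.map Subtype.val, y ∈ D := by
      intro y hy
      obtain ⟨x, hx, rfl⟩ := List.mem_map.1 hy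
      exact W₃.sub (hxm x hx).1
    have hcG : ∀ y ∈ xs.map Subtype.val, ∀ y' ∈ xs.map Subtype.val, Commute y y' := by
      intro y hy y' hy'
      obtain ⟨x, hx, rfl⟩ := List.mem_map.1 hy
      obtain ⟨x', hx', rfl⟩ := List.mem_map.1 hy'
      exact (W₃.comm x x' (hxm x hx).1 (hxm x hx).2 (hxm x' hx').1 (hxm x' hx').2).1
        (hc _ (hxs ▸ List.mem_map_of_mem hx) _ (hxs ▸ List.mem_map_of_mem hx'))
    have hcs : ∀ y ∈ xs.map Subtype.val, ∀ p ∈ s, Commute y p ∧ y ≠ p := by
      intro y hy p hp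
      obtain ⟨x, hx, rfl⟩ := List.mem_map.1 hy
      exact ⟨(W₃.central p (hs'.subset hp) _ (hxm x hx).1).symm, fun e => (hxm x hx).2 (e ▸ hs'.subset hp)⟩
    refine ⟨s, hs', he, hnd', hmD, hcG, hcs, fun hno => hno (xs.map Subtype.val ++ s) ?_ ?_ ?_ ?_ ?_⟩
    · rw [List.nodup_append]
      exact ⟨hnd', hPnd.sublist hs', fun y hy p hp => (hcs y hy p hp).2⟩
    · rw [← hxs]; simp
    · intro y hy
      rcases List.mem_append.1 hy with hy | hy
      exacts [hmD y hy, hPm y (hs'.subset hy)]
    · intro y hy y' hy'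
      rcases List.mem_append.1 hy with hy | hy <;> rcases List.mem_append.1 hy' with hy' | hy'
      exacts [hcG y hy y' hy', (hcs y hy y' hy').1, (hcs y' hy' y hy).1.symm,
        hPc y (hs'.subset hy) y' (hs'.subset hy')]
    · have hp' : (xs.map Subtype.val).prod = (xs.prod : G) := (map_list_prod (Subgroup.closure S₃).subtype xs).symm
      rw [List.prod_append, hp', he]
      exact IsProd.sq (n := s.length) hs ⟨s, hPnd.sublist hs', rfl, fun p hp => hPm p (hs'.subset hp),
        fun p hp q hq => hPc p (hs'.subset hp) q (hs'.subset hq), rfl⟩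
  have five_odd : ∀ l : List (Cfsg.PSU 6 F 2), l.length = 5 → ∀ s : List G, s.Sublist [c, b, a] →
      ¬ NoRel D (l.length + s.length) → s.length = 3 := by
    intro l hl s hs' hno
    have hle : s.length ≤ 3 := by simpa using hs'.length_le
    by_contra hne
    exact hno (hrel _ (by omega) (by omega))
  have hrelK : ∀ l : List (Cfsg.PSU 6 F 2), l.Nodup → (l.length = 5 ∨ l.length = 6) →
      (∀ e ∈ l, e ∈ imgSet _ d₂ π₀) → (∀ e ∈ l, ∀ e' ∈ l, Commute e e') → l.prod = 1 → (l.map L).prod = 1 := by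
    intro l hnd hlen hm hc hp
    obtain ⟨xs, rfl, hxm⟩ := lifts l hm
    obtain ⟨s, hs', he, hnd', hmD, hcG, hcs, hno⟩ := split _ hnd hm hc hp xs rfl hxm
    refine hlift xs hxm ?_
    have hpar : (xs.length : ZMod 2) = (s.length : ZMod 2) := by
      have hle : s.length ≤ 3 := by simpa using hs'.length_le
      rw [List.length_map] at hlen hno
      rcases hlen with h5 | h6
      · rw [h5, five_odd (xs.map π₃') (by simp [h5]) s hs' (by simpa using hno)]; decide
      · have h7 : s.length = 2 ∨ s.length = 3 := by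
          by_contra hne
          push Not at hne
          exact hno (hrel _ (by omega) (by omega))
        rcases h7 with h2 | h3
        · rw [h6, h2]; decide
        exfalso
        obtain ⟨x₀, x₁, rest, rfl⟩ : ∃ x₀ x₁ rest, xs = x₀ :: x₁ :: rest := by
          rcases xs with _ | ⟨x₀, _ | ⟨x₁, rest⟩⟩
          · simp at h6
          · simp at h6
          · exact ⟨x₀, x₁, rest, rfl⟩
        have m0 : π₃' x₀ ∈ (x₀ :: x₁ :: rest).map π₃' := by simp
        have m1 : π₃' x₁ ∈ (x₀ :: x₁ :: rest).map π₃' := by simp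
        have hne01 : π₃' x₀ ≠ π₃' x₁ := by
          intro e
          simp only [List.map_cons, List.nodup_cons] at hnd
          exact hnd.1 (by rw [e]; exact List.mem_cons_self ..)
        obtain ⟨e, f, g, hn5, hm5, hc5, hp5, -⟩ :=
          hline.line _ (hm _ m0) _ (hm _ m1) hne01 (hc _ m0 _ m1)
        obtain ⟨ys, hys, hym⟩ := lifts _ hm5
        obtain ⟨s', hs'', he', hndy, hmy, hcy, -, hno'⟩ := split _ hn5 hm5 hc5 hp5 ys hys hym
        have h3' := five_odd _ rfl s' hs'' hno'
        rw [hs'.eq_of_length (by simp [h3])] at he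
        rw [hs''.eq_of_length (by simp [h3'])] at he'
        have hylen : ys.length = 5 := by simpa using congrArg List.length hys
        have e0 : (x₀ : G) ∈ ys.map Subtype.val ∧ (x₁ : G) ∈ ys.map Subtype.val := by
          have key : ∀ x : Subgroup.closure S₃, (x : G) ∈ S₃ → (x : G) ∉ {x | x ∈ [c, b, a]} →
              π₃' x ∈ [π₃' x₀, π₃' x₁, e, f, g] → (x : G) ∈ ys.map Subtype.val := by
            intro x hx hxp hmem
            rw [← hys] at hmem
            obtain ⟨y, hy, e⟩ := List.mem_map.1 hmem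
            obtain rfl := W₃.inj y x (hym y hy).1 (hym y hy).2 hx hxp e
            exact List.mem_map_of_mem hy
          exact ⟨key x₀ (hxm x₀ (by simp)).1 (hxm x₀ (by simp)).2 (by simp),
            key x₁ (hxm x₁ (by simp)).1 (hxm x₁ (by simp)).2 (by simp)⟩
        have hcross : ∀ y ∈ ys.map Subtype.val, ∀ x ∈ (x₀ :: x₁ :: rest).map Subtype.val, Commute y x := by
          intro y hy x hx
          obtain ⟨y', hy', rfl⟩ := List.mem_map.1 hy
          obtain ⟨x', hx', rfl⟩ := List.mem_map.1 hx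
          refine (W₃.comm y' x' (hym y' hy').1 (hym y' hy').2 (hxm x' hx').1 (hxm x' hx').2).1 (Commute.symm ?_)
          have mx : π₃' x' ∈ (x₀ :: x₁ :: rest).map π₃' := List.mem_map_of_mem hx'
          exact hline.five _ hn5 rfl hm5 hc5 hp5 _ (by simp) _ (by simp) hne01 _ (hys ▸ List.mem_map_of_mem hy')
            _ (hm _ mx) (hc _ mx _ m0) (hc _ mx _ m1)
        obtain ⟨cc, r, hr, hc2, hno2⟩ := rel_of_prod_eq hs hnd' hndy hmD hmy hcG hcy hcross (by
          rw [show ((x₀ :: x₁ :: rest).map Subtype.val).prod = ((x₀ :: x₁ :: rest).prod : G) from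
            (map_list_prod (Subgroup.closure S₃).subtype _).symm,
            show (ys.map Subtype.val).prod = (ys.prod : G) from (map_list_prod (Subgroup.closure S₃).subtype _).symm,
            he, he'])
        have hne' : (x₀ : G) ≠ x₁ := fun e => hne01 (congrArg π₃' (Subtype.ext e))
        have := hc2 x₀ x₁ hne' (by simp) e0.1 (by simp) e0.2
        simp only [List.length_map] at hr
        rw [h6, hylen] at hr
        exact hno2 (hrel r (by omega) (by omega))
    rw [hpar, he]
    have hsP : ((s.prod), Multiplicative.ofAdd (s.length : ZMod 2)) ∈ parityGroup {x | x ∈ [c, b, a]} := by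
      rw [← par_prod]
      refine list_prod_mem fun y hy => ?_
      obtain ⟨p, hp, rfl⟩ := List.mem_map.1 hy
      exact Subgroup.subset_closure ⟨p, hs'.subset hp, rfl⟩
    exact hsP
  exact USix.Lifted.no_cover (L := L) hF ⟨hT, himg, hsq, hconj, hrelK⟩ hz2 hρz hz1 hker (hgen ▸ Subgroup.mem_top z)

/-- The parity homomorphism of a group of type M(24). -/
theorem exists_parityHom24 (hD : Cfsg.IsThreeTranspositionGroup D) (hprim : Cfsg.IsPrimitiveUnderConj D)
    (h : Cfsg.IsOfTypeM24 G D) : ∃ χ : G →* Multiplicative (ZMod 2), ∀ a ∈ D, χ a = Multiplicative.ofAdd 1 := by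
  have hpar := parity24 hD hprim h
  have hfst : Function.Bijective ((MonoidHom.fst G (Multiplicative (ZMod 2))).comp (parityGroup D).subtype) := by
    constructor
    · refine (injective_iff_map_eq_one _).2 ?_
      rintro ⟨⟨g, ε⟩, hk⟩ e
      obtain rfl : g = 1 := e
      rcases zmod_two_cases ε with rfl | rfl
      · rfl
      · exact absurd hk hpar
    · intro g
      obtain ⟨ε, hε⟩ := exists_parity (S := D) (g := g) (hD.2.2.symm ▸ Subgroup.mem_top g)
      exact ⟨⟨_, hε⟩, rfl⟩
  let χ : G →* Multiplicative (ZMod 2) := ((MonoidHom.snd G (Multiplicative (ZMod 2))).comp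
    (parityGroup D).subtype).comp (MulEquiv.ofBijective _ hfst).symm.toMonoidHom
  have hχ : ∀ a ∈ D, χ a = Multiplicative.ofAdd 1 := by
    intro a ha
    have : (MulEquiv.ofBijective _ hfst).symm a = (⟨par a, Subgroup.subset_closure ⟨a, ha, rfl⟩⟩ : parityGroup D) :=
      (MulEquiv.ofBijective _ hfst).symm_apply_eq.2 rfl
    show ((MulEquiv.ofBijective _ hfst).symm a : G × Multiplicative (ZMod 2)).2 = _
    rw [this]; rfl
  exact ⟨χ, hχ⟩

/-- Members of a group of type M(24) lie outside the commutator subgroup. -/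
theorem notMem_commutator24 (hD : Cfsg.IsThreeTranspositionGroup D) (hprim : Cfsg.IsPrimitiveUnderConj D)
    (h : Cfsg.IsOfTypeM24 G D) {a : G} (ha : a ∈ D) : a ∉ commutator G := by
  intro hm
  obtain ⟨χ, hχ⟩ := exists_parityHom24 hD hprim h
  have h1 := MonoidHom.mem_ker.1 (Abelianization.commutator_subset_ker χ hm)
  rw [hχ a ha] at h1
  exact absurd h1 (by decide)

/-- The layer of a group of type M(24) has index two. -/
theorem layer_index24 (hD : Cfsg.IsThreeTranspositionGroup D) (hprim : Cfsg.IsPrimitiveUnderConj D)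
    (h : Cfsg.IsOfTypeM24 G D) : (Cfsg.layer G).index = 2 := by
  obtain ⟨d₀, c₀, -, -, hB, h23⟩ := bottom24 hD hprim h
  have S := stage_of_base hD hprim h.1 (local23 hB.img_group (prim23 hD hprim hB h23) h23) hB rfl
  have hC := S.classTwo
  have hcores := hC.cores_of_primitive hprim S.width
  obtain ⟨L, hL⟩ := hC.exists_component hcores.1 hcores.2
  rw [hC.layer_eq hL]
  refine le_antisymm (hC.index_le_two_of_connected hL (hC.connected_of_primitive hprim S.width)) ?_
  obtain ⟨χ, hχ⟩ := exists_parityHom24 hD hprim h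
  have := hC.component_normal hL
  have hle : L ≤ χ.ker := by
    intro g hg
    have h1 : (χ.comp L.subtype).ker = ⊤ := by
      rw [eq_top_iff, ← hL.2.1.commutator_eq_top]
      exact Abelianization.commutator_subset_ker _
    have h2 : (⟨g, hg⟩ : L) ∈ (χ.comp L.subtype).ker := by rw [h1]; exact Subgroup.mem_top _
    exact MonoidHom.mem_ker.2 (MonoidHom.mem_ker.1 h2)
  obtain ⟨a, ha, -⟩ := hC.two
  have hne : L ≠ ⊤ := by
    intro e
    have h1 := MonoidHom.mem_ker.1 (hle (e.symm ▸ Subgroup.mem_top a))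
    rw [hχ a ha] at h1
    exact absurd h1 (by decide)
  have h1 : L.index ≠ 1 := fun e => hne (Subgroup.index_eq_one.1 e)
  have h0 : L.index ≠ 0 := Subgroup.index_ne_zero_of_finite
  omega

/-- The order of a group of type M(24). -/
theorem order24 (hD : Cfsg.IsThreeTranspositionGroup D) (hprim : Cfsg.IsPrimitiveUnderConj D)
    (h : Cfsg.IsOfTypeM24 G D) : Nat.card G = 306936 * (2 * (31671 * (2 * 64561751654400))) := by
  obtain ⟨d, c, -, -, hB, h23⟩ := bottom24 hD hprim h
  have hp := prim23 hD hprim hB h23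
  have L := local24 hD hprim h
  have S := stage_of_base hD hprim h.1 (local23 hB.img_group hp h23) hB rfl
  rw [card_group hD hprim.1 hB.mem, L.card, card_centralizer S L hB.mem, order23 hB.img_group hp h23]

end CfsgLib.ThreeTrans.TypeTop
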