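import Mathlib
import Cfsg.Agent.Lib.ThreeTrans.Tower.Bases
import Cfsg.Agent.Lib.ThreeTrans.TypeTop.InvolutionTypes
import Cfsg.Agent.Lib.ThreeTrans.TypeTop.Width

/-! In type M(22) an involution outside the subgroup generated by a base fixes at most six of its members, so that
subgroup is the only elementary abelian subgroup of its order in a 2-subgroup preserving the base. -/

set_option autoImplicit false

namespace CfsgLib.ThreeTrans.TypeTop

open CfsgLib.ThreeTrans CfsgLib.ThreeTrans.Tower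

variable {G : Type*} [Group G] {D B : Set G}

/-- The members of a base fixed by all of a subgroup. -/
def fixIn (B : Set G) (K : Subgroup G) : Set G := {b | b ∈ B ∧ ∀ k ∈ K, Commute k b}

/-- The orbit of a member under a subgroup. -/
def orb (K : Subgroup G) (b : G) : Set G := (fun k : K => (k : G) * b * (k : G)⁻¹) '' Set.univ

theorem mem_orb_self (K : Subgroup G) (b : G) : b ∈ orb K b := ⟨1, trivial, by simp⟩

theorem card_orb [Finite G] (K : Subgroup G) (b : G) :
    Nat.card K = (orb K b).ncard * Nat.card ↥(K ⊓ Subgroup.centralizer ({b} : Set G)) := by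
  classical
  let f : K → orb K b := fun k => ⟨(k : G) * b * (k : G)⁻¹, k, trivial, rfl⟩
  have hf : Function.Surjective f := by rintro ⟨_, k, -, rfl⟩; exact ⟨k, rfl⟩
  let e : K ≃ orb K b × ↥(K ⊓ Subgroup.centralizer ({b} : Set G)) :=
    { toFun := fun k => (f k, ⟨((Function.surjInv hf (f k) : K) : G)⁻¹ * (k : G),
        K.mul_mem (K.inv_mem (Function.surjInv hf (f k)).2) k.2, Subgroup.mem_centralizer_singleton_iff.2 (by
          have h : ((Function.surjInv hf (f k) : K) : G) * b * ((Function.surjInv hf (f k) : K) : G)⁻¹ =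
              (k : G) * b * (k : G)⁻¹ := congrArg Subtype.val (Function.surjInv_eq hf (f k))
          set s := ((Function.surjInv hf (f k) : K) : G)
          calc s⁻¹ * (k : G) * b = s⁻¹ * ((k : G) * b * (k : G)⁻¹) * k := by group
            _ = s⁻¹ * (s * b * s⁻¹) * k := by rw [h]
            _ = b * (s⁻¹ * (k : G)) := by group)⟩)
      invFun := fun p => ⟨((Function.surjInv hf p.1 : K) : G) * (p.2 : G),
        K.mul_mem (Function.surjInv hf p.1).2 p.2.2.1⟩
      left_inv := fun k => Subtype.ext (by simp)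
      right_inv := fun p => by
        have hp : f ⟨((Function.surjInv hf p.1 : K) : G) * (p.2 : G), K.mul_mem (Function.surjInv hf p.1).2 p.2.2.1⟩ = p.1 := by
          refine Subtype.ext ?_
          show _ * _ * b * (_ * _)⁻¹ = _
          have h2 : (p.2 : G) * b = b * (p.2 : G) := Subgroup.mem_centralizer_singleton_iff.1 p.2.2.2
          have h : ((Function.surjInv hf p.1 : K) : G) * b * ((Function.surjInv hf p.1 : K) : G)⁻¹ = (p.1 : G) :=
            congrArg Subtype.val (Function.surjInv_eq hf p.1)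
          rw [mul_inv_rev, ← mul_assoc, mul_assoc ((Function.surjInv hf p.1 : K) : G) (p.2 : G) b, h2, ← mul_assoc,
            mul_inv_cancel_right, h]
        refine Prod.ext hp (Subtype.ext ?_)
        show ((Function.surjInv hf (f _) : K) : G)⁻¹ * _ = _
        rw [hp, inv_mul_cancel_left] }
  rw [Nat.card_congr e, Nat.card_prod, Nat.card_coe_set_eq]

/-- Half of a finite set is at most an image with fibres of at most two. -/
theorem ncard_le_two_mul {α β : Type*} [Finite α] (f : α → β) (M : Set α)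
    (h : ∀ a ∈ M, ∃ a', ∀ c ∈ M, f c = f a → c = a ∨ c = a') : M.ncard ≤ 2 * (f '' M).ncard := by
  classical
  have hM := M.toFinite
  rw [← hM.coe_toFinset, Set.ncard_coe_finset, ← Finset.coe_image, Set.ncard_coe_finset]
  refine Finset.card_le_mul_card_image _ 2 fun b hb => ?_
  obtain ⟨a, ha, rfl⟩ := Finset.mem_image.1 hb
  obtain ⟨a', ha'⟩ := h a (hM.mem_toFinset.1 ha)
  refine (Finset.card_le_card (t := {a, a'}) fun c hc => ?_).trans Finset.card_le_two
  simp only [Finset.mem_filter, Set.Finite.mem_toFinset] at hc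
  simpa using ha' c hc.1 hc.2

section Base

variable [Finite G] (hs : Cfsg.IsThreeTranspositionSet D) (hB : IsBase22 D B)
  (hprod : ∀ x : G, x * x = 1 → x ≠ 1 → ∃ n, 1 ≤ n ∧ n ≤ 3 ∧ IsProd D n x) (h4 : NoRel D 4)

include hs hB hprod

/-- An involution outside the subgroup of a base fixes at most six of its members. -/
theorem fixed_le_six {g : G} (hg : g * g = 1) (hgA : g ∉ Subgroup.closure B) :
    {b | b ∈ B ∧ Commute g b}.ncard ≤ 6 := by
  classical
  obtain ⟨n, h1, h3, l, hnd, hlen, hmem, hcm, rfl⟩ := hprod g hg fun e => hgA (e ▸ one_mem _)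
  obtain ⟨u, hu, huB⟩ : ∃ u ∈ l, u ∉ B := by
    by_contra! h
    exact hgA (Subgroup.list_prod_mem _ fun x hx => Subgroup.subset_closure (h x hx))
  have hsub : {b | b ∈ B ∧ Commute l.prod b} ⊆ {b | b ∈ B ∧ Commute u b} := by
    rintro b ⟨hb, hbg⟩
    refine ⟨hb, ?_⟩
    have hbD := hB.sub hb
    interval_cases n
    · obtain ⟨a, rfl⟩ := List.length_eq_one_iff.1 hlen
      simp only [List.mem_singleton] at hu
      subst hu
      simpa using hbg
    · obtain ⟨a, c, rfl⟩ := List.length_eq_two.1 hlen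
      simp only [List.nodup_cons, List.mem_cons, List.not_mem_nil, or_false] at hnd hu hmem hcm
      have h := commute_of_commute_two hs (hmem a (by simp)) (hmem c (by simp)) hbD hnd.1 (hcm a (by simp) c (by simp))
        (by simpa using hbg.symm)
      rcases hu with rfl | rfl
      exacts [h.1.symm, h.2.symm]
    · obtain ⟨a, c, e, rfl⟩ := List.length_eq_three.1 hlen
      simp only [List.nodup_cons, List.mem_cons, List.not_mem_nil, or_false, not_or] at hnd hu hmem hcm
      by_cases hbe : b = e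
      · subst hbe
        exact hcm u hu b (by simp)
      have h := commute_of_commute_three hs (hmem a (by simp)) (hmem c (by simp)) (hmem e (by simp)) hbD hnd.1.1
        hnd.1.2 hnd.2.1 (hcm a (by simp) c (by simp)) (hcm a (by simp) e (by simp)) (hcm c (by simp) e (by simp)) hbe
        (by simpa [mul_assoc] using hbg.symm)
      rcases hu with rfl | rfl | rfl
      exacts [h.1.symm, h.2.1.symm, h.2.2.symm]
  refine (Set.ncard_le_ncard hsub (Set.toFinite _)).trans ?_
  rcases ({b | b ∈ B ∧ Commute u b}).eq_empty_or_nonempty with h | ⟨b, hb, hbu⟩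
  · rw [h, Set.ncard_empty]; norm_num
  · rw [hB.outside u (hmem u hu) huB b hb hbu]

include h4 in
/-- The elementary abelian subgroups preserving a base are smaller than its subgroup, or inside it. -/
theorem card_lt_base {E : Subgroup G} (hE : Cfsg.IsElementaryAbelian 2 E)
    (hperm : ∀ g ∈ E, ∀ b ∈ B, g * b * g⁻¹ ∈ B) (hEA : ¬ E ≤ Subgroup.closure B) :
    Nat.card E < Nat.card (Subgroup.closure B) := by
  classical
  set A := Subgroup.closure B with hA
  have hsq : ∀ g ∈ E, g * g = 1 := fun g hg => by rw [← pow_two]; exact hE.2 g hg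
  have hinv : ∀ g ∈ E, g⁻¹ = g := fun g hg => inv_eq_of_mul_eq_one_right (hsq g hg)
  have hcomE : ∀ g ∈ E, ∀ h ∈ E, Commute g h := fun g hg h hh => by
    haveI := hE.1
    exact setLike_mul_comm hg hh
  haveI hAc : IsMulCommutative A := Subgroup.isMulCommutative_closure fun x hx y hy => (hB.comm x hx y hy).eq
  have hAcomm : ∀ x ∈ A, ∀ y ∈ A, Commute x y := fun x hx y hy => setLike_mul_comm hx hy
  have hAsq : ∀ x ∈ A, x * x = 1 := by
    intro x hx
    induction hx using Subgroup.closure_induction with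
    | mem y hy => exact mul_self hs (hB.sub hy)
    | one => simp
    | mul p q hp hq ihp ihq =>
      rw [show p * q * (p * q) = p * (q * p) * q by simp [mul_assoc], (hAcomm q hq p hp).eq,
        show p * (p * q) * q = p * p * (q * q) by simp [mul_assoc], ihp, ihq, mul_one]
    | inv p hp ihp => rw [← mul_inv_rev, ihp, inv_one]
  have hconjA : ∀ g ∈ E, ∀ x ∈ A, g * x * g⁻¹ ∈ A := by
    intro g hg x hx
    induction hx using Subgroup.closure_induction with
    | mem y hy => exact Subgroup.subset_closure (hperm g hg y hy)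
    | one => simp
    | mul p q _ _ ihp ihq =>
      rw [show g * (p * q) * g⁻¹ = g * p * g⁻¹ * (g * q * g⁻¹) by group]; exact mul_mem ihp ihq
    | inv p _ ihp => rw [show g * p⁻¹ * g⁻¹ = (g * p * g⁻¹)⁻¹ by group]; exact inv_mem ihp
  -- fixed points
  have hsix : ∀ g ∈ E, g ∉ A → {b | b ∈ B ∧ Commute g b}.ncard ≤ 6 := fun g hg hgA =>
    fixed_le_six hs hB hprod (hsq g hg) hgA
  set E₀ := E ⊓ A with hE₀
  have hfixle : ∀ K : Subgroup G, K ≤ E → ¬ K ≤ E₀ → (fixIn B K).ncard ≤ 6 := by
    intro K hKE hK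
    obtain ⟨g, hgK, hg⟩ := SetLike.not_le_iff_exists.1 hK
    exact (Set.ncard_le_ncard (t := {b | b ∈ B ∧ Commute g b}) (fun b hb => ⟨hb.1, hb.2 g hgK⟩) (Set.toFinite _)).trans
      (hsix g (hKE hgK) fun h => hg (Subgroup.mem_inf.2 ⟨hKE hgK, h⟩))
  -- orbits
  have horbB : ∀ K : Subgroup G, K ≤ E → ∀ b ∈ B, orb K b ⊆ B := by
    rintro K hKE b hb _ ⟨k, -, rfl⟩
    exact hperm k (hKE k.2) b hb
  have horbfix : ∀ K : Subgroup G, K ≤ E → ∀ b ∈ B,
      fixIn B K ∪ orb K b ⊆ fixIn B (K ⊓ Subgroup.centralizer ({b} : Set G)) := by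
    intro K hKE b hb x hx
    rcases hx with hx | hx
    · exact ⟨hx.1, fun k hk => hx.2 k hk.1⟩
    · refine ⟨horbB K hKE b hb hx, fun k hk => ?_⟩
      obtain ⟨j, -, rfl⟩ := hx
      have hkb : Commute k b := Subgroup.mem_centralizer_singleton_iff.1 hk.2
      have hkj : Commute k (j : G) := hcomE k (hKE hk.1) j (hKE j.2)
      exact (hkj.mul_right hkb).mul_right hkj.inv_right
  have hdisj : ∀ K : Subgroup G, ∀ b ∈ B, b ∉ fixIn B K → Disjoint (fixIn B K) (orb K b) := by
    intro K b hb hbn
    refine Set.disjoint_left.2 fun x hx hx' => hbn ⟨hb, fun k hk => ?_⟩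
    obtain ⟨j, -, rfl⟩ := hx'
    have := hx.2 ((j : G) * k * (j : G)⁻¹) (mul_mem (mul_mem j.2 hk) (inv_mem j.2))
    exact (commute_conj_iff (j : G) k b).1 this
  have hpow : ∀ K : Subgroup G, K ≤ E → ∀ b, ∃ j, (orb K b).ncard = 2 ^ j := by
    intro K hKE b
    haveI : Fact (Nat.Prime 2) := ⟨Nat.prime_two⟩
    have hKp : IsPGroup 2 K := fun k => ⟨1, Subtype.ext (by
      rw [pow_one, SubgroupClass.coe_pow]; exact hE.2 k (hKE k.2))⟩
    obtain ⟨n, hn⟩ := IsPGroup.iff_card.1 hKp
    obtain ⟨j, -, hj⟩ := (Nat.dvd_prime_pow Nat.prime_two).1 (hn ▸ Dvd.intro _ (card_orb K b).symm :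
      (orb K b).ncard ∣ 2 ^ n)
    exact ⟨j, hj⟩
  -- the index of the part in the subgroup of the base
  have h16 : Nat.card E ≤ 16 * Nat.card E₀ := by
    by_contra! hbig
    have hnot : ∀ K : Subgroup G, ∀ i, Nat.card E ≤ 2 ^ i * Nat.card K → i ≤ 4 → ¬ K ≤ E₀ := by
      intro K i hK hi hle
      have h1 := Subgroup.card_le_of_le hle
      have h2 : 2 ^ i ≤ 2 ^ 4 := Nat.pow_le_pow_right (by norm_num) hi
      have h3 : 2 ^ i * Nat.card K ≤ 16 * Nat.card E₀ := Nat.mul_le_mul (by simpa using h2) h1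
      omega
    -- orbits of length at most four
    have ho4 : ∀ b ∈ B, (orb E b).ncard ≤ 4 := by
      intro b hb
      obtain ⟨j, hj⟩ := hpow E le_rfl b
      have h22 : (orb E b).ncard ≤ 22 := hB.card ▸ Set.ncard_le_ncard (horbB E le_rfl b hb) (Set.toFinite _)
      have hj4 : j ≤ 4 := by
        by_contra! h
        have : 2 ^ 5 ≤ 2 ^ j := Nat.pow_le_pow_right (by norm_num) h
        omega
      have hK := hnot (E ⊓ Subgroup.centralizer ({b} : Set G)) j (by rw [← hj, ← card_orb]) hj4
      have h6 := hfixle _ inf_le_left hK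
      have h7 : (orb E b).ncard ≤ 6 := (Set.ncard_le_ncard
        (Set.subset_union_right.trans (horbfix E le_rfl b hb)) (Set.toFinite _)).trans h6
      by_contra! h
      have : 3 ≤ j := by
        by_contra! h'
        have : 2 ^ j ≤ 2 ^ 2 := Nat.pow_le_pow_right (by norm_num) (by omega)
        omega
      have : 2 ^ 3 ≤ 2 ^ j := Nat.pow_le_pow_right (by norm_num) this
      omega
    -- descent
    have descend : ∀ r i : ℕ, i + r = 4 → ∀ K : Subgroup G, K ≤ E → Nat.card E ≤ 2 ^ i * Nat.card K →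
        2 * i ≤ (fixIn B K).ncard → (∀ c ∈ B, c ∉ fixIn B K → (orb E c).ncard ≤ 2) → False := by
      intro r
      induction r with
      | zero =>
        intro i hi K hKE hK hfix _
        have := hfixle K hKE (hnot K i hK (by omega))
        omega
      | succ r ih =>
        intro i hi K hKE hK hfix horb
        have h6 := hfixle K hKE (hnot K i hK (by omega))
        obtain ⟨c, hc, hcn⟩ := Set.exists_mem_notMem_of_ncard_lt_ncard (s := fixIn B K) (t := B)
          (by rw [hB.card]; omega)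
        have hle2 : (orb K c).ncard ≤ 2 := (Set.ncard_le_ncard (fun x hx => by
          obtain ⟨k, -, rfl⟩ := hx
          exact ⟨⟨k, hKE k.2⟩, trivial, rfl⟩) (Set.toFinite _)).trans (horb c hc hcn)
        have hge2 : 2 ≤ (orb K c).ncard := by
          by_contra! h
          refine hcn ⟨hc, fun k hk => ?_⟩
          have hkm : k * c * k⁻¹ ∈ orb K c := ⟨⟨k, hk⟩, trivial, rfl⟩
          exact mul_inv_eq_iff_eq_mul.1
            ((Set.ncard_le_one (Set.toFinite _)).1 (by omega) _ hkm _ (mem_orb_self K c))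
        have hcard := card_orb K c
        refine ih (i + 1) (by omega) (K ⊓ Subgroup.centralizer ({c} : Set G)) (inf_le_left.trans hKE) ?_ ?_ ?_
        · rw [show (orb K c).ncard = 2 by omega] at hcard
          rw [hcard] at hK
          calc Nat.card E ≤ _ := hK
            _ = _ := by ring
        · have h := Set.ncard_le_ncard (horbfix K hKE c hc) (Set.toFinite _)
          rw [Set.ncard_union_eq (hdisj K c hc hcn) (Set.toFinite _) (Set.toFinite _)] at h
          omega
        · exact fun d hd hdn => horb d hd fun h => hdn ⟨h.1, fun k hk => h.2 k hk.1⟩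
    by_cases hfour : ∃ b ∈ B, (orb E b).ncard = 4
    · obtain ⟨b, hb, hb4⟩ := hfour
      set K₁ := E ⊓ Subgroup.centralizer ({b} : Set G) with hK₁
      have hK₁c : Nat.card E = 4 * Nat.card K₁ := by rw [card_orb E b, hb4]
      have hfix₁ : orb E b ⊆ fixIn B K₁ := Set.subset_union_right.trans (horbfix E le_rfl b hb)
      refine descend 2 2 rfl K₁ inf_le_left (by rw [hK₁c]; norm_num) ?_ fun c hc hcn => ?_
      · have := Set.ncard_le_ncard hfix₁ (Set.toFinite _)
        omega
      · by_contra! h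
        have hc4 := ho4 c hc
        have hsub : orb K₁ c ⊆ orb E c := fun x hx => by
          obtain ⟨k, -, rfl⟩ := hx
          exact ⟨⟨k, k.2.1⟩, trivial, rfl⟩
        have hle := Set.ncard_le_ncard hsub (Set.toFinite _)
        have hd : Disjoint (orb E b) (orb E c) := by
          refine Set.disjoint_left.2 fun x hx hx' => hcn (hfix₁ ?_)
          obtain ⟨k, -, rfl⟩ := hx
          obtain ⟨j, -, hj⟩ := hx'
          replace hj : (j : G) * c * (j : G)⁻¹ = (k : G) * b * (k : G)⁻¹ := hj
          refine ⟨j⁻¹ * k, trivial, ?_⟩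
          show ((j⁻¹ * k : E) : G) * b * ((j⁻¹ * k : E) : G)⁻¹ = c
          rw [Subgroup.coe_mul, Subgroup.coe_inv,
            show (j : G)⁻¹ * k * b * ((j : G)⁻¹ * k)⁻¹ = (j : G)⁻¹ * ((k : G) * b * (k : G)⁻¹) * j by group, ← hj]
          group
        set K₂ := K₁ ⊓ Subgroup.centralizer ({c} : Set G) with hK₂
        have hbig2 : Nat.card E ≤ 2 ^ 4 * Nat.card K₂ := by
          rw [hK₁c, card_orb K₁ c]
          calc 4 * ((orb K₁ c).ncard * Nat.card K₂) ≤ 4 * (4 * Nat.card K₂) :=
              Nat.mul_le_mul le_rfl (Nat.mul_le_mul (by omega) le_rfl)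
            _ = _ := by ring
        have h6 := hfixle K₂ (inf_le_left.trans inf_le_left) (hnot K₂ 4 hbig2 le_rfl)
        have hsub2 : orb E b ∪ orb E c ⊆ fixIn B K₂ := by
          rintro x (hx | hx)
          · exact ⟨(hfix₁ hx).1, fun k hk => (hfix₁ hx).2 k hk.1⟩
          · have := horbfix E le_rfl c hc (Or.inr hx)
            exact ⟨this.1, fun k hk => this.2 k ⟨hk.1.1, hk.2⟩⟩
        have h8 := Set.ncard_le_ncard hsub2 (Set.toFinite _)
        rw [Set.ncard_union_eq hd (Set.toFinite _) (Set.toFinite _), hb4] at h8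
        omega
    · push Not at hfour
      refine descend 4 0 rfl E le_rfl (by simp) (by omega) fun c hc _ => ?_
      obtain ⟨j, hj⟩ := hpow E le_rfl c
      have h4' := ho4 c hc
      have hne := hfour c hc
      by_contra! h
      have hj2 : 2 ≤ j := by
        by_contra! h'
        have : 2 ^ j ≤ 2 ^ 1 := Nat.pow_le_pow_right (by norm_num) (by omega)
        omega
      have : 2 ^ 2 ≤ 2 ^ j := Nat.pow_le_pow_right (by norm_num) hj2
      omega
  -- an involution outside centralizes at most a sixteenth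
  obtain ⟨r, hrE, hrA⟩ := SetLike.not_le_iff_exists.1 hEA
  let φ : A →* A := MonoidHom.mk' (fun x => x * ⟨r * x * r⁻¹, hconjA r hrE x x.2⟩) fun x y => Subtype.ext (by
    show (x : G) * y * (r * (x * y) * r⁻¹) = x * (r * x * r⁻¹) * (y * (r * y * r⁻¹))
    have hc := hAcomm y y.2 _ (hconjA r hrE x x.2)
    calc (x : G) * y * (r * (x * y) * r⁻¹) = x * (y * (r * x * r⁻¹)) * (r * y * r⁻¹) := by group
      _ = x * ((r * x * r⁻¹) * y) * (r * y * r⁻¹) := by rw [hc.eq]
      _ = _ := by group)
  have hφ : ∀ x : A, φ x = 1 ↔ Commute r (x : G) := fun x => by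
    rw [← Subtype.coe_inj]
    show (x : G) * (r * x * r⁻¹) = 1 ↔ _
    rw [mul_eq_one_iff_inv_eq, inv_eq_of_mul_eq_one_right (hAsq x x.2)]
    exact ⟨fun h => (mul_inv_eq_iff_eq_mul.1 h.symm), fun h => (mul_inv_eq_iff_eq_mul.2 h.eq).symm⟩
  set C := A ⊓ Subgroup.centralizer ({r} : Set G) with hC
  have hker : Nat.card φ.ker = Nat.card C := Nat.card_congr
    { toFun := fun x => ⟨x, x.1.2, Subgroup.mem_centralizer_singleton_iff.2 ((hφ x).1 x.2).eq.symm⟩
      invFun := fun x => ⟨⟨x, x.2.1⟩, (hφ _).2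
        (show Commute r (x : G) from (Subgroup.mem_centralizer_singleton_iff.1 x.2.2).symm)⟩
      left_inv := fun _ => rfl
      right_inv := fun _ => rfl }
  -- a pair product determines the pair
  have hpairs : ∀ g ∈ E, ∀ b ∈ B, ∀ c ∈ B, g * b * g⁻¹ ≠ b → g * c * g⁻¹ ≠ c →
      c * (g * c * g⁻¹) = b * (g * b * g⁻¹) → c = b ∨ c = g * b * g⁻¹ := fun g hg b hb c hc hnb hnc e => by
    rcases Tower.pair_unique hs h4 (hB.sub hb) (hB.sub (hperm g hg b hb)) (Ne.symm hnb)
      (hB.comm b hb _ (hperm g hg b hb)) (hB.sub hc) (hB.sub (hperm g hg c hc)) (hB.comm c hc _ (hperm g hg c hc))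
      e with h | h
    exacts [Or.inl h.1, Or.inr h.1]
  have hrange : 16 ≤ Nat.card φ.range := by
    set M := {b : A | (b : G) ∈ B ∧ r * (b : G) * r⁻¹ ≠ b} with hM
    have hMc : 16 ≤ M.ncard := by
      have e : Subtype.val '' M = B \ {b | b ∈ B ∧ Commute r b} := by
        ext b
        constructor
        · rintro ⟨x, ⟨hx, hx'⟩, rfl⟩
          exact ⟨hx, fun h => hx' (mul_inv_eq_iff_eq_mul.2 h.2.eq)⟩
        · rintro ⟨hb, hb'⟩
          exact ⟨⟨b, Subgroup.subset_closure hb⟩, ⟨hb, fun h => hb' ⟨hb, mul_inv_eq_iff_eq_mul.1 h⟩⟩, rfl⟩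
      rw [← Set.ncard_image_of_injective M Subtype.val_injective, e,
        Set.ncard_sdiff (fun b hb => hb.1) (Set.toFinite _), hB.card]
      have := hsix r hrE hrA
      omega
    have hfib := ncard_le_two_mul φ M fun a ha => ⟨⟨r * a * r⁻¹, hconjA r hrE a a.2⟩, fun c hc e => by
      rcases hpairs r hrE a ha.1 c hc.1 ha.2 hc.2 (congrArg Subtype.val e) with h | h
      exacts [Or.inl (Subtype.ext h), Or.inr (Subtype.ext h)]⟩
    have h1 : (1 : A) ∉ φ '' M := fun ⟨x, hx, hx1⟩ => hx.2 (mul_inv_eq_iff_eq_mul.2 ((hφ x).1 hx1).eq)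
    have hle : (insert 1 (φ '' M)).ncard ≤ (φ.range : Set A).ncard := Set.ncard_le_ncard (Set.insert_subset
      (one_mem _) (by rintro _ ⟨x, -, rfl⟩; exact ⟨x, rfl⟩)) (Set.toFinite _)
    rw [Set.ncard_insert_of_notMem h1 (Set.toFinite _), ← Nat.card_coe_set_eq (φ.range : Set A)] at hle
    haveI : Fact (Nat.Prime 2) := ⟨Nat.prime_two⟩
    have hRp : IsPGroup 2 φ.range := fun k => ⟨1, by
      refine Subtype.ext (Subtype.ext ?_)
      simp only [pow_one, SubgroupClass.coe_pow, OneMemClass.coe_one]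
      rw [pow_two]; exact hAsq _ (k : A).2⟩
    obtain ⟨j, hj⟩ := IsPGroup.iff_card.1 hRp
    simp only [SetLike.coe_sort_coe] at hle
    rw [hj] at hle ⊢
    have : 4 ≤ j := by
      by_contra! h
      have : 2 ^ j ≤ 2 ^ 3 := Nat.pow_le_pow_right (by norm_num) (by omega)
      omega
    calc 16 = 2 ^ 4 := by norm_num
      _ ≤ _ := Nat.pow_le_pow_right (by norm_num) this
  have hAC : 16 * Nat.card C ≤ Nat.card A := by
    rw [← Subgroup.card_mul_index φ.ker, Subgroup.index_ker, hker, mul_comm 16]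
    exact Nat.mul_le_mul le_rfl hrange
  have hE₀C : E₀ ≤ C := fun x hx => ⟨hx.2, Subgroup.mem_centralizer_singleton_iff.2 (hcomE x hx.1 r hrE).eq⟩
  have hCpos : 0 < Nat.card C := Nat.card_pos
  by_cases hsmall : ∀ s ∈ E, s ∈ A ∨ r * s ∈ A
  · have hle : Nat.card E ≤ 2 * Nat.card E₀ := by
      let f : E → Bool × E₀ := fun s => if h : (s : G) ∈ A then (true, ⟨s, s.2, h⟩) else
        (false, ⟨r * s, mul_mem hrE s.2, (hsmall s s.2).resolve_left h⟩)
      have hf : Function.Injective f := by
        intro s t e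
        simp only [f] at e
        split_ifs at e with h1 h2 h2
        · exact Subtype.ext (congrArg (fun q : Bool × E₀ => (q.2 : G)) e)
        · exact absurd (congrArg Prod.fst e) (by simp)
        · exact absurd (congrArg Prod.fst e) (by simp)
        · exact Subtype.ext (mul_left_cancel (congrArg (fun q : Bool × E₀ => (q.2 : G)) e))
      have := Nat.card_le_card_of_injective f hf
      rw [Nat.card_prod, Nat.card_eq_fintype_card (α := Bool), Fintype.card_bool] at this
      exact this
    have := Subgroup.card_le_of_le hE₀C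
    omega
  · push Not at hsmall
    obtain ⟨s, hsE, hsA, hrsA⟩ := hsmall
    set C' := C ⊓ Subgroup.centralizer ({s} : Set G) with hC'
    have hne : C' < C := by
      refine lt_of_le_of_ne inf_le_left fun e => ?_
      have hcov : B ⊆ {b | b ∈ B ∧ Commute s b} ∪ {b | b ∈ B ∧ Commute (r * s) b} := by
        intro b hb
        have hfix : ∀ x ∈ A, Commute r x → Commute s x := fun x hx hrx =>
          (Subgroup.mem_centralizer_singleton_iff.1
            (((e ▸ ⟨hx, Subgroup.mem_centralizer_singleton_iff.2 hrx.eq.symm⟩) : x ∈ C').2)).symm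
        by_cases hrb : r * b * r⁻¹ = b
        · exact Or.inl ⟨hb, hfix b (Subgroup.subset_closure hb) (mul_inv_eq_iff_eq_mul.1 hrb)⟩
        · have hb' := hperm r hrE b hb
          have hx := hfix (b * (r * b * r⁻¹)) (mul_mem (Subgroup.subset_closure hb) (Subgroup.subset_closure hb')) (by
            refine mul_inv_eq_iff_eq_mul.1 ?_
            calc r * (b * (r * b * r⁻¹)) * r⁻¹ = r * b * r⁻¹ * ((r * r) * b * (r⁻¹ * r⁻¹)) := by group
              _ = r * b * r⁻¹ * b := by rw [hsq r hrE, hinv r hrE, hsq r hrE]; simp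
              _ = _ := (hB.comm _ hb' b hb).eq)
          have e' : s * b * s⁻¹ * (s * (r * b * r⁻¹) * s⁻¹) = b * (r * b * r⁻¹) := by
            rw [← mul_inv_eq_iff_eq_mul.2 hx.eq]; group
          rcases Tower.pair_unique hs h4 (hB.sub hb) (hB.sub hb') (Ne.symm hrb) (hB.comm b hb _ hb')
            (hB.sub (hperm s hsE b hb)) (hB.sub (hperm s hsE _ hb'))
            (hB.comm _ (hperm s hsE b hb) _ (hperm s hsE _ hb')) e' with ⟨h, -⟩ | ⟨h, -⟩
          · exact Or.inl ⟨hb, mul_inv_eq_iff_eq_mul.1 h⟩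
          · refine Or.inr ⟨hb, mul_inv_eq_iff_eq_mul.1 ?_⟩
            calc r * s * b * (r * s)⁻¹ = r * (s * b * s⁻¹) * r⁻¹ := by group
              _ = (r * r) * b * (r⁻¹ * r⁻¹) := by rw [h]; group
              _ = b := by rw [hsq r hrE, hinv r hrE, hsq r hrE]; simp
      have := Set.ncard_le_ncard hcov (Set.toFinite _)
      have := Set.ncard_union_le {b | b ∈ B ∧ Commute s b} {b | b ∈ B ∧ Commute (r * s) b}
      have := hsix s hsE hsA
      have := hsix (r * s) (mul_mem hrE hsE) hrsA
      have := hB.card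
      omega
    have hE₀C' : E₀ ≤ C' := fun x hx =>
      ⟨hE₀C hx, Subgroup.mem_centralizer_singleton_iff.2 (hcomE x hx.1 s hsE).eq⟩
    have h2 : 2 * Nat.card C' ≤ Nat.card C := by
      have h := Subgroup.card_mul_index (C'.subgroupOf C)
      rw [Nat.card_congr (Subgroup.subgroupOfEquivOfLe hne.le).toEquiv] at h
      have hi : 2 ≤ (C'.subgroupOf C).index :=
        Subgroup.one_lt_index_of_ne_top fun ht => hne.not_ge (Subgroup.subgroupOf_eq_top.1 ht)
      rw [← h, mul_comm]
      exact Nat.mul_le_mul le_rfl hi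
    have := Subgroup.card_le_of_le hE₀C'
    omega

end Base

/-- A base exists. -/
theorem exists_base [Finite G] (hD : Cfsg.IsThreeTranspositionGroup D) (hprim : Cfsg.IsPrimitiveUnderConj D)
    (h22 : Cfsg.IsOfTypeM22 G D) : ∃ B, IsBase22 D B := by
  obtain ⟨F, _, _, K⟩ := exists_data22 hD hprim h22
  obtain ⟨-, W, hW, hWc, hWn⟩ := width22 hD hprim h22
  obtain ⟨a, b, c, ha, hb, hc, nab, nac, nbc⟩ := (Set.two_lt_ncard_iff (Set.toFinite W)).1 (by omega)
  have h48 := K.ncard_outer (hW ha) (hW hb) (hW hc) nab nac nbc (hWc a ha b hb) (hWc a ha c hc) (hWc b hb c hc)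
  obtain ⟨w, ⟨hw, wa, wb, wc⟩, hwH⟩ := Set.nonempty_of_ncard_ne_zero (by rw [h48]; norm_num)
  exact ⟨_, K.exists_base22 (hW ha) (hW hb) (hW hc) nab nac nbc (hWc a ha b hb) (hWc a ha c hc) (hWc b hb c hc)
    hw wa wb wc hwH⟩

end CfsgLib.ThreeTrans.TypeTop
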