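import Mathlib
import Cfsg.Agent.Lib.ThreeTrans.Tower.Bases
import Cfsg.Agent.Lib.ThreeTrans.Tower.UnitaryPerp
import Cfsg.Agent.Lib.ThreeTrans.TypeTop.Perfect
import Cfsg.Agent.Lib.ThreeTrans.TypeTop.InvolutionTypes
import Cfsg.Agent.Lib.ThreeTrans.TypeTop.InvolutionClasses

/-! Double covers of groups of type M(22): lifts of commuting transpositions commute, and a root of a product of
two commuting transpositions cannot centralize too much. -/

set_option autoImplicit false
set_option linter.unusedSectionVars false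

namespace CfsgLib.ThreeTrans.TypeTop.Cover22

open CfsgLib.ThreeTrans CfsgLib.ThreeTrans.Tower

universe u v

variable {Y : Type u} [Group Y] {D : Set Y}

theorem prod_map_conj {Γ : Type*} [Group Γ] (g : Γ) : ∀ l : List Γ, (∀ y ∈ l, g * y * g⁻¹ = y) →
    g * l.prod * g⁻¹ = l.prod
  | [], _ => by simp
  | a :: t, h => by
    rw [List.prod_cons, show g * (a * t.prod) * g⁻¹ = g * a * g⁻¹ * (g * t.prod * g⁻¹) by group,
      h a (by simp), prod_map_conj g t fun y hy => h y (by simp [hy])]

theorem sq_prod {Γ : Type*} [Group Γ] {s : Γ} : ∀ l : List Γ, (∀ y ∈ l, y * y = s) →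
    (∀ a ∈ l, ∀ b ∈ l, Commute a b) → l.prod * l.prod = s ^ l.length
  | [], _, _ => by simp
  | a :: t, hs, hc => by
    have hcom : Commute a t.prod := Commute.list_prod_right t a fun b hb => hc a (by simp) b (by simp [hb])
    rw [List.prod_cons, List.length_cons, pow_succ', ← sq_prod t (fun y hy => hs y (by simp [hy]))
      (fun p hp q hq => hc p (by simp [hp]) q (by simp [hq])), ← hs a (by simp),
      mul_assoc a t.prod, ← mul_assoc t.prod a, ← hcom.eq, mul_assoc a t.prod t.prod, ← mul_assoc a a]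

variable [Finite Y] {F : Type v} [Field F] [Fintype F] (K : Data22 D F)
include K

/-- Five members commuting with two given commuting members, with product the first. -/
theorem exists_five {a b : Y} (hs : Cfsg.IsThreeTranspositionSet D) (ha : a ∈ D) (hb : b ∈ Dd D a) :
    ∃ l : List Y, l.length = 5 ∧ (∀ y ∈ l, y ∈ Dd D a ∩ Dd D b) ∧ l.prod = a := by
  obtain ⟨E, S, T⟩ := K.stage
  obtain ⟨q, hq⟩ : (Dd D a ∩ Dd D b).Nonempty :=
    Set.nonempty_of_ncard_ne_zero (by rw [S.lam ha hb]; norm_num)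
  obtain ⟨w, ⟨hw, wa, wb, wq⟩, hwH⟩ : ({y | y ∈ D ∧ Commute y a ∧ Commute y b ∧ Commute y q} \ hex D a b q).Nonempty :=
    Set.nonempty_of_ncard_ne_zero (by
      rw [K.ncard_outer ha hb.1 hq.1.1 (Ne.symm hb.2.1) (Ne.symm hq.1.2.1) (Ne.symm hq.2.2.1) hb.2.2 hq.1.2.2 hq.2.2.2]
      norm_num)
  have naw : a ≠ w := fun e => hwH (e ▸ (Data22.mem_hex ha hb.1 hq.1.1).1)
  have nqw : q ≠ w := fun e => hwH (e ▸ (Data22.mem_hex ha hb.1 hq.1.1).2.2)
  have nwb : w ≠ b := fun e => hwH (e ▸ (Data22.mem_hex ha hb.1 hq.1.1).2.1)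
  obtain ⟨f, g, h, hL, hprod, hset, hexch⟩ := K.hex_spec ha hq.1.1 hw (Ne.symm hq.1.2.1) naw nqw hq.1.2.2 wa.symm wq.symm
  have hbH : b ∉ hex D a q w := fun hbH => hwH ⟨hw, fun z hz za zb zq =>
    (hexch b hbH hb.2.1 (Ne.symm hq.2.2.1) z hz za zq zb).symm⟩
  refine ⟨[q, w, f, g, h], rfl, fun y hy => ?_, ?_⟩
  · have hyH : y ∈ hex D a q w := hset ▸ List.mem_cons_of_mem a hy
    exact ⟨hL.mem y hy, hyH.1, fun e => hbH (e ▸ hyH),
      (hyH.2 b hb.1 hb.2.2.symm hq.2.2.2 wb.symm).symm⟩
  · simp only [List.prod_cons, List.prod_nil, mul_one]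
    calc q * (w * (f * (g * h))) = a * (a * q * w * f * g * h) := by simp [mul_assoc, mul_self_mul hs ha]
      _ = a := by rw [hprod, mul_one]

theorem exists_five_near {a : Y} (hs : Cfsg.IsThreeTranspositionSet D) (ha : a ∈ D) :
    ∃ l : List Y, l.length = 5 ∧ (∀ y ∈ l, y ∈ Dd D a) ∧ l.prod = a := by
  obtain ⟨E, S, T⟩ := K.stage
  obtain ⟨b, hb⟩ : (Dd D a).Nonempty := Set.nonempty_of_ncard_ne_zero (by rw [S.deg ha]; norm_num)
  obtain ⟨l, h1, h2, h3⟩ := exists_five K hs ha hb
  exact ⟨l, h1, fun y hy => (h2 y hy).1, h3⟩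

section Cover

variable {C : Type*} [Group C] {φ : C →* Y} {d : C} (hs : Cfsg.IsThreeTranspositionSet D)
  (hφ : Function.Surjective φ) (hd : d * d = 1) (hcen : ∀ g, Commute g d) (hker : ∀ g, φ g = 1 → g = 1 ∨ g = d)
include hs hφ hd hcen hker

omit K [Finite Y] [Field F] [Fintype F] in
theorem same {g g' : C} (h : φ g = φ g') : g' = g ∨ g' = g * d := by
  rcases hker (g⁻¹ * g') (by rw [map_mul, map_inv, h, inv_mul_cancel]) with k | k
  · exact Or.inl (inv_mul_eq_one.1 k).symm
  · exact Or.inr (inv_mul_eq_iff_eq_mul.1 k)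

/-- Lifts of elements commuting with a member commute with its lifts. -/
theorem commute_lift {a g : C} (ha : φ a ∈ D) (hg : Commute (φ g) (φ a)) : Commute g a := by
  classical
  have hsame : ∀ {g g' : C}, φ g = φ g' → g' = g ∨ g' = g * d := fun h => same hs hφ hd hcen hker h
  choose σ hσ using hφ
  have hnear : ∀ q : C, φ q ∈ Dd D (φ a) → Commute q a := by
    intro q₀ hq₀
    by_contra hnot
    have hall : ∀ q, φ q ∈ Dd D (φ a) → q * a * q⁻¹ = a * d := by
      intro q hq
      rcases hsame (g := a) (g' := q * a * q⁻¹) (by rw [map_mul, map_mul, map_inv, ← hq.2.2.eq, mul_inv_cancel_right]) with k | k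
      swap
      · exact k
      exfalso
      obtain ⟨y, hy, hyq⟩ := K.loc.perp (φ a) ha (φ q) hq (φ q₀) hq₀
      refine hnot ?_
      have hc := (commute_conj_iff (σ y) q a).2 (mul_inv_eq_iff_eq_mul.1 k)
      rcases hsame (g := a) (g' := σ y * a * (σ y)⁻¹) (by
        rw [map_mul, map_mul, map_inv, hσ, hy.eq, mul_inv_cancel_right]) with e | e <;>
      rcases hsame (g := σ y * q * (σ y)⁻¹) (g' := q₀) (by rw [map_mul, map_mul, map_inv, hσ, hyq]) with e' | e' <;>
      rw [e] at hc <;> rw [e']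
      · exact hc
      · exact hc.mul_left (hcen a).symm
      · simpa [mul_assoc, hd] using hc.mul_right ((hcen _ : Commute (σ y * q * (σ y)⁻¹) d))
      · refine (Commute.mul_left ?_ (hcen a).symm)
        simpa [mul_assoc, hd] using hc.mul_right ((hcen _ : Commute (σ y * q * (σ y)⁻¹) d))
    obtain ⟨l, hlen, hl, hprod⟩ := exists_five_near K hs ha
    have hmap : φ (l.map σ).prod = φ a := by
      rw [map_list_prod, List.map_map, ← hprod]
      congr 1
      exact (List.map_congr_left fun x _ => hσ x).trans (List.map_id _)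
    have hpd : ∀ m : List Y, (∀ y ∈ m, y ∈ l) → (m.map σ).prod * a * (m.map σ).prod⁻¹ = a * d ^ m.length := by
      intro m hm
      induction m with
      | nil => simp
      | cons b t iht =>
        rw [List.map_cons, List.prod_cons, List.length_cons, mul_inv_rev,
          show σ b * (t.map σ).prod * a * ((t.map σ).prod⁻¹ * (σ b)⁻¹) =
            σ b * ((t.map σ).prod * a * (t.map σ).prod⁻¹) * (σ b)⁻¹ by group, iht fun q hq => hm q (by simp [hq]),
          show σ b * (a * d ^ t.length) * (σ b)⁻¹ = σ b * a * (σ b)⁻¹ * (σ b * d ^ t.length * (σ b)⁻¹) by group,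
          hall (σ b) (by rw [hσ]; exact hl b (hm b (by simp))), ((hcen (σ b)).pow_right _).eq, mul_inv_cancel_right,
          mul_assoc, ← pow_succ']
    have h5 := hpd l fun y hy => hy
    have hcom : Commute (l.map σ).prod a := by
      rcases hsame hmap.symm with e | e <;> rw [e]
      exact (Commute.refl a).mul_left (hcen a).symm
    rw [hcom.eq, mul_inv_cancel_right, hlen, left_eq_mul] at h5
    have h5 : d = 1 := by simpa [pow_succ, mul_assoc, hd] using h5
    exact hnot (mul_inv_eq_iff_eq_mul.1 ((hall q₀ hq₀).trans (by rw [h5, mul_one])))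
  have key : ∀ y ∈ Kc D (φ a), ∀ g : C, φ g = y → Commute g a := by
    intro y hy
    induction hy using Subgroup.closure_induction with
    | mem y hy =>
      intro g hg
      by_cases e : y = φ a
      · rcases hsame (show φ a = φ g by rw [hg, e]) with k | k <;> rw [k]
        exact (Commute.refl a).mul_left (hcen a).symm
      · exact hnear g (hg ▸ ⟨hy.1, e, hy.2⟩)
    | one =>
      intro g hg
      rcases hker g hg with k | k <;> rw [k]
      exacts [Commute.one_left a, (hcen a).symm]
    | mul p q _ _ hp hq =>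
      intro g hg
      rcases hsame (g := σ p * σ q) (g' := g) (by rw [map_mul, hσ, hσ, hg]) with k | k <;> rw [k]
      exacts [(hp _ (hσ p)).mul_left (hq _ (hσ q)), ((hp _ (hσ p)).mul_left (hq _ (hσ q))).mul_left (hcen a).symm]
    | inv p _ hp =>
      intro g hg
      rcases hsame (g := (σ p)⁻¹) (g' := g) (by rw [map_inv, hσ, hg]) with k | k <;> rw [k]
      exacts [(hp _ (hσ p)).inv_left, ((hp _ (hσ p)).inv_left).mul_left (hcen a).symm]
  exact key _ (K.loc.stab _ ha _ hg) g rfl

omit K [Finite Y] [Field F] [Fintype F] in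
theorem sq_same {g g' : C} (h : φ g = φ g') : g' * g' = g * g := by
  rcases same hs hφ hd hcen hker h with rfl | rfl
  · rfl
  · rw [mul_assoc, ← mul_assoc d, ← (hcen g).eq, mul_assoc g d, hd, mul_one]

/-- All lifts of members have the same square. -/
theorem sq_const {a b : C} (ha : φ a ∈ D) (hb : φ b ∈ D) : b * b = a * a := by
  obtain ⟨g, hg⟩ := K.loc.rigid.class_eq _ ha _ hb
  obtain ⟨u, rfl⟩ := hφ g
  rw [sq_same hs hφ hd hcen hker (show φ (u * a * u⁻¹) = φ b by rw [map_mul, map_mul, map_inv, hg]),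
    show u * a * u⁻¹ * (u * a * u⁻¹) = u * (a * a) * u⁻¹ by group]
  rcases hker (a * a) (by rw [map_mul, mul_self hs ha]) with k | k <;> rw [k]
  · simp
  · rw [(hcen u).eq, mul_inv_cancel_right]

/-- The square of a lift of a product of commuting members. -/
theorem isProd_sq {n : ℕ} {x a : C} (hx : IsProd D n (φ x)) (ha : φ a ∈ D) : x * x = (a * a) ^ n := by
  classical
  obtain ⟨l, -, hlen, hl, hc, hprod⟩ := hx
  choose σ hσ using id hφ
  have hmap : φ (l.map σ).prod = φ x := by
    rw [map_list_prod, List.map_map, ← hprod]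
    congr 1
    exact (List.map_congr_left fun y _ => hσ y).trans (List.map_id _)
  rw [sq_same hs hφ hd hcen hker hmap, sq_prod (s := a * a) _ (fun y hy => ?_) (fun p hp q hq => ?_), List.length_map, hlen]
  · obtain ⟨z, hz, rfl⟩ := List.mem_map.1 hy
    exact sq_const K hs hφ hd hcen hker ha (by rw [hσ]; exact hl z hz)
  · obtain ⟨p', hp', rfl⟩ := List.mem_map.1 hp
    obtain ⟨q', hq', rfl⟩ := List.mem_map.1 hq
    exact commute_lift K hs hφ hd hcen hker (by rw [hσ]; exact hl q' hq') (by rw [hσ, hσ]; exact hc p' hp' q' hq')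

end Cover

/-- A square root of a product of two commuting members does not centralize a subgroup of index two in the
centraliser of the two. -/
theorem root_false (hs : Cfsg.IsThreeTranspositionSet D) (hself : ∀ a ∈ D, a ∈ Hd D a) {a b c : Y} (ha : a ∈ D)
    (hb : b ∈ Dd D a) (hc2 : c * c = a * b) {good : Y → Prop}
    (hgood : ∀ h, good h → Commute c h)
    (hbad : ∀ h h', Commute h a → Commute h b → Commute h' a → Commute h' b → ¬ good h → ¬ good h' → good (h * h'))
    (hmul : ∀ h h', good h → good h' → good (h * h')) (hinv : ∀ h, good h → good h⁻¹)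
    (hca : Commute c a → good a) : False := by
  classical
  obtain ⟨E, S, T⟩ := K.stage
  have hba : a ∈ Dd D b := Dd_symm ha hb
  have hcomm : Commute c (a * b) := by rw [← hc2]; exact (Commute.refl c).mul_right (Commute.refl c)
  have himg : c * a * c⁻¹ * (c * b * c⁻¹) = a * b := by
    rw [show c * a * c⁻¹ * (c * b * c⁻¹) = c * (a * b) * c⁻¹ by group, hcomm.eq, mul_inv_cancel_right]
  have hclosed := K.closed
  obtain ⟨five, hlen, hfive, hprod⟩ := exists_five K hs ha hb
  by_cases hfix : Commute c a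
  · have hfixb : Commute c b := by
      have := hfix.inv_right.mul_right hcomm
      rwa [inv_mul_cancel_left] at this
    -- the property is constant on the common neighbours
    have hconst : ∀ q ∈ Dd D a ∩ Dd D b, ∀ q' ∈ Dd D a ∩ Dd D b, good q → good q' := by
      intro q hq q' hq' hgq
      obtain ⟨π, M⟩ := S.base a ha
      obtain ⟨t, ht, ht'⟩ := S.loc.perp _ (M.mem hb) _ ((M.mem_Dd hb hq.1).2 hq.2) _ ((M.mem_Dd hb hq'.1).2 hq'.2)
      obtain ⟨k, rfl⟩ := M.base.surj t
      have k1 : Commute (k : Y) a := commute_of_mem_Hd k.2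
      have k2 : Commute (k : Y) b := mul_inv_eq_iff_eq_mul.1 (M.inj (M.conj_mem k hb) hb (by
        rw [M.phi_conj k hb, ht.eq, mul_inv_cancel_right]))
      have k3 : (k : Y) * q * (k : Y)⁻¹ = q' := M.inj (M.conj_mem k hq.1) hq'.1 ((M.phi_conj k hq.1).trans ht')
      have q1 : Commute q a := hq.1.2.2.symm
      have q2 : Commute q b := hq.2.2.2.symm
      rw [← k3]
      by_cases hk : good k
      · exact hmul _ _ (hmul _ _ hk hgq) (hinv _ hk)
      · have hk' : ¬ good (k : Y)⁻¹ := fun h => hk (inv_inv (k : Y) ▸ hinv _ h)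
        have hkq : ¬ good ((k : Y) * q) := fun h => hk (by simpa [mul_assoc] using hmul _ _ h (hinv _ hgq))
        exact hbad _ _ (k1.mul_left q1) (k2.mul_left q2) k1.inv_left k2.inv_left hkq hk'
    have hall : ∀ q ∈ Dd D a ∩ Dd D b, good q := by
      by_contra! hex'
      obtain ⟨q₀, hq₀, hnq⟩ := hex'
      have hnone : ∀ q ∈ Dd D a ∩ Dd D b, ¬ good q := fun q hq h => hnq (hconst q hq q₀ hq₀ h)
      have hc' : ∀ q ∈ Dd D a ∩ Dd D b, Commute q a ∧ Commute q b := fun q hq => ⟨hq.1.2.2.symm, hq.2.2.2.symm⟩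
      match five, hlen, hfive, hprod with
      | [x₁, x₂, x₃, x₄, x₅], _, hfive, hprod =>
        have m₁ := hfive x₁ (by simp)
        have m₂ := hfive x₂ (by simp)
        have m₃ := hfive x₃ (by simp)
        have m₄ := hfive x₄ (by simp)
        have m₅ := hfive x₅ (by simp)
        have e12 := hbad _ _ (hc' _ m₁).1 (hc' _ m₁).2 (hc' _ m₂).1 (hc' _ m₂).2 (hnone _ m₁) (hnone _ m₂)
        have e34 := hbad _ _ (hc' _ m₃).1 (hc' _ m₃).2 (hc' _ m₄).1 (hc' _ m₄).2 (hnone _ m₃) (hnone _ m₄)
        refine hnone _ m₅ ?_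
        have := hmul _ _ (hinv _ (hmul _ _ e12 e34)) (hca hfix)
        rw [show a = x₁ * x₂ * (x₃ * x₄) * x₅ by rw [← hprod]; simp [mul_assoc], inv_mul_cancel_left] at this
        exact this
    have hcH : c ∈ Hd D a := by
      obtain ⟨u, hu⟩ := Model.Kc_decomp hs ha (K.loc.stab a ha c hfix)
      rcases hu with rfl | rfl
      exacts [u.2, mul_mem (hself a ha) u.2]
    obtain ⟨π, M⟩ := S.base a ha
    obtain ⟨θ, -, -, -, -, -, hcen⟩ := T.exists_perp_quot K.four (M.mem hb)
    have hπe : π ⟨b, Subgroup.subset_closure hb⟩ = phi π b := (phi_of_mem π hb).symm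
    have hwe : Commute (π ⟨c, hcH⟩) (phi π b) := hπe ▸ Commute.map
      (show Commute (⟨c, hcH⟩ : Hd D a) ⟨b, Subgroup.subset_closure hb⟩ from Subtype.ext hfixb) π
    have hw := hcen ⟨π ⟨c, hcH⟩, Subgroup.mem_centralizer_singleton_iff.2 hwe.eq⟩ fun t => by
      refine Subtype.ext ?_
      show Commute (π ⟨c, hcH⟩) t.1
      have ht := S.loc.stab _ (M.mem hb) t.1 (Subgroup.mem_centralizer_singleton_iff.1 t.2)
      generalize t.1 = u at ht ⊢
      induction ht using Subgroup.closure_induction with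
      | mem z hz =>
        by_cases e : z = phi π b
        · exact e ▸ hwe
        obtain ⟨q, hq, rfl⟩ := M.onto hz.1
        have hq' : q ∈ Dd D b := (M.mem_Dd hb hq).1 ⟨hz.1, e, hz.2⟩
        rw [phi_of_mem π (x := ⟨q, Subgroup.subset_closure hq⟩) hq]
        exact Commute.map (show Commute (⟨c, hcH⟩ : Hd D a) ⟨q, Subgroup.subset_closure hq⟩ from
          Subtype.ext (hgood q (hall q ⟨hq, hq'⟩))) π
      | one => exact Commute.one_right _
      | mul p q _ _ hp hq => exact hp.mul_right hq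
      | inv p _ hp => exact hp.inv_right
    have ab : a * b * (a * b) = 1 := by
      rw [mul_assoc, ← mul_assoc b a b, ← hb.2.2.eq, mul_assoc a b b, mul_self hs hb.1, mul_one, mul_self hs ha]
    have hab1 : a * b ≠ 1 := fun e => hb.2.1 ((mul_eq_one_iff_eq' hs hb.1).1 e).symm
    refine hab1 ?_
    rw [← hc2]
    have hw : π ⟨c, hcH⟩ = 1 ∨ π ⟨c, hcH⟩ = phi π b := hw
    rcases hw with hw | hw
    · rcases S.kernel ha hfix ((M.base.map_eq_one_iff' (⟨c, hcH⟩ : Hd D a)).1 hw) with h | h <;> rw [h]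
      exacts [one_mul 1, mul_self hs ha]
    · have h1 : π (⟨c, hcH⟩ * ⟨b, Subgroup.subset_closure hb⟩) = 1 := by
        rw [map_mul, hw, hπe, mul_self T.set (M.mem hb)]
      rcases S.kernel ha (commute_of_mem_Hd (⟨c, hcH⟩ * ⟨b, Subgroup.subset_closure hb⟩ : Hd D a).2)
        ((M.base.map_eq_one_iff' _).1 h1) with h | h
      all_goals
        rw [Subgroup.coe_mul] at h
        have hcb : c = c * b * b := by rw [mul_assoc, mul_self hs hb.1, mul_one]
        rw [hcb]
        show c * b * b * (c * b * b) = 1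
        rw [h]
      exacts [by rw [one_mul, mul_self hs hb.1], ab]
  · have hswap : c * a * c⁻¹ = b ∧ c * b * c⁻¹ = a := by
      rcases CfsgLib.ThreeTrans.Tower.pair_unique hs K.rel ha hb.1 (Ne.symm hb.2.1) hb.2.2 (hclosed.conj c a ha) (hclosed.conj c b hb.1)
        ((commute_conj_iff c a b).2 hb.2.2) himg with h | h
      · exact absurd (mul_inv_eq_iff_eq_mul.1 h.1) hfix
      · exact h
    have hna : ¬ good a := fun h => hfix (hgood a h)
    have hall : ∀ q ∈ Dd D a ∩ Dd D b, good q := by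
      intro q hq
      by_contra hnq
      have hqa := hgood _ (hbad q a hq.1.2.2.symm hq.2.2.2.symm (Commute.refl a) hb.2.2 hnq hna)
      have he : c * q * c⁻¹ * b = q * a := by
        rw [← hswap.1, show c * q * c⁻¹ * (c * a * c⁻¹) = c * (q * a) * c⁻¹ by group, hqa.eq, mul_inv_cancel_right]
      have hcq : Commute (c * q * c⁻¹) b := hswap.1 ▸ (commute_conj_iff c q a).2 hq.1.2.2.symm
      rcases CfsgLib.ThreeTrans.Tower.pair_unique hs K.rel hq.1.1 ha hq.1.2.1 hq.1.2.2.symm (hclosed.conj c q hq.1.1) hb.1 hcq he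
        with ⟨-, h⟩ | ⟨-, h⟩
      · exact hb.2.1 h
      · exact hq.2.2.1 h.symm
    refine hfix (mul_inv_eq_iff_eq_mul.1 ?_)
    have := prod_map_conj c five fun y hy => by
      rw [(hgood y (hall y (hfive y hy))).eq, mul_inv_cancel_right]
    rwa [hprod] at this

end CfsgLib.ThreeTrans.TypeTop.Cover22
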